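import Mathlib

set_option autoImplicit false
universe u

namespace Groth.Agent.H5.Curve6

/-- if the maximal ideal of the localization at a finitely generated prime `p` is principal, then
after inverting one element outside `p`, the prime `p` is generated by one element of `p`. -/
theorem exists_smul_le_span {A : Type*} [CommRing A] (p : Ideal A) [p.IsPrime] (hp : p.FG)
    (S : Type*) [CommRing S] [Algebra A S] [IsLocalization.AtPrime S p]
    (h : haveI := IsLocalization.AtPrime.isLocalRing S p
      (IsLocalRing.maximalIdeal S).IsPrincipal) :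
    ∃ g : A, g ∉ p ∧ ∃ a ∈ p, (haveI := IsLocalization.AtPrime.isLocalRing S p
      IsLocalRing.maximalIdeal S = Ideal.span {algebraMap A S a}) ∧
      ∀ b ∈ p, ∃ c : A, g * b = c * a := by
  haveI := IsLocalization.AtPrime.isLocalRing S p
  obtain ⟨π, hπ⟩ := h.principal
  have hmax : IsLocalRing.maximalIdeal S = Ideal.map (algebraMap A S) p :=
    (IsLocalization.AtPrime.map_eq_maximalIdeal p S).symm
  -- write π = a / s
  obtain ⟨⟨a, s⟩, hπas⟩ := IsLocalization.surj p.primeCompl π
  have hs : (s : A) ∉ p := s.2
  have hsu : IsUnit (algebraMap A S (s : A)) := IsLocalization.map_units S s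
  have hπmem : π ∈ IsLocalRing.maximalIdeal S := by
    rw [hπ]; exact Submodule.mem_span_singleton_self π
  have haS : algebraMap A S a ∈ IsLocalRing.maximalIdeal S := by
    rw [← hπas]; exact Ideal.mul_mem_right _ _ hπmem
  have hap : a ∈ p := by
    rw [hmax] at haS
    have := (IsLocalization.AtPrime.comap_maximalIdeal S p)
    rw [← this, Ideal.mem_comap, hmax]
    exact haS
  -- the maximal ideal is generated by the image of a
  have hgen : IsLocalRing.maximalIdeal S = Ideal.span {algebraMap A S a} := by
    rw [hπ]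
    apply le_antisymm
    · rw [Submodule.span_singleton_le_iff_mem]
      obtain ⟨u, hu⟩ := hsu
      have : π = algebraMap A S a * (↑u⁻¹ : S) := by
        rw [← hπas, ← hu, mul_assoc, Units.mul_inv, mul_one]
      rw [this]
      exact Ideal.mul_mem_right _ _ (Submodule.mem_span_singleton_self _)
    · rw [Submodule.span_singleton_le_iff_mem, ← hπas]
      exact Ideal.mul_mem_right _ _ (Submodule.mem_span_singleton_self _)
  -- each element of p is, up to an element outside p, a multiple of a
  have key : ∀ b ∈ p, ∃ g : A, g ∉ p ∧ ∃ c : A, g * b = c * a := by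
    intro b hb
    have hbS : algebraMap A S b ∈ Ideal.span {algebraMap A S a} := by
      rw [← hgen, hmax]
      exact Ideal.mem_map_of_mem _ hb
    obtain ⟨z, hz⟩ := Ideal.mem_span_singleton'.mp hbS
    obtain ⟨⟨c, t⟩, hct⟩ := IsLocalization.surj p.primeCompl z
    -- z * t = c, so b * t = c * a in S
    have h1 : algebraMap A S (b * t) = algebraMap A S (c * a) := by
      rw [map_mul, map_mul, ← hz, ← hct]
      ring
    obtain ⟨u, hu⟩ := (IsLocalization.eq_iff_exists p.primeCompl S).mp h1
    refine ⟨u * t, ?_, u * c, ?_⟩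
    · exact (u * t).2
    · calc (u : A) * t * b = u * (b * t) := by ring
        _ = u * (c * a) := hu
        _ = u * c * a := by ring
  -- induction on generators
  obtain ⟨T, hT⟩ := hp
  have hT' : ∀ b ∈ T, b ∈ p := fun b hb => hT ▸ Ideal.subset_span hb
  choose! g hg c hc using key
  refine ⟨∏ b ∈ T, g b, ?_, a, hap, hgen, ?_⟩
  · intro hmem
    obtain ⟨b, hbT, hb⟩ := (Ideal.IsPrime.prod_mem_iff).mp hmem
    exact hg b (hT' b hbT) hb
  · intro b hb
    rw [← hT] at hb
    refine Submodule.span_induction ?_ ?_ ?_ ?_ hb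
    · intro x hx
      obtain ⟨d, hd⟩ := Finset.dvd_prod_of_mem g hx
      refine ⟨d * c x, ?_⟩
      rw [hd]
      calc g x * d * x = d * (g x * x) := by ring
        _ = d * (c x * a) := by rw [hc x (hT' x hx)]
        _ = d * c x * a := by ring
    · exact ⟨0, by simp⟩
    · rintro x y _ _ ⟨cx, hx⟩ ⟨cy, hy⟩
      exact ⟨cx + cy, by rw [mul_add, hx, hy, add_mul]⟩
    · rintro r x _ ⟨cx, hx⟩
      exact ⟨r * cx, by rw [smul_eq_mul, mul_left_comm, hx, mul_assoc]⟩

end Groth.Agent.H5.Curve6
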