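import Mathlib
import Groth.Agent.Lib.Helper5.Curve6.RP1
import Groth.Agent.Lib.Helper5.Curve3.LocEq
import Groth.Prelude.Def_BlowUp2

set_option autoImplicit false
universe u
open CategoryTheory CategoryTheory.Limits AlgebraicGeometry TopologicalSpace Opposite

namespace Groth.Agent.H5.Curve6

open Groth.Agent.H5.Curve3

variable {X : Scheme.{u}}

/-- the ideal of a closed point on an affine open containing it. -/
lemma vanishingIdeal_singleton_ideal_of_mem (x : X) (hx : IsClosed ({x} : Set X))
    (U : X.affineOpens) (hxU : x ∈ U.1) :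
    (Scheme.IdealSheafData.vanishingIdeal ⟨{x}, hx⟩).ideal U =
      (U.2.primeIdealOf ⟨x, hxU⟩).asIdeal := by
  rw [Scheme.IdealSheafData.vanishingIdeal_ideal]
  have : U.2.fromSpec ⁻¹' ((⟨{x}, hx⟩ : Closeds X) : Set X) = {U.2.primeIdealOf ⟨x, hxU⟩} := by
    ext q
    simp only [Set.mem_preimage, Closeds.coe_mk, Set.mem_singleton_iff]
    constructor
    · intro h
      apply U.2.fromSpec.isOpenEmbedding.injective
      rw [h, U.2.fromSpec_primeIdealOf]
    · rintro rfl
      exact U.2.fromSpec_primeIdealOf ⟨x, hxU⟩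
  exact (congrArg PrimeSpectrum.vanishingIdeal this).trans
    (PrimeSpectrum.vanishingIdeal_singleton _)

/-- the ideal of a closed point on an affine open not containing it. -/
lemma vanishingIdeal_singleton_ideal_of_notMem (x : X) (hx : IsClosed ({x} : Set X))
    (U : X.affineOpens) (hxU : x ∉ U.1) :
    (Scheme.IdealSheafData.vanishingIdeal ⟨{x}, hx⟩).ideal U = ⊤ := by
  rw [Scheme.IdealSheafData.vanishingIdeal_ideal]
  have : U.2.fromSpec ⁻¹' ((⟨{x}, hx⟩ : Closeds X) : Set X) = ∅ := by
    ext q
    simp only [Set.mem_preimage, Closeds.coe_mk, Set.mem_singleton_iff, Set.mem_empty_iff_false,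
      iff_false]
    intro h
    apply hxU
    rw [← h]
    have := U.2.range_fromSpec
    have h2 : U.2.fromSpec q ∈ Set.range U.2.fromSpec := ⟨q, rfl⟩
    rw [this] at h2
    exact h2
  exact (congrArg PrimeSpectrum.vanishingIdeal this).trans PrimeSpectrum.vanishingIdeal_empty

/-- **the ideal sheaf of a closed point of an integral locally Noetherian scheme whose local ring
has a principal nonzero maximal ideal is an effective Cartier divisor.** -/
theorem isEffCartierIdeal_vanishingIdeal_singleton [IsIntegral X] [IsLocallyNoetherian X]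
    (x : X) (hx : IsClosed ({x} : Set X))
    (hpr : (IsLocalRing.maximalIdeal (X.presheaf.stalk x)).IsPrincipal)
    (hnf : IsLocalRing.maximalIdeal (X.presheaf.stalk x) ≠ ⊥) :
    BlowUp.IsEffCartierIdeal (Scheme.IdealSheafData.vanishingIdeal ⟨{x}, hx⟩) := by
  intro y
  by_cases hy : y = x
  · subst hy
    obtain ⟨_, ⟨U, hU, rfl⟩, hxU, -⟩ :=
      X.isBasis_affineOpens.exists_subset_of_mem_open (Set.mem_univ y) isOpen_univ
    haveI : IsNoetherianRing Γ(X, U) := IsLocallyNoetherian.component_noetherian ⟨U, hU⟩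
    letI : Algebra Γ(X, U) (X.presheaf.stalk y) :=
      TopCat.Presheaf.algebra_section_stalk X.presheaf ⟨y, hxU⟩
    haveI hloc : IsLocalization.AtPrime (X.presheaf.stalk y)
        (hU.primeIdealOf ⟨y, hxU⟩).asIdeal := hU.isLocalization_stalk ⟨y, hxU⟩
    have hfg : (hU.primeIdealOf ⟨y, hxU⟩).asIdeal.FG := (isNoetherianRing_iff_ideal_fg _).mp inferInstance _
    obtain ⟨g, hg, a, hap, hgen, hmul⟩ :=
      exists_smul_le_span (hU.primeIdealOf ⟨y, hxU⟩).asIdeal hfg (X.presheaf.stalk y) hpr
    have hyg : y ∈ X.basicOpen g := (mem_basicOpen_iff_notMem_primeIdealOf hU g y hxU).mpr hg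
    refine ⟨X.affineBasicOpen (U := ⟨U, hU⟩) g, hyg, X.presheaf.map (homOfLE (X.basicOpen_le g)).op a, ?_, ?_⟩
    · -- nonzerodivisor
      haveI : Nonempty (X.basicOpen g) := ⟨⟨y, hyg⟩⟩
      haveI : IsDomain Γ(X, X.basicOpen g) := inferInstance
      change (X.presheaf.map (homOfLE (X.basicOpen_le g)).op).hom a ∈
        nonZeroDivisors Γ(X, X.basicOpen g)
      apply mem_nonZeroDivisors_of_ne_zero
      intro h0
      apply hnf
      rw [hgen]
      have h1 : algebraMap Γ(X, U) (X.presheaf.stalk y) a =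
          X.presheaf.germ (X.basicOpen g) y hyg
            (X.presheaf.map (homOfLE (X.basicOpen_le g)).op a) := by
        rw [TopCat.Presheaf.germ_res_apply]
        rfl
      rw [h1, h0, map_zero]
      simp
    · rw [← (Scheme.IdealSheafData.vanishingIdeal ⟨{y}, hx⟩).map_ideal_basicOpen ⟨U, hU⟩ g,
        vanishingIdeal_singleton_ideal_of_mem y hx ⟨U, hU⟩ hxU]
      apply le_antisymm
      · refine Ideal.map_le_iff_le_comap.mpr ?_
        intro b hb
        obtain ⟨c, hc⟩ := hmul b hb
        rw [Ideal.mem_comap]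
        have hu : IsUnit ((X.presheaf.map (homOfLE (X.basicOpen_le g)).op).hom g) :=
          X.toRingedSpace.isUnit_res_basicOpen g
        obtain ⟨w, hw⟩ := hu
        have h2 := congrArg (X.presheaf.map (homOfLE (X.basicOpen_le g)).op).hom hc
        rw [map_mul, map_mul, ← hw] at h2
        have h3 : (X.presheaf.map (homOfLE (X.basicOpen_le g)).op).hom b =
            (↑w⁻¹ * (X.presheaf.map (homOfLE (X.basicOpen_le g)).op).hom c) *
              (X.presheaf.map (homOfLE (X.basicOpen_le g)).op).hom a := by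
          rw [mul_assoc, ← h2, ← mul_assoc, Units.inv_mul, one_mul]
        rw [h3]
        exact Ideal.mul_mem_left _ _ (Ideal.subset_span rfl)
      · rw [Ideal.span_le, Set.singleton_subset_iff]
        exact Ideal.mem_map_of_mem _ hap
  · have hyo : y ∈ ({x}ᶜ : Set X) := hy
    obtain ⟨_, ⟨U, hU, rfl⟩, hyU, hUx⟩ :=
      X.isBasis_affineOpens.exists_subset_of_mem_open hyo hx.isOpen_compl
    refine ⟨⟨U, hU⟩, hyU, 1, one_mem _, ?_⟩
    rw [vanishingIdeal_singleton_ideal_of_notMem x hx ⟨U, hU⟩ (fun h => hUx h rfl)]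
    exact Ideal.span_singleton_one.symm

end Groth.Agent.H5.Curve6
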