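import Mathlib
import Groth.Agent.Lib.Helper5.Curve6.RP2
import Groth.Agent.Lib.Helper5.Curve1.G
import Groth.Agent.Lib.Helper5.Curve3.Proj
import Groth.Agent.Lib.Helper1.SmoothReg

set_option autoImplicit false
universe u
open CategoryTheory CategoryTheory.Limits AlgebraicGeometry TopologicalSpace Opposite

namespace Groth.Agent.H5.Curve6

open Groth.Agent.H5.Curve3

/-- a regular closed point, different from the generic point, of an integral locally Noetherian
scheme of dimension `≤ 1` is an effective Cartier divisor. -/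
theorem isEffCartierIdeal_of_isRegularLocalRing {X : Scheme.{u}} [IsIntegral X]
    [IsLocallyNoetherian X] (hdim : topologicalKrullDim X ≤ 1) (x : X)
    (hx : IsClosed ({x} : Set X)) (hne : x ≠ genericPoint X)
    (hreg : IsRegularLocalRing (X.presheaf.stalk x)) :
    BlowUp.IsEffCartierIdeal (Scheme.IdealSheafData.vanishingIdeal ⟨{x}, hx⟩) := by
  have h1 := Groth.Agent.H5.Curve1.ringKrullDim_stalk_eq_one hdim x hne
  have h2 := hreg.spanFinrank_maximalIdeal
  rw [h1] at h2
  have h3 : (IsLocalRing.maximalIdeal (X.presheaf.stalk x)).spanFinrank = 1 := by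
    exact_mod_cast h2
  obtain ⟨h4, h5⟩ := (Submodule.spanFinrank_eq_one_iff _).mp h3
  exact isEffCartierIdeal_vanishingIdeal_singleton x hx h4 h5

variable (k : Type u) [Field k] [PerfectField k] (X : Scheme.{u})
  [X.Over (Spec (CommRingCat.of k))] [IsProper (X ↘ Spec (CommRingCat.of k))] [IsIntegral X]

include k in
/-- **every nonempty open subset of an integral proper curve over a perfect field contains a
closed point which is an effective Cartier divisor.** -/
theorem exists_closed_point_effCartier (hdim : topologicalKrullDim X = 1) (W : X.Opens)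
    (hW : (W : Set X).Nonempty) :
    ∃ (x : X) (hx : IsClosed ({x} : Set X)), x ∈ W ∧
      BlowUp.IsEffCartierIdeal (Scheme.IdealSheafData.vanishingIdeal ⟨{x}, hx⟩) := by
  haveI : IsLocallyNoetherian X := Groth.Agent.LD.Curve.isLocallyNoetherian k X
  haveI : LocallyOfFinitePresentation (X ↘ Spec (CommRingCat.of k)) :=
    LocallyOfFinitePresentation.iff_locallyOfFiniteType.mpr inferInstance
  haveI : JacobsonSpace X := LocallyOfFiniteType.jacobsonSpace (X ↘ Spec (CommRingCat.of k))
  have hdense := Scheme.Hom.dense_smoothLocus_of_perfectField (X ↘ Spec (CommRingCat.of k))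
  obtain ⟨z, hzW, hzS⟩ := hdense.inter_open_nonempty _ W.2 hW
  have hne : ((W ⊓ (X ↘ Spec (CommRingCat.of k)).smoothLocus : X.Opens) : Set X).Nonempty :=
    ⟨z, hzW, hzS⟩
  obtain ⟨x, ⟨hxW, hxS⟩, hxcl⟩ := nonempty_inter_closedPoints hne
    (W ⊓ (X ↘ Spec (CommRingCat.of k)).smoothLocus).2.isLocallyClosed
  have hxcl' : IsClosed ({x} : Set X) := hxcl
  refine ⟨x, hxcl', hxW, ?_⟩
  have hreg := Groth.Agent.H1.SmoothReg.isRegularLocalRing_of_mem_smoothLocus k
    (X ↘ Spec (CommRingCat.of k)) x hxS
  apply isEffCartierIdeal_of_isRegularLocalRing hdim.le x hxcl' _ hreg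
  intro hgen
  have huniv : (Set.univ : Set X) = {x} := by
    have := (genericPoint_spec X).def
    rw [← hgen, hxcl'.closure_eq] at this
    exact this.symm
  haveI : Subsingleton X := by
    constructor
    intro a b
    have ha : a ∈ (Set.univ : Set X) := Set.mem_univ a
    have hb : b ∈ (Set.univ : Set X) := Set.mem_univ b
    rw [huniv] at ha hb
    rw [Set.mem_singleton_iff] at ha hb
    rw [ha, hb]
  have := topologicalKrullDim_nonpos_of_subsingleton X
  rw [hdim] at this
  exact absurd this (by decide)

end Groth.Agent.H5.Curve6
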