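import Mathlib
import Groth.Agent.Lib.Helper5.Curve6.RP3
import Groth.Agent.Lib.Helper5.IntN.BC4
import Groth.Agent.Lib.Helper5.Curve3.SmInt
import Groth.Agent.Lib.Helper5.Curve4.Tors1
import Groth.Agent.Lib.Helper5.DegC.Cartier

set_option autoImplicit false
universe u
open CategoryTheory CategoryTheory.Limits AlgebraicGeometry TopologicalSpace Opposite

namespace Groth.Agent.H5.Curve6

open Groth.Agent.LD Groth.Agent.LD.QC Groth.Agent.H5.Curve2 Groth.Agent.H5.Curve4
open Groth.Agent.H5.DegC Groth.Agent.H5.Snap Groth.Agent.H5.IntN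

variable (k : Type u) [Field k] (X : Scheme.{u}) [X.Over (Spec (CommRingCat.of k))]
  [IsProper (X ↘ Spec (CommRingCat.of k))]

/-- `h⁰(O_{closure x}) = 1` over an algebraically closed field. -/
theorem finrank_H0_quotMod_vI [IsAlgClosed k] (x : X) :
    Module.finrank k (Coh.HH X (ClSub.quotMod (vI x)) 0) = 1 := by
  haveI := isIntegral_vI x
  letI : (vI x).subscheme.Over (Spec (CommRingCat.of k)) := overOf k (vI x).subschemeι
  haveI : (vI x).subschemeι.IsOver (Spec (CommRingCat.of k)) := ⟨rfl⟩
  haveI : IsProper ((vI x).subscheme ↘ Spec (CommRingCat.of k)) := by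
    change IsProper ((vI x).subschemeι ≫ (X ↘ Spec (CommRingCat.of k)))
    infer_instance
  obtain ⟨e⟩ := Groth.Agent.H5.Curve3.nonempty_HH_push_linearEquiv k (vI x).subschemeι
    (Coh.structureModule (vI x).subscheme) 0
  rw [e.finrank_eq]
  exact Groth.Agent.H5.Curve3.finrank_HH0_eq_one_of_isAlgClosed k (vI x).subscheme

variable {X} in
omit [IsProper (X ↘ Spec (CommRingCat.of k))] [X.Over (Spec (CommRingCat.of k))] in
/-- naturality of multiplication by a section. -/
lemma twistBy_naturality {A B : X.Modules} (π : A ⟶ B) {L : X.Modules} (s : unitMod X ⟶ L) :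
    π ≫ twistBy B s = twistBy A s ≫ KoszTw.tensorMap π (𝟙 L) := by
  apply Scheme.Modules.hom_ext
  intro U
  ext q
  change (twistBy B s).app U (π.app U q) =
    (KoszTw.tensorMap π (𝟙 L)).app U ((twistBy A s).app U q)
  rw [twistBy_app, twistBy_app, KoszTw.tensorMap_tmul, Scheme.Modules.Hom.id_app]
  rfl

variable {X} in
omit [IsProper (X ↘ Spec (CommRingCat.of k))] [X.Over (Spec (CommRingCat.of k))] in
/-- multiplication by a section generating on the support is a monomorphism. -/
lemma mono_twistBy_of_support {Q L : X.Modules} (s : unitMod X ⟶ L)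
    (h : ∀ y : X, y ∉ CohB1.genLocus L s → Subsingleton (Q.presheaf.stalk y)) :
    Mono (twistBy Q s) := by
  apply Preadditive.mono_of_isZero_kernel
  apply isZero_of_subsingleton_stalks
  intro y
  by_cases hy : y ∈ CohB1.genLocus L s
  · exact subsingleton_stalk_kernel_twistBy Q s y hy
  · haveI : Subsingleton ↑((TopCat.Presheaf.stalkFunctor Ab y).obj Q.presheaf) := h y hy
    exact (stalkMap_injective_of_mono (kernel.ι (twistBy Q s)) y).subsingleton


variable [IsIntegral X]

/-- **removing a point**: for `L` invertible with a section `s` generating at the closed point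
`x`, which is an effective Cartier divisor, the module `M = I_x ⊗ L` is invertible with
`h⁰(M) + 1 = h⁰(L)` and `h¹(M) = h¹(L)`. -/
theorem point_step [IsAlgClosed k] (hdim : topologicalKrullDim X ≤ 1) (L : X.Modules)
    (hL : PicF.IsInvertible L) (s : unitMod X ⟶ L) (x : X) (hx : IsClosed ({x} : Set X))
    (hxs : x ∈ CohB1.genLocus L s) (hD : BlowUp.IsEffCartierIdeal (vI x)) :
    PicF.IsInvertible (CohB1.tensorMod (ClSub.idealMod (vI x)) L) ∧
      Module.finrank k (Coh.HH X (CohB1.tensorMod (ClSub.idealMod (vI x)) L) 0) + 1 =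
        Module.finrank k (Coh.HH X L 0) ∧
      Module.finrank k (Coh.HH X (CohB1.tensorMod (ClSub.idealMod (vI x)) L) 1) =
        Module.finrank k (Coh.HH X L 1) := by
  haveI := Curve.isLocallyNoetherian k X
  haveI : L.IsQuasicoherent := qc_of_isInvertible L hL
  have hI : PicF.IsInvertible (ClSub.idealMod (vI x)) := (isInvertible_idealMod_iff (vI x)).mpr hD
  have hM : PicF.IsInvertible (CohB1.tensorMod (ClSub.idealMod (vI x)) L) :=
    isInvertible_tensorMod hI hL
  have hS₀ := shortExact_idealMod (vI x)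
  have hS := shortExact_tensorMap_of_isInvertible hS₀ L hL
  have hOc : Coh.IsCoh (unitMod X) := Curve2.isCoh_of_isInvertible (isInvertible_unit X)
  have hIc : Coh.IsCoh (ClSub.idealMod (vI x)) := Curve2.isCoh_of_isInvertible hI
  have hQc : Coh.IsCoh (ClSub.quotMod (vI x)) := isCoh_quotMod (vI x)
  have hMc := Curve2.isCoh_of_isInvertible hM
  have hOLc : Coh.IsCoh (CohB1.tensorMod (unitMod X) L) := isCoh_tensor_of_isInvertible hOc hL
  -- the support of `Q`
  have hsupp : ∀ y : X, ¬ Subsingleton ((ClSub.quotMod (vI x)).presheaf.stalk y) → y = x := by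
    intro y hy
    have h1 : y ∈ CohB1.support (ClSub.quotMod (vI x)) := hy
    rw [support_quotMod, coe_support_vI, hx.closure_eq] at h1
    exact h1
  have hpt : ∀ y : X, ¬ Subsingleton ((ClSub.quotMod (vI x)).presheaf.stalk y) →
      IsClosed ({y} : Set X) := fun y hy => (hsupp y hy) ▸ hx
  obtain ⟨hQLc, hptQL, hQL⟩ :=
    finrank_tensor_of_support_closed_points k X (ClSub.quotMod (vI x)) hQc hpt L hL
  have hQ1 := finrank_H0_quotMod_vI k X x
  rw [hQ1] at hQL
  -- `H⁰(I) = 0`
  have heu₀ := Curve.euler_add k X _ hS₀ hIc hOc hQc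
  have heuQ := Curve.euler_of_support_closed_points k X _ hQc hpt
  have hI0 : Subsingleton (Coh.HH X (ClSub.idealMod (vI x)) 0) := by
    by_contra hne
    rw [not_subsingleton_iff_nontrivial] at hne
    obtain ⟨t, ht⟩ := exists_section_ne_zero_of_nontrivial_H0 k X _ hne
    have hle := Curve.deg_le_of_ne_zero k X hdim (isInvertible_unit X) hI t ht
    have h1 : Curv2.deg k X (unitMod X) 1 = 0 := Curve.deg_structureModule k X
    have h2 : Curv2.deg k X (ClSub.idealMod (vI x)) 1 =
        Curv2.euler k X (ClSub.idealMod (vI x)) - Curv2.euler k X (Coh.structureModule X) := by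
      unfold Curv2.deg
      push_cast
      ring
    have h3 : Curv2.euler k X (unitMod X) = Curv2.euler k X (Coh.structureModule X) := rfl
    have heu₀' : Curv2.euler k X (unitMod X) =
        Curv2.euler k X (ClSub.idealMod (vI x)) + Curv2.euler k X (ClSub.quotMod (vI x)) := heu₀
    rw [hQ1] at heuQ
    rw [h1, h2] at hle
    push_cast at heuQ
    linarith
  -- injectivity of `H⁰(O) → H⁰(Q) → H⁰(Q ⊗ L)`
  haveI : Mono (twistBy (ClSub.quotMod (vI x)) s) := by
    apply mono_twistBy_of_support
    intro y hy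
    by_contra hns
    exact hy ((hsupp y hns) ▸ hxs)
  have hinj1 : Function.Injective (CL.HHmap k (ClSub.toSubscheme (vI x)) 0) := by
    rw [injective_iff_map_eq_zero]
    intro v hv
    obtain ⟨u, hu⟩ := CL.exact₂ hS₀ k 0 v hv
    rw [← hu, Subsingleton.elim u 0, map_zero]
  have hinj2 := injective_HHmap_zero k (twistBy (ClSub.quotMod (vI x)) s)
  have hnat := twistBy_naturality (ClSub.toSubscheme (vI x)) s
  -- a nonzero element of `H⁰(O)`
  have hO1 : Module.finrank k (Coh.HH X (unitMod X) 0) = 1 :=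
    Groth.Agent.H5.Curve3.finrank_HH0_eq_one_of_isAlgClosed k X
  haveI : Module.Finite k (Coh.HH X (unitMod X) 0) := Curve.finite_HH k X _ hOc 0
  haveI : Nontrivial (Coh.HH X (unitMod X) 0) :=
    Module.nontrivial_of_finrank_pos (R := k) (by rw [hO1]; exact Nat.one_pos)
  obtain ⟨v₀, hv₀⟩ := exists_ne (0 : Coh.HH X (unitMod X) 0)
  have hne0 : CL.HHmap k (KoszTw.tensorMap (ClSub.toSubscheme (vI x)) (𝟙 L)) 0
      (CL.HHmap k (twistBy (unitMod X) s) 0 v₀) ≠ 0 := by
    rw [← LinearMap.comp_apply, ← CL.HHmap_comp, ← hnat, CL.HHmap_comp, LinearMap.comp_apply]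
    intro h0
    apply hv₀
    apply hinj1
    apply hinj2
    rw [h0, map_zero, map_zero]
  -- surjectivity
  haveI : Module.Finite k (Coh.HH X (CohB1.tensorMod (ClSub.quotMod (vI x)) L) 0) :=
    Curve.finite_HH k X _ hQLc 0
  have hsurj : Function.Surjective
      (CL.HHmap k (KoszTw.tensorMap (ClSub.toSubscheme (vI x)) (𝟙 L)) 0) := by
    rw [← LinearMap.range_eq_top]
    apply Submodule.eq_top_of_finrank_eq
    rw [hQL]
    apply le_antisymm
    · rw [← hQL]; exact Submodule.finrank_le _
    · rw [Nat.one_le_iff_ne_zero]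
      intro h0
      rw [Submodule.finrank_eq_zero] at h0
      have : CL.HHmap k (KoszTw.tensorMap (ClSub.toSubscheme (vI x)) (𝟙 L)) 0
          (CL.HHmap k (twistBy (unitMod X) s) 0 v₀) ∈
          LinearMap.range (CL.HHmap k (KoszTw.tensorMap (ClSub.toSubscheme (vI x)) (𝟙 L)) 0) :=
        ⟨_, rfl⟩
      rw [h0, Submodule.mem_bot] at this
      exact hne0 this
  have hadd := finrank_H0_eq_of_surjective k X hS hOLc hsurj
  have hiso0 := finrank_HH_iso k X (unitorL L) 0
  have hiso1 := finrank_HH_iso k X (unitorL L) 1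
  have hadd' : Module.finrank k (Coh.HH X (CohB1.tensorMod (unitMod X) L) 0) =
      Module.finrank k (Coh.HH X (CohB1.tensorMod (ClSub.idealMod (vI x)) L) 0) +
        Module.finrank k (Coh.HH X (CohB1.tensorMod (ClSub.quotMod (vI x)) L) 0) := hadd
  rw [hQL, hiso0] at hadd'
  refine ⟨hM, hadd'.symm, ?_⟩
  -- `h¹`
  have heu := Curve.euler_add k X _ hS hMc hOLc hQLc
  have heu' : Curv2.euler k X (CohB1.tensorMod (unitMod X) L) =
      Curv2.euler k X (CohB1.tensorMod (ClSub.idealMod (vI x)) L) +
        Curv2.euler k X (CohB1.tensorMod (ClSub.quotMod (vI x)) L) := heu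
  have heuQL := Curve.euler_of_support_closed_points k X _ hQLc hptQL
  rw [hQL] at heuQL
  haveI : (CohB1.tensorMod (unitMod X) L).IsQuasicoherent := hOLc.1
  haveI : (CohB1.tensorMod (ClSub.idealMod (vI x)) L).IsQuasicoherent := hMc.1
  have e1 := Curve.euler_eq_sub k X hdim (CohB1.tensorMod (unitMod X) L)
  have e2 := Curve.euler_eq_sub k X hdim (CohB1.tensorMod (ClSub.idealMod (vI x)) L)
  rw [hiso0, hiso1] at e1
  push_cast at heuQL
  omega

end Groth.Agent.H5.Curve6
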