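import Mathlib
import Groth.Agent.Lib.Helper5.Curve6.PtSeq
import Groth.Agent.Lib.Helper5.Curve3.DegNonpos
import Groth.Agent.Lib.Helper5.Curve4.VB1
import Groth.Agent.Lib.Lead.PN.AmpleSerreRel

set_option autoImplicit false
universe u
open CategoryTheory CategoryTheory.Limits AlgebraicGeometry TopologicalSpace Opposite

namespace Groth.Agent.H5.Curve6

open Groth.Agent.LD Groth.Agent.LD.QC Groth.Agent.H5.Curve2 Groth.Agent.H5.Curve4
open Groth.Agent.H5.DegC Groth.Agent.H5.Snap Groth.Agent.H5.IntN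

variable (k : Type u) [Field k] (X : Scheme.{u}) [X.Over (Spec (CommRingCat.of k))]
  [IsProper (X ↘ Spec (CommRingCat.of k))] [IsIntegral X]

/-- on an integral proper curve there is an invertible module with `H¹ = 0` and `H⁰ ≠ 0`. -/
theorem exists_invertible_H1_zero_H0_pos (hdim : topologicalKrullDim X = 1) :
    ∃ L : X.Modules, PicF.IsInvertible L ∧ Subsingleton (Coh.HH X L 1) ∧
      0 < Module.finrank k (Coh.HH X L 0) := by
  haveI := Curve.isLocallyNoetherian k X
  haveI : Nonempty X := Groth.Agent.H5.Curve4.nonempty_of_dim_eq_one X hdim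
  obtain ⟨A, hA⟩ := Groth.Agent.H5.Curve3.exists_isAmple_of_proper_dim_le_one k X hdim.le
  have hAi := hA.1
  have hOc : Coh.IsCoh (unitMod X) := Curve2.isCoh_of_isInvertible (isInvertible_unit X)
  obtain ⟨n₀, hn₀⟩ := Groth.Agent.LD.PN.AmS.serre_vanishing_of_isAmple k
    (X ↘ Spec (CommRingCat.of k)) A hAi hA (unitMod X) hOc
  obtain ⟨n, hn⟩ : ∃ n : ℕ, n = n₀ + Curv2.genus k X := ⟨_, rfl⟩
  have hAn := isInvertible_tensorPow hAi n
  have hLi : PicF.IsInvertible (CohB1.tensorMod (unitMod X) (CohB1.tensorPow A n)) :=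
    isInvertible_tensorMod (isInvertible_unit X) hAn
  have hH1 := hn₀ n (by omega) 1 Nat.one_pos
  refine ⟨_, hLi, hH1, ?_⟩
  haveI : (CohB1.tensorPow A n).IsQuasicoherent := qc_of_isInvertible _ hAn
  haveI : (CohB1.tensorMod (unitMod X) (CohB1.tensorPow A n)).IsQuasicoherent :=
    qc_of_isInvertible _ hLi
  have e1 := Curve.euler_eq_sub k X hdim.le (CohB1.tensorMod (unitMod X) (CohB1.tensorPow A n))
  have e2 : Curv2.euler k X (CohB1.tensorMod (unitMod X) (CohB1.tensorPow A n)) =
      Curv2.euler k X (CohB1.tensorPow A n) := Curve.euler_iso k X (unitorL _)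
  have e3 := deg_tensorPow k X hdim.le hAi n
  have e4 := deg_pos_of_isAmple k X hdim hA
  have e5 : Curv2.deg k X (CohB1.tensorPow A n) 1 =
      Curv2.euler k X (CohB1.tensorPow A n) - Curv2.euler k X (Coh.structureModule X) := by
    unfold Curv2.deg
    push_cast
    ring
  haveI : (Coh.structureModule X).IsQuasicoherent := hOc.1
  have e6 := Curve.euler_eq_sub k X hdim.le (Coh.structureModule X)
  have e7 := one_le_finrank_HH0 k X
  have e8 : Module.finrank k (Coh.HH X (Coh.structureModule X) 1) = Curv2.genus k X := rfl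
  have e9 : Module.finrank k
      (Coh.HH X (CohB1.tensorMod (unitMod X) (CohB1.tensorPow A n)) 1) = 0 :=
    Module.finrank_zero_of_subsingleton
  have e10 : (n : ℤ) ≤ n * Curv2.deg k X A 1 := by nlinarith
  rw [e9] at e1
  have : (0 : ℤ) < (Module.finrank k
      (Coh.HH X (CohB1.tensorMod (unitMod X) (CohB1.tensorPow A n)) 0) : ℤ) := by
    have hn' : (n : ℤ) = n₀ + Curv2.genus k X := by exact_mod_cast hn
    have : (0 : ℤ) ≤ n₀ := Int.natCast_nonneg _
    push_cast at e1
    omega
  exact_mod_cast this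

/-- descending induction: from `h⁰ = t + m`, `H¹ = 0` to `h⁰ = t`, `H¹ = 0`. -/
theorem exists_invertible_H1_zero_H0_eq [IsAlgClosed k] (hdim : topologicalKrullDim X = 1)
    (t : ℕ) : ∀ (m : ℕ) (L : X.Modules), PicF.IsInvertible L → Subsingleton (Coh.HH X L 1) →
      Module.finrank k (Coh.HH X L 0) = t + m →
      ∃ M : X.Modules, PicF.IsInvertible M ∧ Subsingleton (Coh.HH X M 1) ∧
        Module.finrank k (Coh.HH X M 0) = t := by
  intro m
  induction m with
  | zero => intro L hL h1 h0; exact ⟨L, hL, h1, h0⟩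
  | succ m ih =>
    intro L hL h1 h0
    haveI := Curve.isLocallyNoetherian k X
    have hLc := Curve2.isCoh_of_isInvertible hL
    haveI : Module.Finite k (Coh.HH X L 0) := Curve.finite_HH k X _ hLc 0
    haveI : Module.Finite k (Coh.HH X L 1) := Curve.finite_HH k X _ hLc 1
    have hnt : Nontrivial (Coh.HH X L 0) :=
      Module.nontrivial_of_finrank_pos (R := k) (by rw [h0]; omega)
    obtain ⟨s, hs⟩ := exists_section_ne_zero_of_nontrivial_H0 k X L hnt
    obtain ⟨z, hz⟩ := Groth.Agent.H5.Curve3.genLocus_nonempty_of_ne_zero hL s hs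
    obtain ⟨x, hx, hxW, hD⟩ := exists_closed_point_effCartier k X hdim (CohB1.genLocus L s) ⟨z, hz⟩
    have hvI : vI x = Scheme.IdealSheafData.vanishingIdeal ⟨{x}, hx⟩ :=
      congrArg Scheme.IdealSheafData.vanishingIdeal (Closeds.ext hx.closure_eq)
    rw [← hvI] at hD
    obtain ⟨hM, hM0, hM1⟩ := point_step k X hdim.le L hL s x hx hxW hD
    apply ih _ hM
    · have hMc := Curve2.isCoh_of_isInvertible hM
      haveI : Module.Finite k
          (Coh.HH X (CohB1.tensorMod (ClSub.idealMod (vI x)) L) 1) := Curve.finite_HH k X _ hMc 1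
      have h10 : Module.finrank k (Coh.HH X L 1) = 0 := Module.finrank_zero_of_subsingleton
      rw [h10] at hM1
      exact (Module.finrank_zero_iff (R := k)).mp hM1
    · omega

/-- **S1523**: on an integral proper curve over an algebraically closed field there are an
invertible module with `h⁰ = 1`, `h¹ = 0` and an invertible module with `h⁰ = h¹ = 0`. -/
theorem exists_invertible_prescribed [IsAlgClosed k] (hdim : topologicalKrullDim X = 1) :
    (∃ L : X.Modules, PicF.IsInvertible L ∧ Module.finrank k (Coh.HH X L 0) = 1 ∧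
      Subsingleton (Coh.HH X L 1)) ∧
    (∃ N : X.Modules, PicF.IsInvertible N ∧ Subsingleton (Coh.HH X N 0) ∧
      Subsingleton (Coh.HH X N 1)) := by
  haveI := Curve.isLocallyNoetherian k X
  obtain ⟨L₀, hL₀, h1, h0⟩ := exists_invertible_H1_zero_H0_pos k X hdim
  constructor
  · obtain ⟨M, hM, hM1, hM0⟩ := exists_invertible_H1_zero_H0_eq k X hdim 1
      (Module.finrank k (Coh.HH X L₀ 0) - 1) L₀ hL₀ h1 (by omega)
    exact ⟨M, hM, hM0, hM1⟩
  · obtain ⟨M, hM, hM1, hM0⟩ := exists_invertible_H1_zero_H0_eq k X hdim 0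
      (Module.finrank k (Coh.HH X L₀ 0)) L₀ hL₀ h1 (by omega)
    refine ⟨M, hM, ?_, hM1⟩
    have hMc := Curve2.isCoh_of_isInvertible hM
    haveI : Module.Finite k (Coh.HH X M 0) := Curve.finite_HH k X _ hMc 0
    exact (Module.finrank_zero_iff (R := k)).mp hM0

end Groth.Agent.H5.Curve6
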