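import Mathlib
import Groth.Agent.Lib.Helper5.Curve6.Down
import Groth.Agent.Lib.Helper5.Curve2.F

set_option autoImplicit false
universe u
open CategoryTheory CategoryTheory.Limits AlgebraicGeometry TopologicalSpace Opposite

namespace Groth.Agent.H5.Curve6

open Groth.Agent.LD Groth.Agent.LD.QC Groth.Agent.H5.Curve2 Groth.Agent.H5.Curve4
open Groth.Agent.H5.DegC Groth.Agent.H5.Snap Groth.Agent.H5.IntN

variable (k : Type u) [Field k] (X : Scheme.{u}) [X.Over (Spec (CommRingCat.of k))]
  [IsProper (X ↘ Spec (CommRingCat.of k))] [IsIntegral X]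

/-- **S1522**: on an integral proper curve over an algebraically closed field, `H¹(L) = 0` as
soon as `deg L ≥ 2g - 1`. -/
theorem subsingleton_H1_of_deg_ge [IsAlgClosed k] (hdim : topologicalKrullDim X = 1)
    (L : X.Modules) (hL : PicF.IsInvertible L)
    (hdeg : 2 * (Curv2.genus k X : ℤ) - 1 ≤ Curv2.deg k X L 1) :
    Subsingleton (Coh.HH X L 1) := by
  haveI := Curve.isLocallyNoetherian k X
  obtain ⟨-, N, hN, hN0, hN1⟩ := exists_invertible_prescribed k X hdim
  obtain ⟨N', hN', ⟨e⟩⟩ := Groth.Agent.H5.Glue.exists_inverse N hN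
  have hNc := Curve2.isCoh_of_isInvertible hN
  haveI : N.IsQuasicoherent := hNc.1
  haveI : L.IsQuasicoherent := qc_of_isInvertible L hL
  haveI : N'.IsQuasicoherent := qc_of_isInvertible N' hN'
  have hOc : Coh.IsCoh (unitMod X) := Curve2.isCoh_of_isInvertible (isInvertible_unit X)
  haveI : (Coh.structureModule X).IsQuasicoherent := hOc.1
  have hP : PicF.IsInvertible (CohB1.tensorMod L N') := isInvertible_tensorMod hL hN'
  haveI : (CohB1.tensorMod L N').IsQuasicoherent := qc_of_isInvertible _ hP
  -- degrees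
  have eN := Curve.euler_eq_sub k X hdim.le N
  have eN0 : Module.finrank k (Coh.HH X N 0) = 0 := Module.finrank_zero_of_subsingleton
  have eN1 : Module.finrank k (Coh.HH X N 1) = 0 := Module.finrank_zero_of_subsingleton
  rw [eN0, eN1] at eN
  have eO := Curve.euler_eq_sub k X hdim.le (Coh.structureModule X)
  have eO0 : Module.finrank k (Coh.HH X (Coh.structureModule X) 0) = 1 :=
    Groth.Agent.H5.Curve3.finrank_HH0_eq_one_of_isAlgClosed k X
  have eO1 : Module.finrank k (Coh.HH X (Coh.structureModule X) 1) = Curv2.genus k X := rfl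
  rw [eO0, eO1] at eO
  have dN : Curv2.deg k X N 1 = Curv2.euler k X N - Curv2.euler k X (Coh.structureModule X) := by
    unfold Curv2.deg; push_cast; ring
  have dNN' := deg_tensor k X hdim.le hN hN'
  rw [Curve.deg_iso k X e 1, Curve.deg_structureModule] at dNN'
  have dP := deg_tensor k X hdim.le hL hN'
  have dP' : Curv2.deg k X (CohB1.tensorMod L N') 1 =
      Curv2.euler k X (CohB1.tensorMod L N') - Curv2.euler k X (Coh.structureModule X) := by
    unfold Curv2.deg; push_cast; ring
  have hpos : 0 < Curv2.euler k X (CohB1.tensorMod L N') := by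
    push_cast at eN eO
    linarith
  obtain ⟨σ, hσ⟩ := exists_section_ne_zero_of_euler_pos k X hdim.le _ hpos
  have hvan := subsingleton_H1_tensor_of_section k X hdim.le N hNc hP σ hσ hN1
  -- `N ⊗ (L ⊗ N') ≅ L`
  have iso : CohB1.tensorMod N (CohB1.tensorMod L N') ≅ L :=
    (tensorAssoc N L N').symm ≪≫ tensorIso' (tensorComm N L) (Iso.refl N') ≪≫
      tensorAssoc L N N' ≪≫ tensorIso' (Iso.refl L) e ≪≫ SecTwist.unitorR L
  exact CL.subsingleton_of_iso iso 1 hvan

end Groth.Agent.H5.Curve6
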