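import Mathlib
import Groth.Agent.Lib.Helper5.Curve6.H1Van
import Groth.Agent.Lib.Helper5.Curve2.I

set_option autoImplicit false
universe u
open CategoryTheory CategoryTheory.Limits AlgebraicGeometry TopologicalSpace Opposite

namespace Groth.Agent.H5.Curve6

open Groth.Agent.LD Groth.Agent.LD.QC Groth.Agent.H5.Curve2 Groth.Agent.H5.Curve4
open Groth.Agent.H5.DegC Groth.Agent.H5.Snap Groth.Agent.H5.IntN

variable (k : Type u) [Field k] (X : Scheme.{u}) [X.Over (Spec (CommRingCat.of k))]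
  [IsProper (X ↘ Spec (CommRingCat.of k))] [IsIntegral X]

/-- the degree in terms of `h⁰` and `h¹` when `h⁰(O) = 1`. -/
theorem deg_eq_h0_sub_h1 [IsAlgClosed k] (hdim : topologicalKrullDim X = 1)
    (L : X.Modules) [L.IsQuasicoherent] :
    Curv2.deg k X L 1 = (Module.finrank k (Coh.HH X L 0) : ℤ) -
      (Module.finrank k (Coh.HH X L 1) : ℤ) - 1 + (Curv2.genus k X : ℤ) := by
  have hOc : Coh.IsCoh (unitMod X) := Curve2.isCoh_of_isInvertible (isInvertible_unit X)
  haveI : (Coh.structureModule X).IsQuasicoherent := hOc.1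
  have eO := Curve.euler_eq_sub k X hdim.le (Coh.structureModule X)
  have eO0 : Module.finrank k (Coh.HH X (Coh.structureModule X) 0) = 1 :=
    Groth.Agent.H5.Curve3.finrank_HH0_eq_one_of_isAlgClosed k X
  have eO1 : Module.finrank k (Coh.HH X (Coh.structureModule X) 1) = Curv2.genus k X := rfl
  rw [eO0, eO1] at eO
  have eL := Curve.euler_eq_sub k X hdim.le L
  unfold Curv2.deg
  push_cast at eO ⊢
  linarith

/-- **S11828**: there is an invertible module of degree `g - 1` with `H⁰ = H¹ = 0`. -/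
theorem exists_invertible_deg_genus_sub_one [IsAlgClosed k] (hdim : topologicalKrullDim X = 1) :
    ∃ L : X.Modules, PicF.IsInvertible L ∧ Curv2.deg k X L 1 = (Curv2.genus k X : ℤ) - 1 ∧
      Subsingleton (Coh.HH X L 1) := by
  obtain ⟨-, N, hN, hN0, hN1⟩ := exists_invertible_prescribed k X hdim
  haveI : N.IsQuasicoherent := qc_of_isInvertible N hN
  refine ⟨N, hN, ?_, hN1⟩
  rw [deg_eq_h0_sub_h1 k X hdim N]
  have eN0 : Module.finrank k (Coh.HH X N 0) = 0 := Module.finrank_zero_of_subsingleton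
  have eN1 : Module.finrank k (Coh.HH X N 1) = 0 := Module.finrank_zero_of_subsingleton
  rw [eN0, eN1]
  push_cast
  ring

/-- **S11823**: `h⁰(L) > g ⇒ H¹(L) = 0`. -/
theorem subsingleton_H1_of_genus_lt_h0 [IsAlgClosed k] (hdim : topologicalKrullDim X = 1)
    (L : X.Modules) (hL : PicF.IsInvertible L)
    (h0 : Curv2.genus k X < Module.finrank k (Coh.HH X L 0)) :
    Subsingleton (Coh.HH X L 1) := by
  haveI := Curve.isLocallyNoetherian k X
  obtain ⟨⟨L₁, hL₁, h10, h11⟩, -⟩ := exists_invertible_prescribed k X hdim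
  obtain ⟨L₁', hL₁', ⟨e⟩⟩ := Groth.Agent.H5.Glue.exists_inverse L₁ hL₁
  haveI : L.IsQuasicoherent := qc_of_isInvertible L hL
  haveI : L₁.IsQuasicoherent := qc_of_isInvertible L₁ hL₁
  haveI : L₁'.IsQuasicoherent := qc_of_isInvertible L₁' hL₁'
  have hL₁c := Curve2.isCoh_of_isInvertible hL₁
  have hP : PicF.IsInvertible (CohB1.tensorMod L L₁') := isInvertible_tensorMod hL hL₁'
  haveI : (CohB1.tensorMod L L₁').IsQuasicoherent := qc_of_isInvertible _ hP
  have hPc := Curve2.isCoh_of_isInvertible hP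
  -- a nonzero section of `L₁`
  haveI : Module.Finite k (Coh.HH X L₁ 0) := Curve.finite_HH k X _ hL₁c 0
  have hnt : Nontrivial (Coh.HH X L₁ 0) :=
    Module.nontrivial_of_finrank_pos (R := k) (by rw [h10]; exact Nat.one_pos)
  obtain ⟨s₁, hs₁⟩ := exists_section_ne_zero_of_nontrivial_H0 k X L₁ hnt
  obtain ⟨hS, hTc, hpt, hT⟩ := cokernel_section_facts k X hdim.le hL₁ s₁ hs₁
  have hdeg₁ : Curv2.deg k X L₁ 1 = (Curv2.genus k X : ℤ) := by
    rw [deg_eq_h0_sub_h1 k X hdim L₁, h10]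
    have : Module.finrank k (Coh.HH X L₁ 1) = 0 := Module.finrank_zero_of_subsingleton
    rw [this]
    push_cast
    ring
  rw [hdeg₁] at hT
  -- tensor with `P = L ⊗ L₁'`
  have hS' := shortExact_tensorMap_of_isInvertible hS (CohB1.tensorMod L L₁') hP
  obtain ⟨hTPc, -, hTP⟩ := finrank_tensor_of_support_closed_points k X (cokernel s₁) hTc hpt
    (CohB1.tensorMod L L₁') hP
  have hmid : Coh.IsCoh (CohB1.tensorMod L₁ (CohB1.tensorMod L L₁')) :=
    isCoh_tensor_of_isInvertible hL₁c hP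
  have hle := finrank_H0_le k X hS' hmid hTPc
  have hle' : Module.finrank k (Coh.HH X (CohB1.tensorMod L₁ (CohB1.tensorMod L L₁')) 0) ≤
      Module.finrank k (Coh.HH X (CohB1.tensorMod (unitMod X) (CohB1.tensorMod L L₁')) 0) +
        Module.finrank k (Coh.HH X (CohB1.tensorMod (cokernel s₁) (CohB1.tensorMod L L₁')) 0) :=
    hle
  -- `L₁ ⊗ (L ⊗ L₁') ≅ L`
  have iso : CohB1.tensorMod L₁ (CohB1.tensorMod L L₁') ≅ L :=
    (tensorAssoc L₁ L L₁').symm ≪≫ tensorIso' (tensorComm L₁ L) (Iso.refl L₁') ≪≫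
      tensorAssoc L L₁ L₁' ≪≫ tensorIso' (Iso.refl L) e ≪≫ SecTwist.unitorR L
  rw [finrank_HH_iso k X iso 0, finrank_HH_iso k X (unitorL (CohB1.tensorMod L L₁')) 0, hTP]
    at hle'
  have hpos : 0 < Module.finrank k (Coh.HH X (CohB1.tensorMod L L₁') 0) := by
    have : (Module.finrank k (Coh.HH X (cokernel s₁) 0) : ℤ) = Curv2.genus k X := hT
    omega
  have hntP : Nontrivial (Coh.HH X (CohB1.tensorMod L L₁') 0) :=
    Module.nontrivial_of_finrank_pos (R := k) hpos
  obtain ⟨σ, hσ⟩ := exists_section_ne_zero_of_nontrivial_H0 k X _ hntP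
  have hvan := subsingleton_H1_tensor_of_section k X hdim.le L₁ hL₁c hP σ hσ h11
  exact CL.subsingleton_of_iso iso 1 hvan

end Groth.Agent.H5.Curve6
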