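import Mathlib
import Groth.Agent.Lib.Helper5.Curve6.Spec1
import Groth.Agent.Lib.Helper5.Deg.Deg3b
import Groth.Agent.Lib.Lead.QC.SuppSES

set_option autoImplicit false
universe u
open CategoryTheory CategoryTheory.Limits AlgebraicGeometry TopologicalSpace Opposite

namespace Groth.Agent.H5.Curve6

open Groth.Agent.LD Groth.Agent.LD.QC Groth.Agent.H5.Curve2 Groth.Agent.H5.Curve4
open Groth.Agent.H5.DegC Groth.Agent.H5.Snap Groth.Agent.H5.IntN

section gen

variable {X : Scheme.{u}}

/-- multiplication by a section on the structure sheaf. -/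
lemma twistBy_unit_eq {L : X.Modules} [L.IsQuasicoherent] (s : unitMod X ⟶ L) :
    twistBy (unitMod X) s = s ≫ (unitorL L).inv := by
  apply Scheme.Modules.hom_ext
  intro U
  have key : ∀ q : Γ(X, U), (twistBy (unitMod X) s).app U q =
      (unitorL L).inv.app U (s.app U q) := by
    intro q
    rw [twistBy_app, unitorL_inv_app]
    have h1 : s.app U q = q • SecTwist.val s U := by
      have h2 := Scheme.Modules.Hom.app_smul s q (1 : Γ(X, U))
      have h3 : q • (1 : Γ(X, U)) = q := mul_one q
      change s.app U (q • (1 : Γ(X, U))) = q • s.app U (1 : Γ(X, U)) at h2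
      rw [h3] at h2
      exact h2
    rw [h1]
    have h4 : SecTwist.tmul (unitMod X) L U q (SecTwist.val s U) =
        SecTwist.tmul (unitMod X) L U (q • (1 : Γ(X, U))) (SecTwist.val s U) := by
      congr 1
      exact (mul_one q).symm
    exact h4.trans ((tmul_smul_left (unitMod X) L U q (1 : Γ(X, U)) (SecTwist.val s U)).trans
      (tmul_smul_right (unitMod X) L U q (1 : Γ(X, U)) (SecTwist.val s U)).symm)
  ext q
  exact key q

end gen

variable (k : Type u) [Field k] (X : Scheme.{u}) [X.Over (Spec (CommRingCat.of k))]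
  [IsProper (X ↘ Spec (CommRingCat.of k))] [IsIntegral X]

/-- the point sequence `0 → I_x ⊗ L → O ⊗ L → O_x ⊗ L → 0` and its basic numerical facts. -/
theorem point_twist_facts [IsAlgClosed k] (L : X.Modules)
    (hL : PicF.IsInvertible L) (x : X) (hx : IsClosed ({x} : Set X))
    (hD : BlowUp.IsEffCartierIdeal (vI x)) :
    PicF.IsInvertible (CohB1.tensorMod (ClSub.idealMod (vI x)) L) ∧
      Module.finrank k (Coh.HH X (CohB1.tensorMod (ClSub.idealMod (vI x)) L) 0) ≤
        Module.finrank k (Coh.HH X L 0) ∧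
      Module.finrank k (Coh.HH X L 0) ≤
        Module.finrank k (Coh.HH X (CohB1.tensorMod (ClSub.idealMod (vI x)) L) 0) + 1 ∧
      Curv2.euler k X (CohB1.tensorMod (ClSub.idealMod (vI x)) L) + 1 = Curv2.euler k X L ∧
      Coh.IsCoh (CohB1.tensorMod (ClSub.quotMod (vI x)) L) ∧
      (∀ y : X, ¬ Subsingleton ((CohB1.tensorMod (ClSub.quotMod (vI x)) L).presheaf.stalk y) →
        IsClosed ({y} : Set X)) ∧
      Module.finrank k (Coh.HH X (CohB1.tensorMod (ClSub.quotMod (vI x)) L) 0) = 1 := by
  haveI := Curve.isLocallyNoetherian k X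
  haveI : L.IsQuasicoherent := qc_of_isInvertible L hL
  have hI : PicF.IsInvertible (ClSub.idealMod (vI x)) := (isInvertible_idealMod_iff (vI x)).mpr hD
  have hM : PicF.IsInvertible (CohB1.tensorMod (ClSub.idealMod (vI x)) L) :=
    isInvertible_tensorMod hI hL
  have hS₀ := shortExact_idealMod (vI x)
  have hS := shortExact_tensorMap_of_isInvertible hS₀ L hL
  have hOc : Coh.IsCoh (unitMod X) := Curve2.isCoh_of_isInvertible (isInvertible_unit X)
  have hQc : Coh.IsCoh (ClSub.quotMod (vI x)) := isCoh_quotMod (vI x)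
  have hMc := Curve2.isCoh_of_isInvertible hM
  have hOLc : Coh.IsCoh (CohB1.tensorMod (unitMod X) L) := isCoh_tensor_of_isInvertible hOc hL
  have hsupp : ∀ y : X, ¬ Subsingleton ((ClSub.quotMod (vI x)).presheaf.stalk y) → y = x := by
    intro y hy
    have h1 : y ∈ CohB1.support (ClSub.quotMod (vI x)) := hy
    rw [support_quotMod, coe_support_vI, hx.closure_eq] at h1
    exact h1
  have hpt : ∀ y : X, ¬ Subsingleton ((ClSub.quotMod (vI x)).presheaf.stalk y) →
      IsClosed ({y} : Set X) := fun y hy => (hsupp y hy) ▸ hx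
  obtain ⟨hQLc, hptQL, hQL⟩ :=
    finrank_tensor_of_support_closed_points k X (ClSub.quotMod (vI x)) hQc hpt L hL
  have hQ1 := finrank_H0_quotMod_vI k X x
  rw [hQ1] at hQL
  have hiso0 := finrank_HH_iso k X (unitorL L) 0
  refine ⟨hM, ?_, ?_, ?_, hQLc, hptQL, hQL⟩
  · haveI := hS.mono_f
    haveI : Module.Finite k (Coh.HH X (CohB1.tensorMod (unitMod X) L) 0) :=
      Curve.finite_HH k X _ hOLc 0
    have := LinearMap.finrank_le_finrank_of_injective
      (injective_HHmap_zero k (KoszTw.tensorMap (ClSub.idealModι (vI x)) (𝟙 L)))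
    rw [hiso0] at this
    exact this
  · have h := finrank_H0_le k X hS hOLc hQLc
    have h' : Module.finrank k (Coh.HH X (CohB1.tensorMod (unitMod X) L) 0) ≤
        Module.finrank k (Coh.HH X (CohB1.tensorMod (ClSub.idealMod (vI x)) L) 0) +
          Module.finrank k (Coh.HH X (CohB1.tensorMod (ClSub.quotMod (vI x)) L) 0) := h
    rw [hQL, hiso0] at h'
    exact h'
  · have heu := Curve.euler_add k X _ hS hMc hOLc hQLc
    have heu' : Curv2.euler k X (CohB1.tensorMod (unitMod X) L) =
        Curv2.euler k X (CohB1.tensorMod (ClSub.idealMod (vI x)) L) +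
          Curv2.euler k X (CohB1.tensorMod (ClSub.quotMod (vI x)) L) := heu
    have heuQL := Curve.euler_of_support_closed_points k X _ hQLc hptQL
    rw [hQL] at heuQL
    rw [Curve.euler_iso k X (unitorL L)] at heu'
    push_cast at heuQL
    linarith

/-- multiplication by a section vanishing at `x` kills the skyscraper at `x`. -/
theorem twistBy_quotMod_eq_zero [IsAlgClosed k]
    (L : X.Modules) (hL : PicF.IsInvertible L) (s : unitMod X ⟶ L) (x : X)
    (hx : IsClosed ({x} : Set X)) (hxs : x ∉ CohB1.genLocus L s) :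
    twistBy (ClSub.quotMod (vI x)) s = 0 := by
  haveI := Curve.isLocallyNoetherian k X
  haveI : L.IsQuasicoherent := qc_of_isInvertible L hL
  have hQc : Coh.IsCoh (ClSub.quotMod (vI x)) := isCoh_quotMod (vI x)
  have hsupp : ∀ y : X, ¬ Subsingleton ((ClSub.quotMod (vI x)).presheaf.stalk y) → y = x := by
    intro y hy
    have h1 : y ∈ CohB1.support (ClSub.quotMod (vI x)) := hy
    rw [support_quotMod, coe_support_vI, hx.closure_eq] at h1
    exact h1
  have hpt : ∀ y : X, ¬ Subsingleton ((ClSub.quotMod (vI x)).presheaf.stalk y) →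
      IsClosed ({y} : Set X) := fun y hy => (hsupp y hy) ▸ hx
  obtain ⟨hQLc, hptQL, hQL⟩ :=
    finrank_tensor_of_support_closed_points k X (ClSub.quotMod (vI x)) hQc hpt L hL
  rw [finrank_H0_quotMod_vI k X x] at hQL
  set f := twistBy (ClSub.quotMod (vI x)) s with hf
  have hxQ : x ∈ CohB1.support (ClSub.quotMod (vI x)) := by
    rw [support_quotMod, coe_support_vI, hx.closure_eq]
    exact rfl
  have hxC : x ∈ CohB1.support (cokernel f) :=
    Groth.Agent.H5.Deg.mem_support_cokernel_twistBy _ hQc.2 hL s x hxQ hxs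
  have hCc : Coh.IsCoh (cokernel f) := isCoh_cokernel f hQc hQLc
  have hKc : Coh.IsCoh (kernel (cokernel.π f)) := isCoh_kernel _ hQLc hCc
  have hS : (ShortComplex.mk (kernel.ι (cokernel.π f)) (cokernel.π f)
      (kernel.condition _)).ShortExact :=
    { exact := ShortComplex.exact_kernel _
      mono_f := inferInstanceAs (Mono (kernel.ι (cokernel.π f)))
      epi_g := inferInstanceAs (Epi (cokernel.π f)) }
  have hptC : ∀ y : X, ¬ Subsingleton ((cokernel f).presheaf.stalk y) →
      IsClosed ({y} : Set X) := fun y hy =>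
    hptQL y (support_subset_of_epi (cokernel.π f) hy)
  have hptK : ∀ y : X, ¬ Subsingleton ((kernel (cokernel.π f)).presheaf.stalk y) →
      IsClosed ({y} : Set X) := fun y hy =>
    hptQL y (support_subset_of_mono (kernel.ι (cokernel.π f)) hy)
  have heu := Curve.euler_add k X _ hS hKc hQLc hCc
  have heu' : Curv2.euler k X (CohB1.tensorMod (ClSub.quotMod (vI x)) L) =
      Curv2.euler k X (kernel (cokernel.π f)) + Curv2.euler k X (cokernel f) := heu
  have e1 := Curve.euler_of_support_closed_points k X _ hQLc hptQL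
  have e2 := Curve.euler_nonneg_of_support_closed_points k X _ hKc hptK
  have e3 := Curve.euler_nonneg_of_support_closed_points k X _ hCc hptC
  rw [hQL] at e1
  have hCnz : ¬ IsZero (cokernel f) := by
    intro hz
    rw [support_eq_empty_of_isZero hz] at hxC
    exact hxC
  have e4 : Curv2.euler k X (cokernel f) ≠ 0 := fun h0 =>
    hCnz (Curve.isZero_of_euler_eq_zero k X _ hCc hptC h0)
  have e5 : Curv2.euler k X (kernel (cokernel.π f)) = 0 := by
    push_cast at e1
    omega
  have hKz : IsZero (kernel (cokernel.π f)) := Curve.isZero_of_euler_eq_zero k X _ hKc hptK e5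
  -- `f` factors through the kernel of its cokernel
  have hfac : f = kernel.lift (cokernel.π f) f (cokernel.condition f) ≫ kernel.ι (cokernel.π f) :=
    (kernel.lift_ι _ _ _).symm
  rw [hfac, hKz.eq_of_tgt (kernel.lift (cokernel.π f) f (cokernel.condition f)) 0, zero_comp]

end Groth.Agent.H5.Curve6
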