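import Mathlib
import Groth.Agent.Lib.Helper5.Curve6.PtTwist
import Groth.Agent.Lib.Helper5.Glue.F

set_option autoImplicit false
universe u
open CategoryTheory CategoryTheory.Limits AlgebraicGeometry TopologicalSpace Opposite

namespace Groth.Agent.H5.Curve6

open Groth.Agent.LD Groth.Agent.LD.QC Groth.Agent.H5.Curve2 Groth.Agent.H5.Curve4
open Groth.Agent.H5.DegC Groth.Agent.H5.Snap Groth.Agent.H5.IntN

variable (k : Type u) [Field k] (X : Scheme.{u}) [X.Over (Spec (CommRingCat.of k))]
  [IsProper (X ↘ Spec (CommRingCat.of k))] [IsIntegral X]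

include k in
/-- a closed point of a regular integral curve is an effective Cartier divisor. -/
theorem isEffCartierIdeal_vI_of_regular (hdim : topologicalKrullDim X ≤ 1)
    (hreg : ∀ x : X, IsRegularLocalRing (X.presheaf.stalk x)) (y : X)
    (hy : IsClosed ({y} : Set X)) (hne : y ≠ genericPoint X) :
    BlowUp.IsEffCartierIdeal (vI y) := by
  haveI := Curve.isLocallyNoetherian k X
  have hD := isEffCartierIdeal_of_isRegularLocalRing hdim y hy hne (hreg y)
  have hvI : vI y = Scheme.IdealSheafData.vanishingIdeal ⟨{y}, hy⟩ :=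
    congrArg Scheme.IdealSheafData.vanishingIdeal (Closeds.ext hy.closure_eq)
  rw [hvI]
  exact hD

/-- if a nonzero section `s` of `L` vanishes at the closed point `y` (an effective Cartier
divisor), then `I_y ⊗ L` has a nonzero global section. -/
theorem nontrivial_H0_twist_of_vanish [IsAlgClosed k] (L : X.Modules)
    (hL : PicF.IsInvertible L) (s : unitMod X ⟶ L) (hs : s ≠ 0) (y : X)
    (hy : IsClosed ({y} : Set X)) (hys : y ∉ CohB1.genLocus L s) :
    Nontrivial (Coh.HH X (CohB1.tensorMod (ClSub.idealMod (vI y)) L) 0) := by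
  haveI := Curve.isLocallyNoetherian k X
  haveI : L.IsQuasicoherent := qc_of_isInvertible L hL
  have hS₀ := shortExact_idealMod (vI y)
  have hS := shortExact_tensorMap_of_isInvertible hS₀ L hL
  have hb := twistBy_quotMod_eq_zero k X L hL s y hy hys
  have hnat := twistBy_naturality (ClSub.toSubscheme (vI y)) s
  rw [hb, comp_zero] at hnat
  haveI : Mono s := Curve.mono_of_ne_zero (isInvertible_unit X) hL s hs
  haveI : Mono (twistBy (unitMod X) s) := by
    rw [twistBy_unit_eq]
    infer_instance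
  have hOc : Coh.IsCoh (unitMod X) := Curve2.isCoh_of_isInvertible (isInvertible_unit X)
  haveI : Module.Finite k (Coh.HH X (unitMod X) 0) := Curve.finite_HH k X _ hOc 0
  have hO1 : Module.finrank k (Coh.HH X (unitMod X) 0) = 1 :=
    Groth.Agent.H5.Curve3.finrank_HH0_eq_one_of_isAlgClosed k X
  haveI : Nontrivial (Coh.HH X (unitMod X) 0) :=
    Module.nontrivial_of_finrank_pos (R := k) (by rw [hO1]; exact Nat.one_pos)
  obtain ⟨v₀, hv₀⟩ := exists_ne (0 : Coh.HH X (unitMod X) 0)
  have hw : CL.HHmap k (twistBy (unitMod X) s) 0 v₀ ≠ 0 := by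
    intro h0
    apply hv₀
    apply injective_HHmap_zero k (twistBy (unitMod X) s)
    rw [h0, map_zero]
  have hzero : CL.HHmap k (KoszTw.tensorMap (ClSub.toSubscheme (vI y)) (𝟙 L)) 0
      (CL.HHmap k (twistBy (unitMod X) s) 0 v₀) = 0 :=
    CL.HHmap_g_f (S := ShortComplex.mk (twistBy (unitMod X) s)
      (KoszTw.tensorMap (ClSub.toSubscheme (vI y)) (𝟙 L)) hnat.symm) k 0 v₀
  obtain ⟨u, hu⟩ := CL.exact₂ hS k 0 _ hzero
  refine ⟨⟨u, 0, fun h0 => hw ?_⟩⟩
  rw [← hu, h0, map_zero]

/-- removing a zero of the section of a module with `h⁰ = 1`. -/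
theorem h0_one_step [IsAlgClosed k] (hdim : topologicalKrullDim X = 1)
    (hreg : ∀ x : X, IsRegularLocalRing (X.presheaf.stalk x)) (L : X.Modules)
    (hL : PicF.IsInvertible L) (h0 : Module.finrank k (Coh.HH X L 0) = 1)
    (hdeg : 0 < Curv2.deg k X L 1) :
    ∃ M : X.Modules, PicF.IsInvertible M ∧ Module.finrank k (Coh.HH X M 0) = 1 ∧
      Curv2.deg k X M 1 = Curv2.deg k X L 1 - 1 := by
  haveI := Curve.isLocallyNoetherian k X
  have hLc := Curve2.isCoh_of_isInvertible hL
  haveI : Module.Finite k (Coh.HH X L 0) := Curve.finite_HH k X _ hLc 0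
  have hnt : Nontrivial (Coh.HH X L 0) :=
    Module.nontrivial_of_finrank_pos (R := k) (by rw [h0]; exact Nat.one_pos)
  obtain ⟨s, hs⟩ := exists_section_ne_zero_of_nontrivial_H0 k X L hnt
  obtain ⟨y, hys⟩ : ∃ y : X, y ∉ CohB1.genLocus L s := by
    by_contra hcon
    push Not at hcon
    have htop : CohB1.genLocus L s = ⊤ := by
      rw [eq_top_iff]
      intro z _
      exact hcon z
    haveI : IsIso s := Groth.Agent.H5.Glue.isIso_of_genLocus_eq_top s htop
    have := Curve.deg_iso k X (asIso s) 1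
    rw [Curve.deg_structureModule] at this
    change (0 : ℤ) = Curv2.deg k X L 1 at this
    omega
  have hne : y ≠ genericPoint X := fun h => hys (h ▸ genericPoint_mem_genLocus hL s hs)
  have hy : IsClosed ({y} : Set X) := Curve.isClosed_singleton_of_ne_genericPoint hdim.le y hne
  have hD := isEffCartierIdeal_vI_of_regular k X hdim.le hreg y hy hne
  obtain ⟨hM, hle, -, heu, -, -, -⟩ := point_twist_facts k X L hL y hy hD
  have hMnt := nontrivial_H0_twist_of_vanish k X L hL s hs y hy hys
  refine ⟨_, hM, ?_, ?_⟩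
  · have hMc := Curve2.isCoh_of_isInvertible hM
    haveI : Module.Finite k (Coh.HH X (CohB1.tensorMod (ClSub.idealMod (vI y)) L) 0) :=
      Curve.finite_HH k X _ hMc 0
    have hpos : 0 < Module.finrank k (Coh.HH X (CohB1.tensorMod (ClSub.idealMod (vI y)) L) 0) :=
      Module.finrank_pos
    omega
  · unfold Curv2.deg
    push_cast
    linarith

/-- descending from `h⁰ = 1`. -/
theorem exists_h0_one_of_deg [IsAlgClosed k] (hdim : topologicalKrullDim X = 1)
    (hreg : ∀ x : X, IsRegularLocalRing (X.presheaf.stalk x)) (d : ℕ) :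
    ∀ (m : ℕ) (L : X.Modules), PicF.IsInvertible L → Module.finrank k (Coh.HH X L 0) = 1 →
      Curv2.deg k X L 1 = (d : ℤ) + m →
      ∃ M : X.Modules, PicF.IsInvertible M ∧ Module.finrank k (Coh.HH X M 0) = 1 ∧
        Curv2.deg k X M 1 = d := by
  intro m
  induction m with
  | zero => intro L hL h0 hd; exact ⟨L, hL, h0, by simpa using hd⟩
  | succ m ih =>
    intro L hL h0 hd
    obtain ⟨M, hM, hM0, hMd⟩ := h0_one_step k X hdim hreg L hL h0 (by rw [hd]; positivity)
    apply ih M hM hM0
    rw [hMd, hd]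
    push_cast
    ring

/-- **S14152**: on a regular integral proper curve of genus `g` over an algebraically closed field,
for every `r ≤ g` there is an invertible module of degree `r` with `h⁰ = 1`. -/
theorem exists_invertible_deg_h0_one [IsAlgClosed k] (hdim : topologicalKrullDim X = 1)
    (hreg : ∀ x : X, IsRegularLocalRing (X.presheaf.stalk x)) (r : ℕ)
    (hr : r ≤ Curv2.genus k X) :
    ∃ L : X.Modules, PicF.IsInvertible L ∧ Curv2.deg k X L 1 = (r : ℤ) ∧
      Module.finrank k (Coh.HH X L 0) = 1 := by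
  obtain ⟨⟨L₁, hL₁, h10, h11⟩, -⟩ := exists_invertible_prescribed k X hdim
  haveI : L₁.IsQuasicoherent := qc_of_isInvertible L₁ hL₁
  have hdeg₁ : Curv2.deg k X L₁ 1 = (r : ℤ) + ((Curv2.genus k X - r : ℕ) : ℤ) := by
    rw [deg_eq_h0_sub_h1 k X hdim L₁, h10]
    have : Module.finrank k (Coh.HH X L₁ 1) = 0 := Module.finrank_zero_of_subsingleton
    rw [this]
    push_cast [hr]
    ring
  obtain ⟨M, hM, hM0, hMd⟩ := exists_h0_one_of_deg k X hdim hreg r _ L₁ hL₁ h10 hdeg₁
  exact ⟨M, hM, hMd, hM0⟩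

end Groth.Agent.H5.Curve6
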