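import Mathlib
import Groth.Agent.Lib.Helper5.Curve6.H0One
import Groth.Agent.Lib.Helper5.Curve6.H1Van
import Groth.Agent.Lib.Helper5.Curve6.Spec1
import Groth.Agent.Lib.Lead.QC.TwistBack

set_option autoImplicit false
universe u
open CategoryTheory CategoryTheory.Limits AlgebraicGeometry TopologicalSpace Opposite

namespace Groth.Agent.H5.Curve6

open Groth.Agent.LD Groth.Agent.LD.QC Groth.Agent.H5.Curve2 Groth.Agent.H5.Curve4
open Groth.Agent.H5.DegC Groth.Agent.H5.Snap Groth.Agent.H5.IntN

/-- counting the gaps of a sequence with increments in `{0, 1}`. -/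
theorem gaps_count (a : ℕ → ℕ) (g : ℕ) (h0 : a 0 = 1) (hle : ∀ n, a n ≤ a (n + 1))
    (hle1 : ∀ n, a (n + 1) ≤ a n + 1) (hbig : ∀ n, 2 * g ≤ n + 1 → a n + g = n + 1) :
    {n : ℕ | 1 ≤ n ∧ a n = a (n - 1)}.Finite ∧
      {n : ℕ | 1 ≤ n ∧ a n = a (n - 1)}.ncard = g := by
  classical
  have hcount : ∀ N : ℕ, a N + ((Finset.Icc 1 N).filter (fun n => a n = a (n - 1))).card = N + 1 := by
    intro N
    induction N with
    | zero => simp [h0]
    | succ N ih =>
      have hIcc : Finset.Icc 1 (N + 1) = insert (N + 1) (Finset.Icc 1 N) := by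
        ext m
        simp only [Finset.mem_Icc, Finset.mem_insert]
        omega
      rw [hIcc, Finset.filter_insert]
      by_cases hc : a (N + 1) = a (N + 1 - 1)
      · rw [if_pos hc, Finset.card_insert_of_notMem]
        · have : a (N + 1) = a N := by simpa using hc
          omega
        · intro hmem
          have := (Finset.mem_filter.mp hmem).1
          rw [Finset.mem_Icc] at this
          omega
      · rw [if_neg hc]
        have hne : a (N + 1) ≠ a N := by simpa using hc
        have h1 := hle N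
        have h2 := hle1 N
        omega
  have hset : {n : ℕ | 1 ≤ n ∧ a n = a (n - 1)} =
      ↑((Finset.Icc 1 (2 * g)).filter (fun n => a n = a (n - 1))) := by
    ext n
    simp only [Set.mem_setOf_eq, Finset.coe_filter, Finset.mem_Icc]
    constructor
    · rintro ⟨h1, h2⟩
      refine ⟨⟨h1, ?_⟩, h2⟩
      by_contra hcon
      push Not at hcon
      have e1 := hbig n (by omega)
      have e2 := hbig (n - 1) (by omega)
      omega
    · rintro ⟨⟨h1, -⟩, h2⟩
      exact ⟨h1, h2⟩
  rw [hset]
  refine ⟨Finset.finite_toSet _, ?_⟩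
  rw [Set.ncard_coe_finset]
  have e1 := hcount (2 * g)
  have e2 := hbig (2 * g) (by omega)
  omega

variable (k : Type u) [Field k] (X : Scheme.{u}) [X.Over (Spec (CommRingCat.of k))]
  [IsProper (X ↘ Spec (CommRingCat.of k))] [IsIntegral X]

/-- the generic point of a one-dimensional integral scheme is not closed. -/
theorem not_isClosed_singleton_genericPoint (hdim : topologicalKrullDim X = 1) :
    ¬ IsClosed ({genericPoint X} : Set X) := by
  intro hcl
  have huniv : ({genericPoint X} : Set X) = Set.univ := by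
    have : closure ({genericPoint X} : Set X) = Set.univ := genericPoint_spec X
    rw [hcl.closure_eq] at this
    exact this
  haveI : Subsingleton X := by
    refine ⟨fun a b => ?_⟩
    have ha : a ∈ ({genericPoint X} : Set X) := huniv ▸ Set.mem_univ a
    have hb : b ∈ ({genericPoint X} : Set X) := huniv ▸ Set.mem_univ b
    rw [Set.mem_singleton_iff] at ha hb
    rw [ha, hb]
  haveI : Subsingleton (IrreducibleCloseds X) := by
    refine ⟨fun A B => ?_⟩
    apply IrreducibleCloseds.ext
    ext z
    obtain ⟨a, ha⟩ := A.isIrreducible'.nonempty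
    obtain ⟨b, hb⟩ := B.isIrreducible'.nonempty
    constructor
    · intro _
      rw [Subsingleton.elim z b]
      exact hb
    · intro _
      rw [Subsingleton.elim z a]
      exact ha
  have : topologicalKrullDim X ≤ 0 := by
    unfold topologicalKrullDim
    exact Order.krullDim_nonpos_of_subsingleton
  rw [hdim] at this
  exact absurd this (by decide)

/-- the sequence `h⁰(O(np))` on a regular curve. -/
theorem gap_facts [IsAlgClosed k] (hdim : topologicalKrullDim X = 1)
    (hreg : ∀ x : X, IsRegularLocalRing (X.presheaf.stalk x))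
    (p : X) (hp : IsClosed ({p} : Set X)) (L : X.Modules) (hL : PicF.IsInvertible L)
    (hLp : ClSub.IsInverseOf L (ClSub.idealMod
      (Scheme.IdealSheafData.vanishingIdeal (⟨{p}, hp⟩ : TopologicalSpace.Closeds X)))) :
    Module.finrank k (Coh.HH X (CohB1.tensorPow L 0) 0) = 1 ∧
    (∀ n, Module.finrank k (Coh.HH X (CohB1.tensorPow L n) 0) ≤
      Module.finrank k (Coh.HH X (CohB1.tensorPow L (n + 1)) 0)) ∧
    (∀ n, Module.finrank k (Coh.HH X (CohB1.tensorPow L (n + 1)) 0) ≤
      Module.finrank k (Coh.HH X (CohB1.tensorPow L n) 0) + 1) ∧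
    (∀ n, 2 * Curv2.genus k X ≤ n + 1 →
      Module.finrank k (Coh.HH X (CohB1.tensorPow L n) 0) + Curv2.genus k X = n + 1) := by
  haveI := Curve.isLocallyNoetherian k X
  haveI : L.IsQuasicoherent := qc_of_isInvertible L hL
  have hne : p ≠ genericPoint X := fun h =>
    not_isClosed_singleton_genericPoint X hdim (h ▸ hp)
  have hD := isEffCartierIdeal_vI_of_regular k X hdim.le hreg p hp hne
  have hvI : vI p = Scheme.IdealSheafData.vanishingIdeal ⟨{p}, hp⟩ :=
    congrArg Scheme.IdealSheafData.vanishingIdeal (Closeds.ext hp.closure_eq)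
  rw [← hvI] at hLp
  obtain ⟨e⟩ := hLp
  have hI : PicF.IsInvertible (ClSub.idealMod (vI p)) := (isInvertible_idealMod_iff (vI p)).mpr hD
  haveI : (ClSub.idealMod (vI p)).IsQuasicoherent := qc_of_isInvertible _ hI
  have hpow : ∀ n, PicF.IsInvertible (CohB1.tensorPow L n) := fun n => isInvertible_tensorPow hL n
  -- the key isomorphism
  have hiso : ∀ n, Nonempty (CohB1.tensorMod (ClSub.idealMod (vI p)) (CohB1.tensorPow L (n + 1)) ≅
      CohB1.tensorPow L n) := by
    intro n
    haveI : (CohB1.tensorPow L n).IsQuasicoherent := qc_of_isInvertible _ (hpow n)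
    haveI : (CohB1.tensorPow L (n + 1)).IsQuasicoherent := qc_of_isInvertible _ (hpow (n + 1))
    exact ⟨tensorComm _ _ ≪≫ backIso L (ClSub.idealMod (vI p)) e (CohB1.tensorPow L n)⟩
  have hstep : ∀ n, Module.finrank k (Coh.HH X (CohB1.tensorPow L n) 0) ≤
      Module.finrank k (Coh.HH X (CohB1.tensorPow L (n + 1)) 0) ∧
      Module.finrank k (Coh.HH X (CohB1.tensorPow L (n + 1)) 0) ≤
        Module.finrank k (Coh.HH X (CohB1.tensorPow L n) 0) + 1 := by
    intro n
    obtain ⟨-, h1, h2, -, -, -, -⟩ := point_twist_facts k X (CohB1.tensorPow L (n + 1)) (hpow (n + 1)) p hp hD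
    obtain ⟨en⟩ := hiso n
    rw [finrank_HH_iso k X en 0] at h1 h2
    exact ⟨h1, h2⟩
  -- degree of `L`
  have hdegL : Curv2.deg k X L 1 = 1 := by
    obtain ⟨-, -, -, heu, -, -, -⟩ := point_twist_facts k X (CohB1.tensorPow L 1) (hpow 1) p hp hD
    obtain ⟨e0⟩ := hiso 0
    rw [Curve.euler_iso k X e0] at heu
    have hd1 := deg_tensorPow k X hdim.le hL 1
    have hd0 := deg_tensorPow k X hdim.le hL 0
    unfold Curv2.deg at hd1 hd0 ⊢
    push_cast at hd1 hd0 ⊢
    linarith
  refine ⟨Groth.Agent.H5.Curve3.finrank_HH0_eq_one_of_isAlgClosed k X, fun n => (hstep n).1,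
    fun n => (hstep n).2, ?_⟩
  intro n hn
  haveI : (CohB1.tensorPow L n).IsQuasicoherent := qc_of_isInvertible _ (hpow n)
  have hdn : Curv2.deg k X (CohB1.tensorPow L n) 1 = n := by
    rw [deg_tensorPow k X hdim.le hL n, hdegL, mul_one]
  haveI : Subsingleton (Coh.HH X (CohB1.tensorPow L n) 1) := by
    apply subsingleton_H1_of_deg_ge k X hdim _ (hpow n)
    rw [hdn]
    have : (2 * Curv2.genus k X : ℤ) ≤ (n : ℤ) + 1 := by exact_mod_cast hn
    linarith
  have h1 : Module.finrank k (Coh.HH X (CohB1.tensorPow L n) 1) = 0 :=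
    Module.finrank_zero_of_subsingleton
  have := deg_eq_h0_sub_h1 k X hdim (CohB1.tensorPow L n)
  rw [hdn, h1] at this
  have h' : (Module.finrank k (Coh.HH X (CohB1.tensorPow L n) 0) : ℤ) + Curv2.genus k X = n + 1 := by
    push_cast at this
    linarith
  exact_mod_cast h'

/-- **S11836**: the number of Weierstrass gaps at a point is the genus. -/
theorem ncard_gaps_eq_genus [IsAlgClosed k] (hdim : topologicalKrullDim X = 1)
    (hreg : ∀ x : X, IsRegularLocalRing (X.presheaf.stalk x))
    (p : X) (hp : IsClosed ({p} : Set X)) (L : X.Modules) (hL : PicF.IsInvertible L)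
    (hLp : ClSub.IsInverseOf L (ClSub.idealMod
      (Scheme.IdealSheafData.vanishingIdeal (⟨{p}, hp⟩ : TopologicalSpace.Closeds X)))) :
    {n : ℕ | 1 ≤ n ∧ Module.finrank k (Coh.HH X (CohB1.tensorPow L n) 0) =
      Module.finrank k (Coh.HH X (CohB1.tensorPow L (n - 1)) 0)}.Finite ∧
    {n : ℕ | 1 ≤ n ∧ Module.finrank k (Coh.HH X (CohB1.tensorPow L n) 0) =
      Module.finrank k (Coh.HH X (CohB1.tensorPow L (n - 1)) 0)}.ncard = Curv2.genus k X := by
  obtain ⟨h0, h1, h2, h3⟩ := gap_facts k X hdim hreg p hp L hL hLp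
  exact gaps_count (fun n => Module.finrank k (Coh.HH X (CohB1.tensorPow L n) 0))
    (Curv2.genus k X) h0 h1 h2 h3

end Groth.Agent.H5.Curve6
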