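import Mathlib
import Groth.Agent.Lib.Helper5.Curve6.Gaps
import Groth.Agent.Lib.Helper5.Eig.RegSm
import Groth.Agent.Lib.Helper5.IntN.Num8

set_option autoImplicit false
universe u
open CategoryTheory CategoryTheory.Limits AlgebraicGeometry TopologicalSpace Opposite

namespace Groth.Agent.H5.Curve6

open Groth.Agent.LD Groth.Agent.LD.QC Groth.Agent.H5.Curve2 Groth.Agent.H5.Curve4
open Groth.Agent.H5.DegC Groth.Agent.H5.Snap Groth.Agent.H5.IntN

variable (k : Type u) [Field k] (X : Scheme.{u}) [X.Over (Spec (CommRingCat.of k))]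
  [IsProper (X ↘ Spec (CommRingCat.of k))] [IsIntegral X]

/-- **an invertible module of degree one with two independent sections has a section vanishing
exactly (and simply) at any given closed point:** `O ≅ I_x ⊗ L`. -/
theorem nonempty_unit_iso_twist [IsAlgClosed k] (hdim : topologicalKrullDim X = 1)
    (L : X.Modules) (hL : PicF.IsInvertible L) (hdeg : Curv2.deg k X L 1 = 1)
    (hh0 : 2 ≤ Module.finrank k (Coh.HH X L 0)) (x : X) (hx : IsClosed ({x} : Set X)) :
    Nonempty (unitMod X ≅ CohB1.tensorMod (ClSub.idealMod (vI x)) L) := by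
  haveI := Curve.isLocallyNoetherian k X
  haveI : L.IsQuasicoherent := qc_of_isInvertible L hL
  have hS₀ := shortExact_idealMod (vI x)
  have hS := shortExact_tensorMap_of_isInvertible hS₀ L hL
  have hOc : Coh.IsCoh (unitMod X) := Curve2.isCoh_of_isInvertible (isInvertible_unit X)
  have hLc : Coh.IsCoh L := Curve2.isCoh_of_isInvertible hL
  have hQc : Coh.IsCoh (ClSub.quotMod (vI x)) := isCoh_quotMod (vI x)
  have hIc : Coh.IsCoh (ClSub.idealMod (vI x)) :=
    isCoh_of_mono (ClSub.idealModι (vI x)) inferInstance hOc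
  have hMc : Coh.IsCoh (CohB1.tensorMod (ClSub.idealMod (vI x)) L) :=
    isCoh_tensor_of_isInvertible hIc hL
  have hOLc : Coh.IsCoh (CohB1.tensorMod (unitMod X) L) := isCoh_tensor_of_isInvertible hOc hL
  have hsupp : ∀ y : X, ¬ Subsingleton ((ClSub.quotMod (vI x)).presheaf.stalk y) → y = x := by
    intro y hy
    have h1 : y ∈ CohB1.support (ClSub.quotMod (vI x)) := hy
    rw [support_quotMod, coe_support_vI, hx.closure_eq] at h1
    exact h1
  have hpt : ∀ y : X, ¬ Subsingleton ((ClSub.quotMod (vI x)).presheaf.stalk y) →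
      IsClosed ({y} : Set X) := fun y hy => (hsupp y hy) ▸ hx
  obtain ⟨hQLc, hptQL, hQL⟩ :=
    finrank_tensor_of_support_closed_points k X (ClSub.quotMod (vI x)) hQc hpt L hL
  have hQ1 := finrank_H0_quotMod_vI k X x
  rw [hQ1] at hQL
  have hiso0 := finrank_HH_iso k X (unitorL L) 0
  -- `h⁰(I_x ⊗ L) ≥ 1`
  have hle : Module.finrank k (Coh.HH X L 0) ≤
      Module.finrank k (Coh.HH X (CohB1.tensorMod (ClSub.idealMod (vI x)) L) 0) + 1 := by
    have h := finrank_H0_le k X hS hOLc hQLc
    have h' : Module.finrank k (Coh.HH X (CohB1.tensorMod (unitMod X) L) 0) ≤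
        Module.finrank k (Coh.HH X (CohB1.tensorMod (ClSub.idealMod (vI x)) L) 0) +
          Module.finrank k (Coh.HH X (CohB1.tensorMod (ClSub.quotMod (vI x)) L) 0) := h
    rw [hQL, hiso0] at h'
    exact h'
  -- Euler characteristics
  have heuQL := Curve.euler_of_support_closed_points k X _ hQLc hptQL
  rw [hQL] at heuQL
  have heuM : Curv2.euler k X (CohB1.tensorMod (ClSub.idealMod (vI x)) L) + 1 =
      Curv2.euler k X L := by
    have heu := Curve.euler_add k X _ hS hMc hOLc hQLc
    have heu' : Curv2.euler k X (CohB1.tensorMod (unitMod X) L) =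
        Curv2.euler k X (CohB1.tensorMod (ClSub.idealMod (vI x)) L) +
          Curv2.euler k X (CohB1.tensorMod (ClSub.quotMod (vI x)) L) := heu
    rw [Curve.euler_iso k X (unitorL L)] at heu'
    push_cast at heuQL
    linarith
  -- a nonzero section of `I_x ⊗ L`
  haveI : Module.Finite k (Coh.HH X (CohB1.tensorMod (ClSub.idealMod (vI x)) L) 0) :=
    Curve.finite_HH k X _ hMc 0
  have hnt : Nontrivial (Coh.HH X (CohB1.tensorMod (ClSub.idealMod (vI x)) L) 0) :=
    Module.nontrivial_of_finrank_pos (R := k) (by omega)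
  obtain ⟨u, hu⟩ := exists_section_ne_zero_of_nontrivial_H0 k X _ hnt
  -- the inclusion `j : I_x ⊗ L ⟶ L` and the quotient `g : L ⟶ O_x ⊗ L`
  haveI : Mono (KoszTw.tensorMap (ClSub.idealModι (vI x)) (𝟙 L)) := hS.mono_f
  haveI : Epi (KoszTw.tensorMap (ClSub.toSubscheme (vI x)) (𝟙 L)) := hS.epi_g
  set j : CohB1.tensorMod (ClSub.idealMod (vI x)) L ⟶ L :=
    KoszTw.tensorMap (ClSub.idealModι (vI x)) (𝟙 L) ≫ (unitorL L).hom with hj
  set g : L ⟶ CohB1.tensorMod (ClSub.quotMod (vI x)) L :=
    (unitorL L).inv ≫ KoszTw.tensorMap (ClSub.toSubscheme (vI x)) (𝟙 L) with hg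
  haveI : Mono j := mono_comp _ _
  haveI : Epi g := epi_comp _ _
  have hjg : j ≫ g = 0 := by
    rw [hj, hg, Category.assoc, Iso.hom_inv_id_assoc, ← tensorMap_comp_id,
      show ClSub.idealModι (vI x) ≫ ClSub.toSubscheme (vI x) = 0 from kernel.condition _,
      tensorMap_zero_id hL]
  set t : unitMod X ⟶ L := u ≫ j with ht
  have htne : t ≠ 0 := by
    intro h0
    apply hu
    rw [← cancel_mono j, zero_comp]
    exact h0
  haveI : Mono t := Curve.mono_of_ne_zero (isInvertible_unit X) hL t htne
  obtain ⟨hSt, hCc, hptC, hC0⟩ := cokernel_section_facts k X hdim.le hL t htne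
  -- the comparison `q : coker t ⟶ O_x ⊗ L`
  have htg : t ≫ g = 0 := by rw [ht, Category.assoc, hjg, comp_zero]
  set q : cokernel t ⟶ CohB1.tensorMod (ClSub.quotMod (vI x)) L := cokernel.desc t g htg with hq
  have hπq : cokernel.π t ≫ q = g := cokernel.π_desc t g htg
  haveI : Epi q := epi_of_epi_fac hπq
  have hKc : Coh.IsCoh (kernel q) := isCoh_kernel q hCc hQLc
  have hptK : ∀ y : X, ¬ Subsingleton ((kernel q).presheaf.stalk y) → IsClosed ({y} : Set X) :=
    fun y hy => hptC y (support_subset_of_mono (kernel.ι q) hy)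
  have hSq : (ShortComplex.mk (kernel.ι q) q (kernel.condition q)).ShortExact :=
    { exact := ShortComplex.exact_kernel q
      mono_f := inferInstanceAs (Mono (kernel.ι q))
      epi_g := inferInstanceAs (Epi q) }
  have heuq := Curve.euler_add k X _ hSq hKc hCc hQLc
  have heuq' : Curv2.euler k X (cokernel t) =
      Curv2.euler k X (kernel q) + Curv2.euler k X (CohB1.tensorMod (ClSub.quotMod (vI x)) L) :=
    heuq
  have heuC := Curve.euler_of_support_closed_points k X _ hCc hptC
  have hK0 : Curv2.euler k X (kernel q) = 0 := by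
    rw [heuC, hC0, hdeg, heuQL] at heuq'
    push_cast at heuq'
    linarith
  have hKz : IsZero (kernel q) := Curve.isZero_of_euler_eq_zero k X _ hKc hptK hK0
  haveI : Mono q := Preadditive.mono_of_kernel_zero (hKz.eq_of_src _ _)
  -- `j` factors through `t`
  have hjπ : j ≫ cokernel.π t = 0 := by
    rw [← cancel_mono q, Category.assoc, hπq, hjg, zero_comp]
  set v : CohB1.tensorMod (ClSub.idealMod (vI x)) L ⟶ unitMod X :=
    Abelian.monoLift t j hjπ with hv
  have hvt : v ≫ t = j := Abelian.monoLift_comp t j hjπ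
  refine ⟨⟨u, v, ?_, ?_⟩⟩
  · rw [← cancel_mono t, Category.assoc, hvt, Category.id_comp]
  · rw [← cancel_mono j, Category.assoc, ← ht, hvt, Category.id_comp]

section gen

variable {X}

/-- at a closed point which is an effective Cartier divisor, the maximal ideal of the local ring is
principal. -/
theorem isPrincipal_maximalIdeal_of_isEffCartierIdeal (x : X) (hx : IsClosed ({x} : Set X))
    (hD : BlowUp.IsEffCartierIdeal (Scheme.IdealSheafData.vanishingIdeal ⟨{x}, hx⟩)) :
    (IsLocalRing.maximalIdeal (X.presheaf.stalk x)).IsPrincipal := by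
  obtain ⟨U, hxU, f, -, hI⟩ := hD x
  rw [vanishingIdeal_singleton_ideal_of_mem x hx U hxU] at hI
  letI : Algebra Γ(X, U.1) (X.presheaf.stalk x) :=
    TopCat.Presheaf.algebra_section_stalk X.presheaf ⟨x, hxU⟩
  haveI hloc : IsLocalization.AtPrime (X.presheaf.stalk x)
      (U.2.primeIdealOf ⟨x, hxU⟩).asIdeal := U.2.isLocalization_stalk ⟨x, hxU⟩
  have hmax := IsLocalization.AtPrime.map_eq_maximalIdeal (U.2.primeIdealOf ⟨x, hxU⟩).asIdeal
    (X.presheaf.stalk x)
  rw [hI, Ideal.map_span, Set.image_singleton] at hmax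
  exact ⟨⟨_, hmax.symm⟩⟩

/-- a Noetherian local domain with principal maximal ideal is regular. -/
theorem isRegularLocalRing_of_isPrincipal_maximalIdeal (R : Type*) [CommRing R] [IsDomain R]
    [IsLocalRing R] [IsNoetherianRing R] (h : (IsLocalRing.maximalIdeal R).IsPrincipal) :
    IsRegularLocalRing R := by
  haveI : IsDedekindDomain R :=
    ((tfae_of_isNoetherianRing_of_isLocalRing_of_isDomain R).out 4 2).mp h
  exact isRegularLocalRing_of_isDedekindDomain_of_isLocalRing R

end gen

/-- **an integral proper curve of genus zero over an algebraically closed field is regular.** -/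
theorem regular_stalks_of_genus_zero [IsAlgClosed k] (hdim : topologicalKrullDim X = 1)
    (hg : Curv2.genus k X = 0) (x : X) : IsRegularLocalRing (X.presheaf.stalk x) := by
  haveI := Curve.isLocallyNoetherian k X
  apply isRegularLocalRing_of_isPrincipal_maximalIdeal
  by_cases hxc : IsClosed ({x} : Set X)
  swap
  · -- the generic point
    have hgen : x = genericPoint X := by
      by_contra hne
      exact hxc (Curve.isClosed_singleton_of_ne_genericPoint hdim.le x hne)
    have hfield : IsField (X.presheaf.stalk x) := by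
      rw [hgen]
      exact isField_stalk_of_closure_mem_irreducibleComponents X _
        (by simp [irreducibleComponents_eq_singleton])
    rw [IsLocalRing.isField_iff_maximalIdeal_eq.mp hfield]
    exact bot_isPrincipal
  -- a degree one invertible module with two sections
  haveI : Nonempty X := nonempty_of_dim_eq_one X hdim
  obtain ⟨y, hy, -, hDy⟩ := exists_closed_point_effCartier k X hdim ⊤
    ⟨Classical.arbitrary X, trivial⟩
  have hIy : PicF.IsInvertible (ClSub.idealMod (Scheme.IdealSheafData.vanishingIdeal ⟨{y}, hy⟩)) :=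
    (isInvertible_idealMod_iff _).mpr hDy
  obtain ⟨L, hL, ⟨e⟩⟩ := Groth.Agent.H5.Glue.exists_inverse _ hIy
  haveI : L.IsQuasicoherent := qc_of_isInvertible L hL
  have hLD : ClSub.IsInverseOf L (ClSub.idealMod (Scheme.IdealSheafData.vanishingIdeal ⟨{y}, hy⟩)) :=
    ⟨tensorComm _ _ ≪≫ e⟩
  have hdegL : Curv2.deg k X L 1 = 1 := by
    rw [deg_of_inverse_idealMod k hdim.le _ hDy L hL hLD]
    have hvI : vI y = Scheme.IdealSheafData.vanishingIdeal ⟨{y}, hy⟩ :=
      congrArg Scheme.IdealSheafData.vanishingIdeal (Closeds.ext hy.closure_eq)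
    rw [← hvI, finrank_H0_quotMod_vI k X y]
    rfl
  haveI : Subsingleton (Coh.HH X L 1) := by
    apply subsingleton_H1_of_deg_ge k X hdim L hL
    rw [hg, hdegL]
    norm_num
  have hh0 : 2 ≤ Module.finrank k (Coh.HH X L 0) := by
    have h1 : Module.finrank k (Coh.HH X L 1) = 0 := Module.finrank_zero_of_subsingleton
    have := deg_eq_h0_sub_h1 k X hdim L
    rw [hdegL, h1, hg] at this
    push_cast at this
    omega
  obtain ⟨e'⟩ := nonempty_unit_iso_twist k X hdim L hL hdegL hh0 x hxc
  -- `I_x` is invertible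
  obtain ⟨L', hL', ⟨eL⟩⟩ := Groth.Agent.H5.Glue.exists_inverse L hL
  haveI : L'.IsQuasicoherent := qc_of_isInvertible L' hL'
  have hIx : PicF.IsInvertible (ClSub.idealMod (vI x)) :=
    isInvertible_of_iso ((backIso L L' eL (ClSub.idealMod (vI x))).symm ≪≫
      tensorIso' e'.symm (Iso.refl L') ≪≫ unitorL L').symm hL'
  have hDx : BlowUp.IsEffCartierIdeal (vI x) := (isInvertible_idealMod_iff (vI x)).mp hIx
  have hvI : vI x = Scheme.IdealSheafData.vanishingIdeal ⟨{x}, hxc⟩ :=
    congrArg Scheme.IdealSheafData.vanishingIdeal (Closeds.ext hxc.closure_eq)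
  rw [hvI] at hDx
  exact isPrincipal_maximalIdeal_of_isEffCartierIdeal x hxc hDx

/-- **S14512**: an integral proper curve of genus zero over an algebraically closed field is
smooth. -/
theorem smooth_of_genus_zero [IsAlgClosed k] (hdim : topologicalKrullDim X = 1)
    (hg : Curv2.genus k X = 0) : Smooth (X ↘ Spec (CommRingCat.of k)) :=
  Groth.Agent.H5.Eig.smooth_of_regular k X _ (regular_stalks_of_genus_zero k X hdim hg)

end Groth.Agent.H5.Curve6
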