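import Mathlib
import Groth.Agent.Lib.Helper5.Curve6.G0

set_option autoImplicit false
universe u
open CategoryTheory CategoryTheory.Limits AlgebraicGeometry TopologicalSpace Opposite

namespace Groth.Agent.H5.Curve6

open Groth.Agent.H5.Curve3

/-- if the extension of a finitely generated ideal `I` to the localization at a prime `p` is
principal, then after inverting one element outside `p`, the ideal `I` is generated by one of
its elements. -/
theorem exists_smul_le_span_ideal {A : Type*} [CommRing A] (p : Ideal A) [p.IsPrime]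
    (I : Ideal A) (hI : I.FG)
    (S : Type*) [CommRing S] [Algebra A S] [IsLocalization.AtPrime S p]
    (h : (I.map (algebraMap A S)).IsPrincipal) :
    ∃ g : A, g ∉ p ∧ ∃ a ∈ I, I.map (algebraMap A S) = Ideal.span {algebraMap A S a} ∧
      ∀ b ∈ I, ∃ c : A, g * b = c * a := by
  obtain ⟨π, hπ⟩ := h.principal
  have hπ' : I.map (algebraMap A S) = Ideal.span {π} := hπ
  have hπmem : π ∈ I.map (algebraMap A S) := by
    rw [hπ']; exact Ideal.mem_span_singleton_self π
  obtain ⟨⟨⟨a, haI⟩, s⟩, hπas⟩ :=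
    (IsLocalization.mem_map_algebraMap_iff p.primeCompl S).mp hπmem
  have hπas' : π * algebraMap A S (s : A) = algebraMap A S a := hπas
  have hsu : IsUnit (algebraMap A S (s : A)) := IsLocalization.map_units S s
  have hgen : I.map (algebraMap A S) = Ideal.span {algebraMap A S a} := by
    rw [hπ']
    apply le_antisymm
    · rw [Ideal.span_singleton_le_iff_mem]
      obtain ⟨u, hu⟩ := hsu
      have : π = algebraMap A S a * (↑u⁻¹ : S) := by
        rw [← hπas', ← hu, mul_assoc, Units.mul_inv, mul_one]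
      rw [this]
      exact Ideal.mul_mem_right _ _ (Ideal.mem_span_singleton_self _)
    · rw [Ideal.span_singleton_le_iff_mem, ← hπas']
      exact Ideal.mul_mem_right _ _ (Ideal.mem_span_singleton_self _)
  have key : ∀ b ∈ I, ∃ g : A, g ∉ p ∧ ∃ c : A, g * b = c * a := by
    intro b hb
    have hbS : algebraMap A S b ∈ Ideal.span {algebraMap A S a} := by
      rw [← hgen]
      exact Ideal.mem_map_of_mem _ hb
    obtain ⟨z, hz⟩ := Ideal.mem_span_singleton'.mp hbS
    obtain ⟨⟨c, t⟩, hct⟩ := IsLocalization.surj p.primeCompl z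
    have h1 : algebraMap A S (b * t) = algebraMap A S (c * a) := by
      rw [map_mul, map_mul, ← hz, ← hct]
      ring
    obtain ⟨u, hu⟩ := (IsLocalization.eq_iff_exists p.primeCompl S).mp h1
    refine ⟨u * t, ?_, u * c, ?_⟩
    · exact (u * t).2
    · calc (u : A) * t * b = u * (b * t) := by ring
        _ = u * (c * a) := hu
        _ = u * c * a := by ring
  obtain ⟨T, hT⟩ := hI
  have hT' : ∀ b ∈ T, b ∈ I := fun b hb => hT ▸ Ideal.subset_span hb
  choose! g hg c hc using key
  refine ⟨∏ b ∈ T, g b, ?_, a, haI, hgen, ?_⟩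
  · intro hmem
    obtain ⟨b, hbT, hb⟩ := (Ideal.IsPrime.prod_mem_iff).mp hmem
    exact hg b (hT' b hbT) hb
  · intro b hb
    rw [← hT] at hb
    refine Submodule.span_induction ?_ ?_ ?_ ?_ hb
    · intro x hx
      obtain ⟨d, hd⟩ := Finset.dvd_prod_of_mem g hx
      refine ⟨d * c x, ?_⟩
      rw [hd]
      calc g x * d * x = d * (g x * x) := by ring
        _ = d * (c x * a) := by rw [hc x (hT' x hx)]
        _ = d * c x * a := by ring
    · exact ⟨0, by simp⟩
    · rintro x y _ _ ⟨cx, hx⟩ ⟨cy, hy⟩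
      exact ⟨cx + cy, by rw [mul_add, hx, hy, add_mul]⟩
    · rintro r x _ ⟨cx, hx⟩
      exact ⟨r * cx, by rw [smul_eq_mul, mul_left_comm, hx, mul_assoc]⟩

variable {X : Scheme.{u}}

/-- on an integral scheme, an ideal sheaf vanishing on one nonempty affine open vanishes. -/
theorem ideal_eq_bot_of_ideal_eq_bot [IsIntegral X] (I : X.IdealSheafData) (U : X.affineOpens)
    (hU : (U.1 : Set X).Nonempty) (h : I.ideal U = ⊥) : I = ⊥ := by
  apply Scheme.IdealSheafData.ext
  funext V
  rw [Scheme.IdealSheafData.ideal_bot]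
  change I.ideal V = ⊥
  rw [eq_bot_iff]
  intro a ha
  rw [Ideal.mem_bot]
  by_cases hV : (V.1 : Set X).Nonempty
  swap
  · haveI : Subsingleton Γ(X, V.1) := by
      have : V.1 = ⊥ := by
        ext z
        simp only [Opens.coe_bot, Set.mem_empty_iff_false, iff_false]
        intro hz
        exact hV ⟨z, hz⟩
      rw [this]
      infer_instance
    exact Subsingleton.elim _ _
  -- a nonempty affine open inside `U ∩ V`
  obtain ⟨z, hzU, hzV⟩ : ((U.1 : Set X) ∩ (V.1 : Set X)).Nonempty :=
    nonempty_preirreducible_inter U.1.2 V.1.2 hU hV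
  obtain ⟨_, ⟨W, hW, rfl⟩, hzW, hWle⟩ :=
    X.isBasis_affineOpens.exists_subset_of_mem_open (show z ∈ ((U.1 ⊓ V.1 : X.Opens) : Set X) from
      ⟨hzU, hzV⟩) (U.1 ⊓ V.1).2
  have hWU : (⟨W, hW⟩ : X.affineOpens) ≤ U := fun y hy => (hWle hy).1
  have hWV : (⟨W, hW⟩ : X.affineOpens) ≤ V := fun y hy => (hWle hy).2
  have h1 := I.map_ideal hWU
  rw [h, Ideal.map_bot] at h1
  have h2 := I.map_ideal hWV
  rw [← h1] at h2
  have h3 : (X.presheaf.map (homOfLE hWV).op).hom a ∈ (⊥ : Ideal Γ(X, W)) := by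
    rw [← h2]
    exact Ideal.mem_map_of_mem _ ha
  rw [Ideal.mem_bot] at h3
  haveI : Nonempty W := ⟨⟨z, hzW⟩⟩
  have hinj := map_injective_of_isIntegral X (homOfLE hWV)
  apply hinj
  rw [map_zero]
  exact h3

/-- **a nonzero ideal sheaf on an integral locally Noetherian scheme whose local rings have
principal maximal ideals (a Dedekind scheme) is an effective Cartier divisor.** -/
theorem isEffCartierIdeal_of_isPrincipal_maximalIdeal [IsIntegral X] [IsLocallyNoetherian X]
    (hpr : ∀ x : X, (IsLocalRing.maximalIdeal (X.presheaf.stalk x)).IsPrincipal)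
    (I : X.IdealSheafData) (hI : I ≠ ⊥) : BlowUp.IsEffCartierIdeal I := by
  intro y
  obtain ⟨_, ⟨U, hU, rfl⟩, hxU, -⟩ :=
    X.isBasis_affineOpens.exists_subset_of_mem_open (Set.mem_univ y) isOpen_univ
  haveI : IsNoetherianRing Γ(X, U) := IsLocallyNoetherian.component_noetherian ⟨U, hU⟩
  letI : Algebra Γ(X, U) (X.presheaf.stalk y) :=
    TopCat.Presheaf.algebra_section_stalk X.presheaf ⟨y, hxU⟩
  haveI hloc : IsLocalization.AtPrime (X.presheaf.stalk y)
      (hU.primeIdealOf ⟨y, hxU⟩).asIdeal := hU.isLocalization_stalk ⟨y, hxU⟩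
  haveI : IsPrincipalIdealRing (X.presheaf.stalk y) :=
    ((tfae_of_isNoetherianRing_of_isLocalRing_of_isDomain (X.presheaf.stalk y)).out 4 0).mp (hpr y)
  have hfg : (I.ideal ⟨U, hU⟩).FG := (isNoetherianRing_iff_ideal_fg _).mp inferInstance _
  obtain ⟨g, hg, a, haI, hgen, hmul⟩ :=
    exists_smul_le_span_ideal (hU.primeIdealOf ⟨y, hxU⟩).asIdeal (I.ideal ⟨U, hU⟩) hfg
      (X.presheaf.stalk y) (IsPrincipalIdealRing.principal _)
  have hyg : y ∈ X.basicOpen g := (mem_basicOpen_iff_notMem_primeIdealOf hU g y hxU).mpr hg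
  have hne : I.ideal ⟨U, hU⟩ ≠ ⊥ := fun h0 =>
    hI (ideal_eq_bot_of_ideal_eq_bot I ⟨U, hU⟩ ⟨y, hxU⟩ h0)
  refine ⟨X.affineBasicOpen (U := ⟨U, hU⟩) g, hyg,
    X.presheaf.map (homOfLE (X.basicOpen_le g)).op a, ?_, ?_⟩
  · haveI : Nonempty (X.basicOpen g) := ⟨⟨y, hyg⟩⟩
    haveI : IsDomain Γ(X, X.basicOpen g) := inferInstance
    change (X.presheaf.map (homOfLE (X.basicOpen_le g)).op).hom a ∈
      nonZeroDivisors Γ(X, X.basicOpen g)
    apply mem_nonZeroDivisors_of_ne_zero
    intro h0
    apply hne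
    have h1 : algebraMap Γ(X, U) (X.presheaf.stalk y) a =
        X.presheaf.germ (X.basicOpen g) y hyg
          (X.presheaf.map (homOfLE (X.basicOpen_le g)).op a) := by
      rw [TopCat.Presheaf.germ_res_apply]
      rfl
    rw [h1, h0, map_zero] at hgen
    have h2 : Ideal.span {(0 : X.presheaf.stalk y)} = ⊥ := by simp
    rw [h2, Ideal.map_eq_bot_iff_le_ker] at hgen
    rw [eq_bot_iff]
    intro b hb
    have h3 := hgen hb
    rw [RingHom.mem_ker] at h3
    rw [Ideal.mem_bot]
    have hinj : Function.Injective (algebraMap Γ(X, U) (X.presheaf.stalk y)) :=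
      germ_injective_of_isIntegral X y hxU
    apply hinj
    rw [map_zero]
    exact h3
  · rw [← I.map_ideal_basicOpen ⟨U, hU⟩ g]
    apply le_antisymm
    · refine Ideal.map_le_iff_le_comap.mpr ?_
      intro b hb
      obtain ⟨c, hc⟩ := hmul b hb
      rw [Ideal.mem_comap]
      have hu : IsUnit ((X.presheaf.map (homOfLE (X.basicOpen_le g)).op).hom g) :=
        X.toRingedSpace.isUnit_res_basicOpen g
      obtain ⟨w, hw⟩ := hu
      have h2 := congrArg (X.presheaf.map (homOfLE (X.basicOpen_le g)).op).hom hc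
      rw [map_mul, map_mul, ← hw] at h2
      have h3 : (X.presheaf.map (homOfLE (X.basicOpen_le g)).op).hom b =
          (↑w⁻¹ * (X.presheaf.map (homOfLE (X.basicOpen_le g)).op).hom c) *
            (X.presheaf.map (homOfLE (X.basicOpen_le g)).op).hom a := by
        rw [mul_assoc, ← h2, ← mul_assoc, Units.inv_mul, one_mul]
      rw [h3]
      exact Ideal.mul_mem_left _ _ (Ideal.subset_span rfl)
    · rw [Ideal.span_le, Set.singleton_subset_iff]
      exact Ideal.mem_map_of_mem _ haI

end Groth.Agent.H5.Curve6
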