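import Mathlib
import Groth.Agent.Lib.Helper5.Curve6.IdealInv

set_option autoImplicit false
universe u
open CategoryTheory CategoryTheory.Limits AlgebraicGeometry TopologicalSpace Opposite

namespace Groth.Agent.H5.Curve6

open Groth.Agent.LD Groth.Agent.LD.QC Groth.Agent.H5.Curve2 Groth.Agent.H5.Curve4
open Groth.Agent.H5.DegC Groth.Agent.H5.Snap Groth.Agent.H5.IntN

variable (k : Type u) [Field k] (X : Scheme.{u}) [X.Over (Spec (CommRingCat.of k))]
  [IsProper (X ↘ Spec (CommRingCat.of k))] [IsIntegral X]

include k in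
/-- on a regular integral curve all local rings have principal maximal ideals. -/
theorem isPrincipal_maximalIdeal_of_regular (hdim : topologicalKrullDim X ≤ 1)
    (hreg : ∀ x : X, IsRegularLocalRing (X.presheaf.stalk x)) (x : X) :
    (IsLocalRing.maximalIdeal (X.presheaf.stalk x)).IsPrincipal := by
  haveI := Curve.isLocallyNoetherian k X
  by_cases hne : x = genericPoint X
  · have hfield : IsField (X.presheaf.stalk x) := by
      rw [hne]
      exact isField_stalk_of_closure_mem_irreducibleComponents X _
        (by simp [irreducibleComponents_eq_singleton])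
    rw [IsLocalRing.isField_iff_maximalIdeal_eq.mp hfield]
    exact bot_isPrincipal
  · have h1 := Groth.Agent.H5.Curve1.ringKrullDim_stalk_eq_one hdim x hne
    have h2 := (hreg x).spanFinrank_maximalIdeal
    rw [h1] at h2
    have h3 : (IsLocalRing.maximalIdeal (X.presheaf.stalk x)).spanFinrank = 1 := by
      exact_mod_cast h2
    exact ((Submodule.spanFinrank_eq_one_iff _).mp h3).1

include k in
/-- **every nonzero ideal sheaf on a regular integral curve is an effective Cartier divisor.** -/
theorem isEffCartierIdeal_of_regular (hdim : topologicalKrullDim X ≤ 1)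
    (hreg : ∀ x : X, IsRegularLocalRing (X.presheaf.stalk x)) (I : X.IdealSheafData)
    (hI : I ≠ ⊥) : BlowUp.IsEffCartierIdeal I := by
  haveI := Curve.isLocallyNoetherian k X
  exact isEffCartierIdeal_of_isPrincipal_maximalIdeal
    (isPrincipal_maximalIdeal_of_regular k X hdim hreg) I hI

/-- `h⁰(O / 0) = 1`. -/
theorem finrank_H0_quotMod_bot [IsAlgClosed k] :
    Module.finrank k (Coh.HH X (ClSub.quotMod (⊥ : X.IdealSheafData)) 0) = 1 := by
  have h := finrank_H0_quotMod_vI k X (genericPoint X)
  have hv : vI (genericPoint X) = ⊥ := by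
    have h1 : (⟨closure ({genericPoint X} : Set X), isClosed_closure⟩ : Closeds X) = ⊤ := by
      apply Closeds.ext
      exact (genericPoint_spec X)
    change Scheme.IdealSheafData.vanishingIdeal _ = ⊥
    rw [h1, Scheme.IdealSheafData.vanishingIdeal_top, Scheme.nilradical_eq_bot]
  rw [hv] at h
  exact h

/-- the degree of the ideal sheaf of an effective Cartier divisor. -/
theorem deg_idealMod_of_isEffCartierIdeal [IsAlgClosed k] (hdim : topologicalKrullDim X ≤ 1)
    (D : X.IdealSheafData) (hD : BlowUp.IsEffCartierIdeal D) :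
    Curv2.deg k X (ClSub.idealMod D) 1 =
      - (Module.finrank k (Coh.HH X (ClSub.quotMod D) 0) : ℤ) := by
  haveI := Curve.isLocallyNoetherian k X
  have hI : PicF.IsInvertible (ClSub.idealMod D) := (isInvertible_idealMod_iff D).mpr hD
  obtain ⟨L, hL, ⟨e⟩⟩ := Groth.Agent.H5.Glue.exists_inverse _ hI
  haveI : L.IsQuasicoherent := qc_of_isInvertible L hL
  have hLD : ClSub.IsInverseOf L (ClSub.idealMod D) := ⟨tensorComm _ _ ≪≫ e⟩
  have h1 := deg_of_inverse_idealMod k hdim D hD L hL hLD
  have h2 := deg_tensor k X hdim hI hL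
  have h3 := Curve.deg_iso k X e 1
  rw [Curve.deg_structureModule] at h3
  change Curv2.deg k X (CohB1.tensorMod (ClSub.idealMod D) L) 1 = 0 at h3
  rw [h2, h1] at h3
  linarith

/-- **S18804**: an invertible module of degree `≥ 2g + 3` on a regular curve is `3`-very
ample. -/
theorem h0_tensor_ideal_of_deg_ge [IsAlgClosed k] (hdim : topologicalKrullDim X = 1)
    (hreg : ∀ x : X, IsRegularLocalRing (X.presheaf.stalk x))
    (L : X.Modules) (hL : PicF.IsInvertible L) (n : ℕ)
    (hdeg : 2 * (Curv2.genus k X : ℤ) - 1 + n ≤ Curv2.deg k X L 1)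
    (I : X.IdealSheafData) (hI : Module.finrank k (Coh.HH X (ClSub.quotMod I) 0) = n)
    (hn : n ≠ 1) :
    Module.finrank k (Coh.HH X (CohB1.tensorMod L (ClSub.idealMod I)) 0) + n =
      Module.finrank k (Coh.HH X L 0) := by
  haveI := Curve.isLocallyNoetherian k X
  haveI : L.IsQuasicoherent := qc_of_isInvertible L hL
  have hIne : I ≠ ⊥ := by
    rintro rfl
    rw [finrank_H0_quotMod_bot k X] at hI
    exact hn hI.symm
  have hD := isEffCartierIdeal_of_regular k X hdim.le hreg I hIne
  have hIinv : PicF.IsInvertible (ClSub.idealMod I) := (isInvertible_idealMod_iff I).mpr hD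
  have hM : PicF.IsInvertible (CohB1.tensorMod L (ClSub.idealMod I)) :=
    isInvertible_tensorMod hL hIinv
  haveI : (CohB1.tensorMod L (ClSub.idealMod I)).IsQuasicoherent := qc_of_isInvertible _ hM
  have hdegM : Curv2.deg k X (CohB1.tensorMod L (ClSub.idealMod I)) 1 =
      Curv2.deg k X L 1 - n := by
    rw [deg_tensor k X hdim.le hL hIinv, deg_idealMod_of_isEffCartierIdeal k X hdim.le I hD, hI]
    ring
  haveI : Subsingleton (Coh.HH X (CohB1.tensorMod L (ClSub.idealMod I)) 1) := by
    apply subsingleton_H1_of_deg_ge k X hdim _ hM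
    rw [hdegM]
    linarith
  haveI : Subsingleton (Coh.HH X L 1) := by
    apply subsingleton_H1_of_deg_ge k X hdim _ hL
    have : (0 : ℤ) ≤ n := Int.natCast_nonneg n
    linarith
  have h1 : Module.finrank k (Coh.HH X (CohB1.tensorMod L (ClSub.idealMod I)) 1) = 0 :=
    Module.finrank_zero_of_subsingleton
  have h2 : Module.finrank k (Coh.HH X L 1) = 0 := Module.finrank_zero_of_subsingleton
  have e1 := deg_eq_h0_sub_h1 k X hdim (CohB1.tensorMod L (ClSub.idealMod I))
  have e2 := deg_eq_h0_sub_h1 k X hdim L
  rw [h1, hdegM] at e1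
  rw [h2] at e2
  push_cast at e1 e2
  have : (Module.finrank k (Coh.HH X (CohB1.tensorMod L (ClSub.idealMod I)) 0) : ℤ) + n =
      Module.finrank k (Coh.HH X L 0) := by linarith
  exact_mod_cast this

end Groth.Agent.H5.Curve6
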