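import Mathlib
import Groth.Agent.Lib.Helper5.Curve6.IdealInv2
import Groth.Agent.Lib.Helper5.Curve4.VB1

set_option autoImplicit false
universe u
open CategoryTheory CategoryTheory.Limits AlgebraicGeometry TopologicalSpace Opposite

namespace Groth.Agent.H5.Curve6

open Groth.Agent.LD Groth.Agent.LD.QC Groth.Agent.H5.Curve2 Groth.Agent.H5.Curve4
open Groth.Agent.H5.DegC Groth.Agent.H5.Snap Groth.Agent.H5.IntN

variable (k : Type u) [Field k] (X : Scheme.{u}) [X.Over (Spec (CommRingCat.of k))]
  [IsProper (X ↘ Spec (CommRingCat.of k))] [IsIntegral X]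

/-- twisting up by a point: `M' = M(p)`. -/
theorem exists_twist_up [IsAlgClosed k] (hdim : topologicalKrullDim X = 1) (M : X.Modules)
    (hM : PicF.IsInvertible M) :
    ∃ M' : X.Modules, PicF.IsInvertible M' ∧ Curv2.deg k X M' 1 = Curv2.deg k X M 1 + 1 ∧
      Module.finrank k (Coh.HH X M 0) ≤ Module.finrank k (Coh.HH X M' 0) ∧
      Module.finrank k (Coh.HH X M' 0) ≤ Module.finrank k (Coh.HH X M 0) + 1 := by
  haveI := Curve.isLocallyNoetherian k X
  haveI : M.IsQuasicoherent := qc_of_isInvertible M hM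
  haveI : Nonempty X := nonempty_of_dim_eq_one X hdim
  obtain ⟨y, hy, -, hDy⟩ := exists_closed_point_effCartier k X hdim ⊤
    ⟨Classical.arbitrary X, trivial⟩
  have hvI : vI y = Scheme.IdealSheafData.vanishingIdeal ⟨{y}, hy⟩ :=
    congrArg Scheme.IdealSheafData.vanishingIdeal (Closeds.ext hy.closure_eq)
  rw [← hvI] at hDy
  have hIy : PicF.IsInvertible (ClSub.idealMod (vI y)) := (isInvertible_idealMod_iff _).mpr hDy
  haveI : (ClSub.idealMod (vI y)).IsQuasicoherent := qc_of_isInvertible _ hIy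
  obtain ⟨L, hL, ⟨e⟩⟩ := Groth.Agent.H5.Glue.exists_inverse _ hIy
  haveI : L.IsQuasicoherent := qc_of_isInvertible L hL
  have hLD : ClSub.IsInverseOf L (ClSub.idealMod (vI y)) := ⟨tensorComm _ _ ≪≫ e⟩
  have hdegL : Curv2.deg k X L 1 = 1 := by
    rw [deg_of_inverse_idealMod k hdim.le _ hDy L hL hLD, finrank_H0_quotMod_vI k X y]
    rfl
  have hM' : PicF.IsInvertible (CohB1.tensorMod M L) := isInvertible_tensorMod hM hL
  haveI : (CohB1.tensorMod M L).IsQuasicoherent := qc_of_isInvertible _ hM'
  obtain ⟨-, h1, h2, -, -, -, -⟩ := point_twist_facts k X (CohB1.tensorMod M L) hM' y hy hDy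
  have eiso : CohB1.tensorMod (ClSub.idealMod (vI y)) (CohB1.tensorMod M L) ≅ M :=
    tensorComm _ _ ≪≫ backIso L (ClSub.idealMod (vI y)) (tensorComm _ _ ≪≫ e) M
  rw [finrank_HH_iso k X eiso 0] at h1 h2
  refine ⟨_, hM', ?_, h1, h2⟩
  rw [deg_tensor k X hdim.le hM hL, hdegL]

/-- **an invertible module of degree `≤ 2g - 1` has at most `g` independent sections.** -/
theorem h0_le_genus_of_deg_le [IsAlgClosed k] (hdim : topologicalKrullDim X = 1) :
    ∀ (m : ℕ) (M : X.Modules), PicF.IsInvertible M →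
      Curv2.deg k X M 1 + m = 2 * (Curv2.genus k X : ℤ) - 1 →
      Module.finrank k (Coh.HH X M 0) ≤ Curv2.genus k X := by
  intro m
  induction m with
  | zero =>
    intro M hM hd
    haveI : M.IsQuasicoherent := qc_of_isInvertible M hM
    haveI : Subsingleton (Coh.HH X M 1) := by
      apply subsingleton_H1_of_deg_ge k X hdim M hM
      push_cast at hd
      linarith
    have h1 : Module.finrank k (Coh.HH X M 1) = 0 := Module.finrank_zero_of_subsingleton
    have e1 := deg_eq_h0_sub_h1 k X hdim M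
    rw [h1] at e1
    push_cast at hd e1
    have : (Module.finrank k (Coh.HH X M 0) : ℤ) ≤ Curv2.genus k X := by linarith
    exact_mod_cast this
  | succ m ih =>
    intro M hM hd
    obtain ⟨M', hM', hd', hle, -⟩ := exists_twist_up k X hdim M hM
    have := ih M' hM' (by rw [hd']; push_cast at hd ⊢; linarith)
    omega

/-- **S11822**: for a rank two bundle `E` with `H¹(E) = 0` and `deg E ≥ 4g - 2`,
`h⁰`-semistability with respect to line subbundles is equivalent to slope semistability. -/
theorem h0Semistable_iff_semistable_rank_two [IsAlgClosed k] (hdim : topologicalKrullDim X = 1)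
    (E : X.Modules) (hE : FlatMod.IsFinLocFreeOfRank 2 E) (h1 : Subsingleton (Coh.HH X E 1))
    (hdeg : 4 * (Curv2.genus k X : ℤ) - 2 ≤ Curv2.deg k X E 2) :
    (∀ (M : X.Modules) (i : M ⟶ E), Mono i → PicF.IsInvertible M →
        2 * Module.finrank k (Coh.HH X M 0) ≤ Module.finrank k (Coh.HH X E 0)) ↔
      (∀ (F : X.Modules) (r' : ℕ) (i : F ⟶ E), Mono i → 0 < r' →
        FlatMod.IsFinLocFreeOfRank r' F →
        Curv2.deg k X F r' * (2 : ℤ) ≤ Curv2.deg k X E 2 * (r' : ℤ)) := by
  haveI := Curve.isLocallyNoetherian k X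
  haveI : Nonempty X := nonempty_of_dim_eq_one X hdim
  have hEc : Coh.IsCoh E := Curve.isCoh_of_rank hE
  haveI : E.IsQuasicoherent := hEc.1
  have hOc : Coh.IsCoh (unitMod X) := Curve2.isCoh_of_isInvertible (isInvertible_unit X)
  haveI : (Coh.structureModule X).IsQuasicoherent := hOc.1
  have eO := Curve.euler_eq_sub k X hdim.le (Coh.structureModule X)
  have eO0 : Module.finrank k (Coh.HH X (Coh.structureModule X) 0) = 1 :=
    Groth.Agent.H5.Curve3.finrank_HH0_eq_one_of_isAlgClosed k X
  have hg : (Curv2.genus k X : ℤ) = Module.finrank k (Coh.HH X (Coh.structureModule X) 1) := rfl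
  have eE := Curve.euler_eq_sub k X hdim.le E
  have hE1 : Module.finrank k (Coh.HH X E 1) = 0 := Module.finrank_zero_of_subsingleton
  -- `h⁰(E) = deg E + 2 - 2g`
  have hh0E : (Module.finrank k (Coh.HH X E 0) : ℤ) =
      Curv2.deg k X E 2 + 2 - 2 * (Curv2.genus k X : ℤ) := by
    unfold Curv2.deg
    rw [eE, eO, hE1, eO0, hg]
    push_cast
    ring
  constructor
  · intro hA F r' i hi hr' hF
    haveI := hi
    have hr2 : r' ≤ 2 := rank_le_of_mono X i r' 2 hF hE
    obtain rfl | rfl : r' = 1 ∨ r' = 2 := by omega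
    · have hFinv : PicF.IsInvertible F := (isInvertible_iff F).mpr hF
      haveI : F.IsQuasicoherent := qc_of_isInvertible F hFinv
      have h2 := hA F i hi hFinv
      have eF := Curve.euler_eq_sub k X hdim.le F
      have h2' : 2 * (Module.finrank k (Coh.HH X F 0) : ℤ) ≤ Module.finrank k (Coh.HH X E 0) := by
        exact_mod_cast h2
      have h3 : (0 : ℤ) ≤ Module.finrank k (Coh.HH X F 1) := Int.natCast_nonneg _
      unfold Curv2.deg at hh0E ⊢
      rw [eF, eO, eO0, ← hg]
      rw [eO, eO0, ← hg] at hh0E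
      push_cast at hh0E ⊢
      linarith
    · have := (Curve.deg_le_of_mono k X hdim.le 2 hF hE i).1
      push_cast
      linarith
  · intro hB M i hi hM
    haveI : M.IsQuasicoherent := qc_of_isInvertible M hM
    have hM1 : FlatMod.IsFinLocFreeOfRank 1 M := (isInvertible_iff M).mp hM
    have h2 := hB M 1 i hi Nat.one_pos hM1
    push_cast at h2
    by_cases hc : 2 * (Curv2.genus k X : ℤ) - 1 ≤ Curv2.deg k X M 1
    · haveI : Subsingleton (Coh.HH X M 1) := subsingleton_H1_of_deg_ge k X hdim M hM hc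
      have hM1' : Module.finrank k (Coh.HH X M 1) = 0 := Module.finrank_zero_of_subsingleton
      have e1 := deg_eq_h0_sub_h1 k X hdim M
      rw [hM1'] at e1
      push_cast at e1
      have : 2 * (Module.finrank k (Coh.HH X M 0) : ℤ) ≤ Module.finrank k (Coh.HH X E 0) := by
        rw [hh0E]
        linarith
      exact_mod_cast this
    · push Not at hc
      have hm : ∃ m : ℕ, Curv2.deg k X M 1 + m = 2 * (Curv2.genus k X : ℤ) - 1 :=
        ⟨(2 * (Curv2.genus k X : ℤ) - 1 - Curv2.deg k X M 1).toNat, by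
          rw [Int.toNat_of_nonneg (by linarith)]; ring⟩
      obtain ⟨m, hm⟩ := hm
      have h3 := h0_le_genus_of_deg_le k X hdim m M hM hm
      have h3' : (Module.finrank k (Coh.HH X M 0) : ℤ) ≤ Curv2.genus k X := by exact_mod_cast h3
      have : 2 * (Module.finrank k (Coh.HH X M 0) : ℤ) ≤ Module.finrank k (Coh.HH X E 0) := by
        rw [hh0E]
        linarith
      exact_mod_cast this

end Groth.Agent.H5.Curve6
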