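import Mathlib
import Groth.Agent.Lib.Helper5.Curve6.SS2
import Groth.Agent.Lib.Helper5.Curve4.Sat3
import Groth.Agent.Lib.Helper5.Curve4.H0Bound
import Groth.Agent.Lib.Helper5.DegC.TensorDeg

set_option autoImplicit false
universe u
open CategoryTheory CategoryTheory.Limits AlgebraicGeometry TopologicalSpace Opposite

namespace Groth.Agent.H5.Curve6

open Groth.Agent.LD Groth.Agent.LD.QC Groth.Agent.H5.Curve2 Groth.Agent.H5.Curve4
open Groth.Agent.H5.DegC Groth.Agent.H5.Snap Groth.Agent.H5.IntN

variable (k : Type u) [Field k] (X : Scheme.{u}) [X.Over (Spec (CommRingCat.of k))]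
  [IsProper (X ↘ Spec (CommRingCat.of k))] [Smooth (X ↘ Spec (CommRingCat.of k))] [IsIntegral X]

include k in
/-- a coherent module supported at closed points has no `H¹`. -/
theorem subsingleton_H1_of_support_closed_points (hdim : topologicalKrullDim X ≤ 1)
    (T : X.Modules) (hT : Coh.IsCoh T)
    (hpt : ∀ x : X, ¬ Subsingleton (T.presheaf.stalk x) → IsClosed ({x} : Set X)) :
    Subsingleton (Coh.HH X T 1) := by
  haveI := hT.1
  have e1 := Curve.euler_of_support_closed_points k X T hT hpt
  have e2 := Curve.euler_eq_sub k X hdim T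
  haveI : Module.Finite k (Coh.HH X T 1) := Curve.finite_HH k X _ hT 1
  have h0 : Module.finrank k (Coh.HH X T 1) = 0 := by
    rw [e1] at e2
    omega
  exact Module.finrank_zero_iff.mp h0

include k in
/-- an invertible module receiving a nonzero map from an invertible module without `H¹` has no
`H¹`. -/
theorem subsingleton_H1_of_hom_ne_zero (hdim : topologicalKrullDim X ≤ 1) {N M : X.Modules}
    (hN : PicF.IsInvertible N) (hM : PicF.IsInvertible M) (j : N ⟶ M) (hj : j ≠ 0)
    (h : Subsingleton (Coh.HH X N 1)) : Subsingleton (Coh.HH X M 1) := by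
  haveI := Curve.isLocallyNoetherian k X
  haveI := Curve.mono_of_ne_zero hN hM j hj
  have hNc := Curve2.isCoh_of_isInvertible hN
  have hMc := Curve2.isCoh_of_isInvertible hM
  have hTc : Coh.IsCoh (cokernel j) := isCoh_cokernel j hNc hMc
  have hS : (ShortComplex.mk j (cokernel.π j) (cokernel.condition j)).ShortExact :=
    { exact := ShortComplex.exact_cokernel j
      mono_f := inferInstanceAs (Mono j)
      epi_g := inferInstanceAs (Epi (cokernel.π j)) }
  have hη := Curve.subsingleton_stalk_cokernel 1 ((isInvertible_iff _).mp hN)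
    ((isInvertible_iff _).mp hM) j
  have hpt : ∀ x : X, ¬ Subsingleton ((cokernel j).presheaf.stalk x) → IsClosed ({x} : Set X) :=
    fun x hx => Curve.isClosed_singleton_of_stalk hdim (cokernel j) hη x hx
  have hT1 := subsingleton_H1_of_support_closed_points k X hdim (cokernel j) hTc hpt
  exact CL.subsingleton_mid hS 1 h hT1

/-- a nonzero section of `E ⊗ N'` gives a nonzero map `N ⟶ E` (`N ⊗ N' ≅ O`). -/
theorem exists_hom_ne_zero_of_section {E N N' : X.Modules} [E.IsQuasicoherent]
    (hN : PicF.IsInvertible N) (hN' : PicF.IsInvertible N')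
    (e : CohB1.tensorMod N N' ≅ unitMod X)
    (s : unitMod X ⟶ CohB1.tensorMod E N') (hs : s ≠ 0) : ∃ φ : N ⟶ E, φ ≠ 0 := by
  haveI : N.IsQuasicoherent := qc_of_isInvertible N hN
  haveI : N'.IsQuasicoherent := qc_of_isInvertible N' hN'
  haveI : (CohB1.tensorMod E N').IsQuasicoherent := tensorMod_isQuasicoherent _ _
  have e' : CohB1.tensorMod N' N ≅ unitMod X := tensorComm _ _ ≪≫ e
  refine ⟨(unitorL N).inv ≫ KoszTw.tensorMap s (𝟙 N) ≫ (backIso N' N e' E).hom, ?_⟩
  intro h0
  apply hs
  have h1 : KoszTw.tensorMap s (𝟙 N) = 0 := by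
    have h2 : (unitorL N).hom ≫ ((unitorL N).inv ≫ KoszTw.tensorMap s (𝟙 N) ≫
        (backIso N' N e' E).hom) ≫ (backIso N' N e' E).inv = 0 := by
      rw [h0, zero_comp, comp_zero]
    simpa using h2
  have h3 := backIso_naturality N N' e hN hN' s
  rw [h1, tensorMap_zero_id hN', zero_comp] at h3
  have h4 : (backIso N N' e (unitMod X)).inv ≫ (backIso N N' e (unitMod X)).hom ≫ s = 0 := by
    rw [← h3, comp_zero]
  simpa using h4

/-- **vanishing of `H¹` for bundles all of whose quotient bundles have slope `> 2g - 2`.** -/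
theorem subsingleton_H1_of_quotients [IsAlgClosed k] (hdim : topologicalKrullDim X = 1) :
    ∀ (r : ℕ) (E : X.Modules), FlatMod.IsFinLocFreeOfRank r E →
      (∀ (Q : X.Modules) (s : ℕ) (p : E ⟶ Q), Epi p → 0 < s → FlatMod.IsFinLocFreeOfRank s Q →
        (s : ℤ) * (2 * (Curv2.genus k X : ℤ) - 2) < Curv2.deg k X Q s) →
      Subsingleton (Coh.HH X E 1) := by
  haveI := Curve.isLocallyNoetherian k X
  intro r
  induction r with
  | zero =>
    intro E hE _
    exact CL.subsingleton_HH_of_isZero (isZero_of_rank_zero hE) 1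
  | succ n ih =>
    intro E hE hP
    have hEc : Coh.IsCoh E := Curve.isCoh_of_rank hE
    haveI : E.IsQuasicoherent := hEc.1
    -- the auxiliary invertible module `N` with `h⁰ = h¹ = 0`
    obtain ⟨-, N, hN, hN0, hN1⟩ := exists_invertible_prescribed k X hdim
    haveI : N.IsQuasicoherent := qc_of_isInvertible N hN
    obtain ⟨N', hN', ⟨e⟩⟩ := Groth.Agent.H5.Glue.exists_inverse N hN
    haveI : N'.IsQuasicoherent := qc_of_isInvertible N' hN'
    have hdegN : Curv2.deg k X N 1 = (Curv2.genus k X : ℤ) - 1 := by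
      have h1 : Module.finrank k (Coh.HH X N 1) = 0 := Module.finrank_zero_of_subsingleton
      have h0 : Module.finrank k (Coh.HH X N 0) = 0 := Module.finrank_zero_of_subsingleton
      rw [deg_eq_h0_sub_h1 k X hdim N, h0, h1]
      push_cast
      ring
    have hdegN' : Curv2.deg k X N' 1 = 1 - (Curv2.genus k X : ℤ) := by
      have h1 := deg_tensor k X hdim.le hN hN'
      have h2 := Curve.deg_iso k X e 1
      rw [Curve.deg_structureModule] at h2
      change Curv2.deg k X (CohB1.tensorMod N N') 1 = 0 at h2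
      rw [h1, hdegN] at h2
      linarith
    -- `χ(E ⊗ N') > 0`
    have hEdeg := hP E (n + 1) (𝟙 E) inferInstance (Nat.succ_pos n) hE
    have hdegEN := deg_tensorMod k hdim.le (n + 1) 1 E N' hE ((isInvertible_iff _).mp hN')
    haveI : (CohB1.tensorMod E N').IsQuasicoherent := tensorMod_isQuasicoherent _ _
    have hOc : Coh.IsCoh (unitMod X) := Curve2.isCoh_of_isInvertible (isInvertible_unit X)
    haveI : (Coh.structureModule X).IsQuasicoherent := hOc.1
    have eO := Curve.euler_eq_sub k X hdim.le (Coh.structureModule X)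
    have eO0 : Module.finrank k (Coh.HH X (Coh.structureModule X) 0) = 1 :=
      Groth.Agent.H5.Curve3.finrank_HH0_eq_one_of_isAlgClosed k X
    have hg : (Curv2.genus k X : ℤ) =
        Module.finrank k (Coh.HH X (Coh.structureModule X) 1) := rfl
    have hχ : 0 < Curv2.euler k X (CohB1.tensorMod E N') := by
      rw [hdegN'] at hdegEN
      unfold Curv2.deg at hdegEN hEdeg
      rw [eO, eO0, ← hg] at hdegEN hEdeg
      push_cast at hdegEN hEdeg
      nlinarith
    obtain ⟨s, hs⟩ := exists_section_ne_zero_of_euler_pos k X hdim.le _ hχ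
    obtain ⟨φ, hφ⟩ := exists_hom_ne_zero_of_section X hN hN' e s hs
    -- `φ` is a monomorphism
    have hN1' : FlatMod.IsFinLocFreeOfRank 1 N := (isInvertible_iff _).mp hN
    haveI : Mono φ := by
      obtain ⟨a, b, hab, ha, hb, -⟩ := kernel_image_facts k X hdim.le 1 (n + 1) hN1' hE φ
      have hbpos := rank_coimage_pos X hφ b hb
      have ha0 : a = 0 := by omega
      subst ha0
      exact mono_of_rank_kernel_zero X φ ha
    -- saturation
    obtain ⟨M, i', j, s', hi', hji, hM, hQ, hrs, -, -, -⟩ :=
      exists_saturation k X hdim.le φ 1 (n + 1) hN1' hE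
    haveI := hi'
    have hs' : s' = n := by omega
    subst hs'
    have hMinv : PicF.IsInvertible M := (isInvertible_iff _).mpr hM
    have hjne : j ≠ 0 := by
      intro h0
      apply hφ
      rw [← hji, h0, zero_comp]
    have hM1 : Subsingleton (Coh.HH X M 1) :=
      subsingleton_H1_of_hom_ne_zero k X hdim.le hN hMinv j hjne hN1
    -- the quotient
    have hQ1 : Subsingleton (Coh.HH X (cokernel i') 1) := by
      apply ih (cokernel i') hQ
      intro Q t p hp ht hQt
      haveI := hp
      exact hP Q t (cokernel.π i' ≫ p) (epi_comp _ _) ht hQt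
    have hS : (ShortComplex.mk i' (cokernel.π i') (cokernel.condition i')).ShortExact :=
      { exact := ShortComplex.exact_cokernel i'
        mono_f := inferInstanceAs (Mono i')
        epi_g := inferInstanceAs (Epi (cokernel.π i')) }
    exact CL.subsingleton_mid hS 1 hM1 hQ1

/-- **S11812**: a semistable bundle of slope `> 2g - 2` has no `H¹`. -/
theorem subsingleton_H1_of_semistable [IsAlgClosed k] (hdim : topologicalKrullDim X = 1)
    (r : ℕ) (hr : 0 < r) (E : X.Modules) (hE : FlatMod.IsFinLocFreeOfRank r E)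
    (hss : ∀ (F : X.Modules) (r' : ℕ) (i : F ⟶ E), Mono i → 0 < r' →
      FlatMod.IsFinLocFreeOfRank r' F →
      Curv2.deg k X F r' * (r : ℤ) ≤ Curv2.deg k X E r * (r' : ℤ))
    (hdeg : (r : ℤ) * (2 * (Curv2.genus k X : ℤ) - 2) < Curv2.deg k X E r) :
    Subsingleton (Coh.HH X E 1) := by
  apply subsingleton_H1_of_quotients k X hdim r E hE
  intro Q s p hp hs hQ
  have h1 := ((semistable_quotient_iff_sub k X hdim.le r hr E hE).1.2 hss) Q s p hp hs hQ
  have hrz : (0 : ℤ) < r := by exact_mod_cast hr
  have hsz : (0 : ℤ) < s := by exact_mod_cast hs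
  -- deg E * s ≤ deg Q * r,  r (2g-2) < deg E
  by_contra hcon
  push Not at hcon
  have h2 : Curv2.deg k X Q s * (r : ℤ) ≤ (s : ℤ) * (2 * (Curv2.genus k X : ℤ) - 2) * r :=
    mul_le_mul_of_nonneg_right hcon hrz.le
  have h3 : (r : ℤ) * (2 * (Curv2.genus k X : ℤ) - 2) * s < Curv2.deg k X E r * s :=
    mul_lt_mul_of_pos_right hdeg hsz
  nlinarith

end Groth.Agent.H5.Curve6
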