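import Mathlib
import Groth.Agent.Lib.Helper5.Curve6.SSH1
import Groth.Agent.Lib.Helper5.Curve6.Gaps
import Groth.Agent.Lib.Helper5.DegC.IntPrinciple
import Groth.Agent.Lib.Helper5.GG.SuppTens
import Groth.Agent.Lib.Lead.QC.ResolProp
import Groth.Agent.Lib.Lead.FF.GGDescent
import Groth.Agent.Lib.Lead.QC.SpanEpi
import Groth.Agent.Lib.Lead.QC.AmpleGG
import Groth.Agent.Lib.Lead.QC.TwistBack
import Groth.Agent.Lib.Lead.CohLES.H0Lin
import Groth.Agent.Lib.Lead.GS.Dim0

set_option autoImplicit false
universe u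
open CategoryTheory CategoryTheory.Limits AlgebraicGeometry TopologicalSpace Opposite

namespace Groth.Agent.H5.Curve6

open Groth.Agent.LD Groth.Agent.LD.QC Groth.Agent.H5.Curve2 Groth.Agent.H5.Curve4
open Groth.Agent.H5.DegC Groth.Agent.H5.Snap Groth.Agent.H5.IntN Groth.Agent.H5.Glue

theorem epi_of_surjective_app_top {X : Scheme.{u}} {A Q : X.Modules} (f : A ⟶ Q)
    (hQ : Curv2.IsGloballyGenerated Q) (hf : Function.Surjective (f.app ⊤)) : Epi f := by
  haveI hepi : Epi (FF.allSections Q) := (FF.isGloballyGenerated_iff_allSections Q).mp hQ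
  refine @Preadditive.epi_of_cancel_zero X.Modules _ _ _ _ f (fun {Z} g hg => ?_)
  have h0 : FF.allSections Q ≫ g = 0 := by
    apply Sigma.hom_ext
    intro s
    obtain ⟨a, ha⟩ := hf s
    have h1 : FF.ιOn X s ≫ FF.allSections Q ≫ g = homOfSection Z (g.app ⊤ s) := by
      rw [← Category.assoc, FF.ιOn_allSections, homOfSection_comp]
    have h2 : g.app ⊤ s = 0 := by
      rw [← ha]
      change (f ≫ g).app ⊤ a = 0
      rw [hg]
      rfl
    rw [h2, homOfSection_zero] at h1
    exact h1.trans comp_zero.symm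
  exact (cancel_epi (FF.allSections Q)).1 (h0.trans comp_zero.symm)

theorem isFinLocFreeOfRank_tensorMod_of_isInvertible {X : Scheme.{u}} [IsIntegral X]
    [IsNoetherian X] (n : ℕ) (E D : X.Modules) (hE : FlatMod.IsFinLocFreeOfRank n E)
    (hD : PicF.IsInvertible D) : FlatMod.IsFinLocFreeOfRank n (CohB1.tensorMod E D) := by
  obtain ⟨m, hm⟩ := exists_rank
    (Groth.Agent.LD.RP2.isFinLocFree_tensorMod_of_isInvertible E D (Curve.isFinLocFree_of_rank hE) hD)
  have h1 := gdim_of_rank hm
  have hD1 : FlatMod.IsFinLocFreeOfRank 1 D := (isInvertible_iff D).mp hD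
  have h2 := gdim_tensorMod n E hE D (Curve.isCoh_of_rank hD1)
  rw [gdim_of_rank hD1, mul_one] at h2
  have : m = n := by rw [← h1, h2]
  exact this ▸ hm

variable (k : Type u) [Field k] (X : Scheme.{u}) [X.Over (Spec (CommRingCat.of k))]
  [IsProper (X ↘ Spec (CommRingCat.of k))] [IsIntegral X]

theorem exists_point_bundle [IsAlgClosed k] (hdim : topologicalKrullDim X = 1)
    (hreg : ∀ x : X, IsRegularLocalRing (X.presheaf.stalk x)) (x : X)
    (hx : IsClosed ({x} : Set X)) :
    PicF.IsInvertible (ClSub.idealMod (vI x)) ∧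
    ∃ (L : X.Modules) (_ : PicF.IsInvertible L)
      (_ : CohB1.tensorMod (ClSub.idealMod (vI x)) L ≅ unitMod X) (σ : unitMod X ⟶ L),
      σ ≠ 0 ∧ x ∉ CohB1.genLocus L σ ∧ Curv2.deg k X L 1 = 1 := by
  haveI := Curve.isLocallyNoetherian k X
  have hne : x ≠ genericPoint X := by
    rintro rfl
    exact not_isClosed_singleton_genericPoint X hdim hx
  have hD := isEffCartierIdeal_vI_of_regular k X hdim.le hreg x hx hne
  have hI : PicF.IsInvertible (ClSub.idealMod (vI x)) := (isInvertible_idealMod_iff (vI x)).mpr hD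
  refine ⟨hI, ?_⟩
  obtain ⟨L, hL, ⟨e⟩⟩ := Groth.Agent.H5.Glue.exists_inverse _ hI
  haveI : L.IsQuasicoherent := qc_of_isInvertible L hL
  let σ : unitMod X ⟶ L := e.inv ≫ KoszTw.tensorMap (ClSub.idealModι (vI x)) (𝟙 L) ≫ (unitorL L).hom
  have hS₀ := shortExact_idealMod (vI x)
  have hS := shortExact_tensorMap_of_isInvertible hS₀ L hL
  haveI hm : Mono (KoszTw.tensorMap (ClSub.idealModι (vI x)) (𝟙 L)) := hS.mono_f
  haveI : Mono σ := by
    change Mono (e.inv ≫ KoszTw.tensorMap (ClSub.idealModι (vI x)) (𝟙 L) ≫ (unitorL L).hom)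
    infer_instance
  have hQ1 := finrank_H0_quotMod_vI k X x
  refine ⟨L, hL, e, σ, ?_, ?_, ?_⟩
  · intro h0
    have hO1 : Module.finrank k (Coh.HH X (unitMod X) 0) = 1 :=
      Groth.Agent.H5.Curve3.finrank_HH0_eq_one_of_isAlgClosed k X
    have h1 : (𝟙 (unitMod X)) = 0 := by
      rw [← cancel_mono σ, h0, comp_zero, comp_zero]
    have hz : IsZero (unitMod X) := (IsZero.iff_id_eq_zero _).mpr h1
    haveI := CL.subsingleton_HH_of_isZero hz 0
    have : Module.finrank k (Coh.HH X (unitMod X) 0) = 0 := Module.finrank_zero_of_subsingleton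
    omega
  · intro hxσ
    haveI hmono : Mono (twistBy (ClSub.quotMod (vI x)) σ) := by
      apply mono_twistBy_of_support
      intro y hy
      by_contra hns
      have h1 : y ∈ CohB1.support (ClSub.quotMod (vI x)) := hns
      rw [support_quotMod, coe_support_vI, hx.closure_eq] at h1
      have : y = x := h1
      exact hy (this ▸ hxσ)
    have hnat := twistBy_naturality (ClSub.toSubscheme (vI x)) σ
    have hzero : ClSub.toSubscheme (vI x) ≫ twistBy (ClSub.quotMod (vI x)) σ = 0 := by
      rw [hnat, twistBy_unit_eq]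
      change (e.inv ≫ KoszTw.tensorMap (ClSub.idealModι (vI x)) (𝟙 L) ≫ (unitorL L).hom) ≫
        (unitorL L).inv ≫ KoszTw.tensorMap (ClSub.toSubscheme (vI x)) (𝟙 L) = 0
      simp only [Category.assoc, Iso.hom_inv_id_assoc]
      have h2 : KoszTw.tensorMap (ClSub.idealModι (vI x)) (𝟙 L) ≫
          KoszTw.tensorMap (ClSub.toSubscheme (vI x)) (𝟙 L) = 0 := by
        rw [← tensorMap_comp_id]
        have h5 : ClSub.idealModι (vI x) ≫ ClSub.toSubscheme (vI x) = 0 :=
          kernel.condition (ClSub.toSubscheme (vI x))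
        rw [h5, tensorMap_zero_id hL]
      rw [h2, comp_zero]
    haveI : Epi (ClSub.toSubscheme (vI x)) := hS₀.epi_g
    have h3 : twistBy (ClSub.quotMod (vI x)) σ = 0 := by
      rw [← cancel_epi (ClSub.toSubscheme (vI x)), hzero, comp_zero]
    have h4 : (𝟙 (ClSub.quotMod (vI x))) = 0 := by
      rw [← cancel_mono (twistBy (ClSub.quotMod (vI x)) σ), h3, comp_zero, comp_zero]
    have hz : IsZero (ClSub.quotMod (vI x)) := (IsZero.iff_id_eq_zero _).mpr h4
    haveI := CL.subsingleton_HH_of_isZero hz 0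
    have : Module.finrank k (Coh.HH X (ClSub.quotMod (vI x)) 0) = 0 :=
      Module.finrank_zero_of_subsingleton
    omega
  · have h1 := deg_of_inverse_idealMod k hdim.le (vI x) hD L hL
      ⟨tensorCommAll L (ClSub.idealMod (vI x)) ≪≫ e⟩
    rw [h1, hQ1]
    rfl

variable [Smooth (X ↘ Spec (CommRingCat.of k))]

/-- the cokernel of a morphism surjective on global sections has no closed point in its
support. -/
theorem not_mem_support_cokernel_of_surjective [IsAlgClosed k] (hdim : topologicalKrullDim X = 1)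
    (r : ℕ) (E : X.Modules) (hE : FlatMod.IsFinLocFreeOfRank r E)
    (hP : ∀ (Q : X.Modules) (s : ℕ) (p : E ⟶ Q), Epi p → 0 < s → FlatMod.IsFinLocFreeOfRank s Q →
        (s : ℤ) * (2 * (Curv2.genus k X : ℤ) - 1) < Curv2.deg k X Q s)
    {A : X.Modules} (hA : Coh.IsCoh A) (P : A ⟶ E) (hPsurj : Function.Surjective (P.app ⊤))
    (x : X) (hx : IsClosed ({x} : Set X)) : x ∉ CohB1.support (cokernel P) := by
  haveI := Curve.isLocallyNoetherian k X
  haveI : IsNoetherian X := Curve2.isNoetherian_of_proper k X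
  have hreg := regular_stalks k X
  have hEc : Coh.IsCoh E := Curve.isCoh_of_rank hE
  haveI := hEc.1
  haveI := hA.1
  have hCc : Coh.IsCoh (cokernel P) := isCoh_cokernel P hA hEc
  haveI := hCc.1
  obtain ⟨hI, L, hL, e, σ, hσ, hxσ, hdegL⟩ := exists_point_bundle k X hdim hreg x hx
  obtain ⟨I, hIdef⟩ : ∃ I : X.Modules, I = ClSub.idealMod (vI x) := ⟨_, rfl⟩
  rw [← hIdef] at hI e
  haveI qI : I.IsQuasicoherent := qc_of_isInvertible I hI
  haveI qL : L.IsQuasicoherent := qc_of_isInvertible L hL
  have hL1 : FlatMod.IsFinLocFreeOfRank 1 L := (isInvertible_iff L).mp hL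
  have hF : FlatMod.IsFinLocFreeOfRank r (CohB1.tensorMod E I) :=
    isFinLocFreeOfRank_tensorMod_of_isInvertible r E I hE hI
  haveI qF : (CohB1.tensorMod E I).IsQuasicoherent := tensorMod_isQuasicoherent E I
  -- `H¹(E ⊗ I) = 0`
  have hF1 : Subsingleton (Coh.HH X (CohB1.tensorMod E I) 1) := by
    apply subsingleton_H1_of_quotients k X hdim r _ hF
    intro Q s p hp hs hQ
    haveI qQ : Q.IsQuasicoherent := (Curve.isCoh_of_rank hQ).1
    have hQL : FlatMod.IsFinLocFreeOfRank s (CohB1.tensorMod Q L) :=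
      isFinLocFreeOfRank_tensorMod_of_isInvertible s Q L hQ hL
    have hp1 : Epi (KoszTw.tensorMap p (𝟙 L)) := epi_tensorMap_of_isInvertible p hp L hL
    have hp' : Epi ((backIso I L e E).inv ≫ KoszTw.tensorMap p (𝟙 L)) := epi_comp _ _
    have h1 := hP (CohB1.tensorMod Q L) s _ hp' hs hQL
    have h2 := deg_tensorMod k hdim.le s 1 Q L hQ hL1
    rw [mul_one] at h2
    rw [h2, hdegL] at h1
    push_cast at h1
    linarith
  -- the morphism `j : E ⊗ I ⟶ E`
  obtain ⟨j, hjdef⟩ : ∃ j : CohB1.tensorMod E I ⟶ E,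
      j = twistBy (CohB1.tensorMod E I) σ ≫ (backIso I L e E).hom := ⟨_, rfl⟩
  -- coker j is supported at closed points
  have hTc : Coh.IsCoh (cokernel j) := isCoh_cokernel j (Curve.isCoh_of_rank hF) hEc
  haveI := hTc.1
  have hTpt : ∀ y ∈ CohB1.support (cokernel j), IsClosed ({y} : Set X) := by
    intro y hy
    apply Curve.isClosed_singleton_of_ne_genericPoint hdim.le
    rintro rfl
    apply hy
    apply subsingleton_stalk_cokernel_of_locSurjAt
    rw [hjdef]
    have hη := genericPoint_mem_genLocus hL σ hσ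
    have h1 : LocSurjAt (KoszTw.tensorMap (𝟙 (CohB1.tensorMod E I)) σ) (genericPoint X) :=
      locSurjAt_tensorMap_section _ L σ _ hη
    exact ((locSurjAt_of_epi (SecTwist.unitorR _).inv _).comp h1).comp (locSurjAt_of_epi _ _)
  have hTcl : IsClosed (CohB1.support (cokernel j)) := isClosed_support_of_isCoh hTc
  haveI : QuasiSober (CohB1.support (cokernel j)) := hTcl.isClosedEmbedding_subtypeVal.quasiSober
  have hsupp : topologicalKrullDim (CohB1.support (cokernel j)) ≤ 0 := by
    apply dim_le_zero_of_forall_isClosed_singleton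
    intro y
    have h1 : IsClosed ({y.1} : Set X) := hTpt y.1 y.2
    have h2 : ({y} : Set (CohB1.support (cokernel j))) = Subtype.val ⁻¹' {y.1} := by
      ext z
      simp only [Set.mem_singleton_iff, Set.mem_preimage]
      exact Subtype.ext_iff
    rw [h2]
    exact h1.preimage continuous_subtype_val
  have ggT : Curv2.IsGloballyGenerated (cokernel j) :=
    GS.isGloballyGenerated_of_support_dim _ hTc.2 hsupp
  -- `Γ(E) → Γ(coker j)` is surjective
  have hIc : Coh.IsCoh (kernel (cokernel.π j)) := isCoh_kernel _ hEc hTc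
  haveI := hIc.1
  let e' : CohB1.tensorMod E I ⟶ kernel (cokernel.π j) := Abelian.factorThruImage j
  haveI : Epi e' := inferInstanceAs (Epi (Abelian.factorThruImage j))
  haveI q5 : (kernel e').IsQuasicoherent := qc_kernel _ qF hIc.1
  let S₃ : ShortComplex X.Modules := ShortComplex.mk (kernel.ι e') e' (kernel.condition e')
  have hS₃ : S₃.ShortExact :=
    { exact := ShortComplex.exact_of_f_is_kernel _ (kernelIsKernel e')
      mono_f := inferInstanceAs (Mono (kernel.ι e'))
      epi_g := inferInstanceAs (Epi e') }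
  have hJ : Subsingleton (Coh.HH X (kernel (cokernel.π j)) 1) :=
    CL.subsingleton_right hS₃ 1 hF1
      (Curve.subsingleton_HH_of_two_le k X hdim.le (kernel e') 2 le_rfl)
  let S₂ : ShortComplex X.Modules :=
    ShortComplex.mk (kernel.ι (cokernel.π j)) (cokernel.π j) (kernel.condition _)
  have hS₂ : S₂.ShortExact :=
    { exact := ShortComplex.exact_kernel (cokernel.π j)
      mono_f := inferInstanceAs (Mono (kernel.ι (cokernel.π j)))
      epi_g := inferInstanceAs (Epi (cokernel.π j)) }
  have hsurjπ : Function.Surjective ((cokernel.π j).app ⊤) :=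
    CL.surjective_app_top_of_injective hS₂ (Function.injective_of_subsingleton _)
  -- `P ≫ π` is an epimorphism
  have hepi1 : Epi (P ≫ cokernel.π j) := by
    apply epi_of_surjective_app_top _ ggT
    intro t
    obtain ⟨a, ha⟩ := hsurjπ t
    obtain ⟨b, hb⟩ := hPsurj a
    exact ⟨b, by change (cokernel.π j).app ⊤ (P.app ⊤ b) = t; rw [hb, ha]⟩
  -- `j ≫ q` is an epimorphism
  have hepi2 : Epi (j ≫ cokernel.π P) := by
    refine @Preadditive.epi_of_cancel_zero X.Modules _ _ _ _ _ (fun {Z} g hg => ?_)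
    have hg' : j ≫ (cokernel.π P ≫ g) = 0 := by rw [← Category.assoc]; exact hg
    have h1 : cokernel.π j ≫ cokernel.desc j (cokernel.π P ≫ g) hg' = cokernel.π P ≫ g :=
      cokernel.π_desc _ _ _
    have h2 : (P ≫ cokernel.π j) ≫ cokernel.desc j (cokernel.π P ≫ g) hg' = 0 := by
      rw [Category.assoc, h1, ← Category.assoc, cokernel.condition, zero_comp]
    have h3 : cokernel.desc j (cokernel.π P ≫ g) hg' = 0 := by
      rw [← cancel_epi (P ≫ cokernel.π j), h2, comp_zero]
    rw [h3, comp_zero] at h1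
    rw [← cancel_epi (cokernel.π P), ← h1, comp_zero]
  -- naturality
  haveI qCI : (CohB1.tensorMod (cokernel P) I).IsQuasicoherent := tensorMod_isQuasicoherent _ _
  have hnat1 := backIso_naturality I L e hI hL (cokernel.π P)
  have hnat2 := twistBy_naturality (KoszTw.tensorMap (cokernel.π P) (𝟙 I)) σ
  have hfac : j ≫ cokernel.π P = KoszTw.tensorMap (cokernel.π P) (𝟙 I) ≫
      twistBy (CohB1.tensorMod (cokernel P) I) σ ≫ (backIso I L e (cokernel P)).hom := by
    rw [hjdef, Category.assoc, ← hnat1, ← Category.assoc, ← hnat2, Category.assoc]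
  rw [hfac] at hepi2
  have hepi3 : Epi (twistBy (CohB1.tensorMod (cokernel P) I) σ ≫
      (backIso I L e (cokernel P)).hom) := epi_of_epi (KoszTw.tensorMap (cokernel.π P) (𝟙 I)) _
  have hepi4 : Epi (twistBy (CohB1.tensorMod (cokernel P) I) σ) := by
    have h1 : twistBy (CohB1.tensorMod (cokernel P) I) σ =
        (twistBy (CohB1.tensorMod (cokernel P) I) σ ≫ (backIso I L e (cokernel P)).hom) ≫
          (backIso I L e (cokernel P)).inv := by
      rw [Category.assoc, Iso.hom_inv_id, Category.comp_id]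
    rw [h1]
    exact epi_comp _ _
  -- Nakayama
  intro hxC
  have hCIft : (CohB1.tensorMod (cokernel P) I).IsFiniteType :=
    isFiniteType_tensorMod_of_isInvertible _ hCc.2 I hI
  have hxCI : x ∈ CohB1.support (CohB1.tensorMod (cokernel P) I) := by
    have h1 : x ∈ CohB1.support (CohB1.tensorMod (CohB1.tensorMod (cokernel P) I) L) :=
      support_subset_of_epi (backIso I L e (cokernel P)).hom hxC
    have h2 : x ∈ CohB1.support (CohB1.tensorMod L (CohB1.tensorMod (cokernel P) I)) :=
      support_subset_of_epi (tensorCommAll L (CohB1.tensorMod (cokernel P) I)).hom h1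
    exact Groth.Agent.H5.GG.support_tensorMod_subset_right L _ x h2
  have hmem := Groth.Agent.H5.Deg.mem_support_cokernel_twistBy _ hCIft hL σ x hxCI hxσ
  apply hmem
  have hz : IsZero (cokernel (twistBy (CohB1.tensorMod (cokernel P) I) σ)) :=
    isZero_cokernel_of_epi _
  exact subsingleton_stalk_of_isZero _ hz x

/-- **global generation for bundles all of whose quotient bundles have slope `> 2g - 1`.** -/
theorem isGloballyGenerated_of_quotients [IsAlgClosed k] (hdim : topologicalKrullDim X = 1)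
    (r : ℕ) (E : X.Modules) (hE : FlatMod.IsFinLocFreeOfRank r E)
    (hP : ∀ (Q : X.Modules) (s : ℕ) (p : E ⟶ Q), Epi p → 0 < s → FlatMod.IsFinLocFreeOfRank s Q →
        (s : ℤ) * (2 * (Curv2.genus k X : ℤ) - 1) < Curv2.deg k X Q s) :
    Curv2.IsGloballyGenerated E := by
  haveI := Curve.isLocallyNoetherian k X
  haveI := Curve.compactSpace k X
  have hEc : Coh.IsCoh E := Curve.isCoh_of_rank hE
  haveI := hEc.1
  have hfin : Module.Finite k (Coh.HH X E 0) := Curve.finite_HH k X _ hEc 0
  obtain ⟨b, τ, hτ⟩ := CL.exists_span_top_of_finite k E hfin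
  have hPsurj := surjective_homOfSections_app_top E τ hτ
  suffices hEpi : Epi (homOfSections E τ) from isGloballyGenerated_of_epi_freeMod _ hEpi
  have hFc : Coh.IsCoh (FlatMod.freeMod X b) :=
    Curve.isCoh_of_isFinLocFree (isFinLocFree_freeMod X b)
  have hCc : Coh.IsCoh (cokernel (homOfSections E τ)) := isCoh_cokernel _ hFc hEc
  suffices hz : IsZero (cokernel (homOfSections E τ)) from Preadditive.epi_of_isZero_cokernel _ hz
  apply isZero_of_subsingleton_stalks
  have hcl : IsClosed (CohB1.support (cokernel (homOfSections E τ))) :=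
    isClosed_support_of_isCoh hCc
  by_contra hne
  rw [not_forall] at hne
  obtain ⟨y, hy⟩ := hne
  obtain ⟨x, hxS, hxcl⟩ := hcl.exists_closed_singleton ⟨y, hy⟩
  exact not_mem_support_cokernel_of_surjective k X hdim r E hE hP hFc _ hPsurj x hxcl hxS

end Groth.Agent.H5.Curve6
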