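import Mathlib
import Groth.Agent.S3557
import Groth.Agent.H4.ProjSmooth
import Groth.Agent.Lib.Helper8.SmoothNormal
import Groth.Agent.Lib.Helper5.IntN.Veronese
import Groth.Agent.Lib.Helper5.AG.ProjProper

/-!
# Basic facts on projective space over a field: integral, normal, proper, dimension.
-/

set_option autoImplicit false
universe u
open CategoryTheory CategoryTheory.Limits AlgebraicGeometry

namespace Groth.Agent.H5.Curve6

/-- projective space over a field is integral. -/
theorem isIntegral_projSpace (k : Type u) [Field k] (n : ℕ) :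
    IsIntegral (CohB1.ProjSpace n k) := by
  have h := Groth.Agent.S3557.result (CohB1.polyGrading n k)
    (fun f _ hf => hf.eq_zero)
  refine h.mpr ⟨⟨MvPolynomial.X 0, ?_, MvPolynomial.X_ne_zero 0⟩, ?_⟩
  · rw [HomogeneousIdeal.mem_iff, HomogeneousIdeal.mem_irrelevant_iff]
    rw [GradedRing.proj_apply]
    exact DirectSum.decompose_of_mem_ne (CohB1.polyGrading n k)
      (MvPolynomial.isHomogeneous_X k (0 : Fin (n + 1))) (by norm_num)
  · intro f _ g _ hfg
    exact mul_eq_zero.mp hfg

/-- the stalks of projective space over a field are integrally closed. -/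
theorem isIntegrallyClosed_stalk_projSpace (k : Type u) [Field k] (n : ℕ)
    (y : CohB1.ProjSpace n k) :
    IsIntegrallyClosed ((CohB1.ProjSpace n k).presheaf.stalk y) := by
  haveI := isIntegral_projSpace k n
  haveI := Groth.Agent.H4.ProjSmooth.smooth_toSpec n k
  exact Groth.Agent.H8.SmoothNormal.isIntegrallyClosed_stalk_of_smooth_field k _
    (CohB1.ProjSpace.toSpec n k) y

end Groth.Agent.H5.Curve6
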