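import Mathlib
import Groth.Agent.Lib.Helper5.Curve6.P1Facts
import Groth.Agent.Lib.Lead.PN.Euler
import Groth.Agent.Lib.Lead.PN.H0Lin
import Groth.Agent.Lib.Lead.TW.Zero
import Groth.Agent.Lib.Lead.Curve.Proper
import Groth.Agent.Lib.Lead.Curve.Euler
import Groth.Agent.Lib.Helper2.ProjUPK

/-!
# `O(1)` on the projective line has degree one and two sections.
-/

set_option autoImplicit false
universe u
open CategoryTheory CategoryTheory.Limits AlgebraicGeometry TopologicalSpace Opposite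

namespace Groth.Agent.H5.Curve6

open Groth.Agent.LD Groth.Agent.LD.QC Groth.Agent.H2.PUP Twist

variable (k : Type u) [Field k]

theorem isInvertible_twistProjSpace (n : ℕ) (d : ℤ) :
    PicF.IsInvertible (Twist.twistProjSpace n k d) :=
  isInvertible_twist (CohB1.polyGrading n k) (ιPn n k) (ιPn_mem n k) (isSymmetricAlgebra_ιPn n k) d

theorem euler_twist_P1 (d : ℤ) :
    Curv2.euler k (CohB1.ProjSpace 1 k) (Twist.twistProjSpace 1 k d) = d + 1 := by
  haveI : IsProper (CohB1.ProjSpace 1 k ↘ Spec (CommRingCat.of k)) :=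
    Groth.Agent.H5.AG.isProper_toSpec 1 k
  have hdimP : topologicalKrullDim (CohB1.ProjSpace 1 k) ≤ 1 := by
    rw [Groth.Agent.H5.IntN.dim_projSpace]; rfl
  haveI : (Twist.twistProjSpace 1 k d).IsQuasicoherent :=
    qc_of_isInvertible _ (isInvertible_twistProjSpace k 1 d)
  rw [Curve.euler_eq_sub k _ hdimP]
  have h := Groth.Agent.LD.PN.euler_twist k 1 one_pos d
  rw [Ring.choose_one_right] at h
  simp [Finset.sum_range_succ] at h
  linarith

theorem deg_twist_P1 (d : ℤ) :
    Curv2.deg k (CohB1.ProjSpace 1 k) (Twist.twistProjSpace 1 k d) 1 = d := by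
  unfold Curv2.deg
  have h0 : Curv2.euler k (CohB1.ProjSpace 1 k) (Coh.structureModule (CohB1.ProjSpace 1 k)) =
      Curv2.euler k (CohB1.ProjSpace 1 k) (Twist.twistProjSpace 1 k 0) :=
    (Curve.euler_iso k _ (Groth.Agent.LD.TW.twistZeroIso (CohB1.polyGrading 1 k))).symm
  rw [h0, euler_twist_P1, euler_twist_P1]
  push_cast
  ring

theorem finrank_H0_twist_one_P1 :
    Module.finrank k (Coh.HH (CohB1.ProjSpace 1 k) (Twist.twistProjSpace 1 k 1) 0) = 2 := by
  have e := Groth.Agent.LD.PN.H0LinearEquiv 1 k 1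
  have e' : Coh.HH (CohB1.ProjSpace 1 k) (Twist.twistProjSpace 1 k 1) 0 ≃ₗ[k]
      ↥(MvPolynomial.homogeneousSubmodule (Fin (1 + 1)) k 1) := e
  rw [e'.finrank_eq, Groth.Agent.LD.PN.finrank_homogeneousSubmodule]
  rfl

end Groth.Agent.H5.Curve6
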