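import Mathlib
import Groth.Agent.Lib.Helper5.Curve6.GGQ

set_option autoImplicit false
universe u
open CategoryTheory CategoryTheory.Limits AlgebraicGeometry TopologicalSpace Opposite

namespace Groth.Agent.H5.Curve6

open Groth.Agent.LD Groth.Agent.LD.QC Groth.Agent.H5.Curve2 Groth.Agent.H5.Curve4
open Groth.Agent.H5.DegC Groth.Agent.H5.Snap Groth.Agent.H5.IntN Groth.Agent.H5.Glue

/-- a monomorphism out of an invertible module on an integral scheme is nonzero. -/
theorem ne_zero_of_mono_of_isInvertible {X : Scheme.{u}} [IsIntegral X] {A B : X.Modules}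
    (hA : PicF.IsInvertible A) (f : A ⟶ B) [Mono f] : f ≠ 0 := by
  intro h0
  have h1 : 𝟙 A = 0 := (cancel_mono f).1 (by rw [h0, comp_zero, comp_zero])
  have hz : IsZero A := (IsZero.iff_id_eq_zero _).mpr h1
  haveI := subsingleton_stalk_of_isZero A hz (genericPoint X)
  have h2 : gdim A = 1 := gdim_of_rank ((isInvertible_iff A).mp hA)
  have h3 : gdim A = 0 := by
    unfold gdim
    exact Module.finrank_zero_of_subsingleton
  omega

/-- twisting back a nonzero morphism `A ⟶ I ⊗ B` by an inverse `L` of `I`. -/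
theorem exists_twist_back {X : Scheme.{u}} [IsIntegral X] {A B I L : X.Modules}
    (hA : PicF.IsInvertible A) (hB : PicF.IsInvertible B) (hI : PicF.IsInvertible I)
    (hL : PicF.IsInvertible L) (e : CohB1.tensorMod I L ≅ unitMod X)
    (f' : A ⟶ CohB1.tensorMod I B) (hf' : f' ≠ 0) :
    ∃ f : CohB1.tensorMod A L ⟶ B, f ≠ 0 := by
  haveI : I.IsQuasicoherent := qc_of_isInvertible I hI
  haveI : L.IsQuasicoherent := qc_of_isInvertible L hL
  haveI : B.IsQuasicoherent := qc_of_isInvertible B hB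
  haveI : Mono f' := Curve.mono_of_ne_zero hA (isInvertible_tensorMod hI hB) f' hf'
  haveI : Mono (f' ≫ (tensorCommAll I B).hom) := mono_comp _ _
  haveI := mono_tensorMap_of_isInvertible (f' ≫ (tensorCommAll I B).hom) L hL
  haveI : Mono (KoszTw.tensorMap (f' ≫ (tensorCommAll I B).hom) (𝟙 L) ≫
      (backIso I L e B).hom) := mono_comp _ _
  exact ⟨_, ne_zero_of_mono_of_isInvertible (isInvertible_tensorMod hA hL)
    (KoszTw.tensorMap (f' ≫ (tensorCommAll I B).hom) (𝟙 L) ≫ (backIso I L e B).hom)⟩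

variable (k : Type u) [Field k] (X : Scheme.{u}) [X.Over (Spec (CommRingCat.of k))]
  [IsProper (X ↘ Spec (CommRingCat.of k))] [IsIntegral X]

include k in
/-- comparison of `h⁰`, `h¹` along a nonzero map of invertible modules. -/
theorem h_le_of_hom_ne_zero (hdim : topologicalKrullDim X ≤ 1) {N M : X.Modules}
    (hN : PicF.IsInvertible N) (hM : PicF.IsInvertible M) (j : N ⟶ M) (hj : j ≠ 0) :
    Module.finrank k (Coh.HH X N 0) ≤ Module.finrank k (Coh.HH X M 0) ∧
    Module.finrank k (Coh.HH X M 1) ≤ Module.finrank k (Coh.HH X N 1) ∧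
    (Module.finrank k (Coh.HH X N 1) : ℤ) + Curv2.deg k X N 1 ≤
      Module.finrank k (Coh.HH X M 1) + Curv2.deg k X M 1 := by
  haveI := Curve.isLocallyNoetherian k X
  haveI := Curve.mono_of_ne_zero hN hM j hj
  have hNc := Curve2.isCoh_of_isInvertible hN
  have hMc := Curve2.isCoh_of_isInvertible hM
  haveI := hNc.1
  haveI := hMc.1
  have hTc : Coh.IsCoh (cokernel j) := isCoh_cokernel j hNc hMc
  have hS : (ShortComplex.mk j (cokernel.π j) (cokernel.condition j)).ShortExact :=
    { exact := ShortComplex.exact_cokernel j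
      mono_f := inferInstanceAs (Mono j)
      epi_g := inferInstanceAs (Epi (cokernel.π j)) }
  have hη := Curve.subsingleton_stalk_cokernel 1 ((isInvertible_iff _).mp hN)
    ((isInvertible_iff _).mp hM) j
  have hpt : ∀ x : X, ¬ Subsingleton ((cokernel j).presheaf.stalk x) → IsClosed ({x} : Set X) :=
    fun x hx => Curve.isClosed_singleton_of_stalk hdim (cokernel j) hη x hx
  have e1 := Curve.euler_add k X _ hS hNc hMc hTc
  change Curv2.euler k X M = Curv2.euler k X N + Curv2.euler k X (cokernel j) at e1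
  have e2 := Curve.euler_of_support_closed_points k X _ hTc hpt
  have e3 := finrank_H0_le k X hS hMc hTc
  change Module.finrank k (Coh.HH X M 0) ≤ Module.finrank k (Coh.HH X N 0) +
    Module.finrank k (Coh.HH X (cokernel j) 0) at e3
  haveI : Module.Finite k (Coh.HH X M 0) := Curve.finite_HH k X _ hMc 0
  have e4 : Module.finrank k (Coh.HH X N 0) ≤ Module.finrank k (Coh.HH X M 0) :=
    LinearMap.finrank_le_finrank_of_injective (injective_HHmap_zero k j)
  have eN := Curve.euler_eq_sub k X hdim N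
  have eM := Curve.euler_eq_sub k X hdim M
  refine ⟨e4, ?_, ?_⟩
  · zify
    zify at e3
    linarith
  · unfold Curv2.deg
    zify at e3 e4
    linarith

/-- a common invertible submodule of large degree. -/
theorem exists_common_sub [IsAlgClosed k] (hdim : topologicalKrullDim X = 1)
    (hreg : ∀ x : X, IsRegularLocalRing (X.presheaf.stalk x)) :
    ∀ (a : ℕ) (N M : X.Modules), PicF.IsInvertible N → PicF.IsInvertible M →
      Nontrivial (Coh.HH X N 0) → a + 1 ≤ Module.finrank k (Coh.HH X M 0) →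
      ∃ N' : X.Modules, PicF.IsInvertible N' ∧ (∃ f : N' ⟶ N, f ≠ 0) ∧ (∃ g : N' ⟶ M, g ≠ 0) ∧
        min (a : ℤ) (Curv2.deg k X N 1) ≤ Curv2.deg k X N' 1 := by
  haveI := Curve.isLocallyNoetherian k X
  have base : ∀ (a : ℕ) (N M : X.Modules), PicF.IsInvertible N → PicF.IsInvertible M →
      Nontrivial (Coh.HH X N 0) → a + 1 ≤ Module.finrank k (Coh.HH X M 0) →
      min (a : ℤ) (Curv2.deg k X N 1) ≤ 0 →
      ∃ N' : X.Modules, PicF.IsInvertible N' ∧ (∃ f : N' ⟶ N, f ≠ 0) ∧ (∃ g : N' ⟶ M, g ≠ 0) ∧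
        min (a : ℤ) (Curv2.deg k X N 1) ≤ Curv2.deg k X N' 1 := by
    intro a N M hN hM hN0 hM0 hmin
    have hMnt : Nontrivial (Coh.HH X M 0) :=
      Module.nontrivial_of_finrank_pos (R := k) (by omega)
    obtain ⟨s, hs⟩ := exists_section_ne_zero_of_nontrivial_H0 k X N hN0
    obtain ⟨t, ht⟩ := exists_section_ne_zero_of_nontrivial_H0 k X M hMnt
    refine ⟨unitMod X, isInvertible_unit X, ⟨s, hs⟩, ⟨t, ht⟩, ?_⟩
    have h0 : Curv2.deg k X (unitMod X) 1 = 0 := Curve.deg_structureModule k X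
    rw [h0]
    exact hmin
  intro a
  induction a with
  | zero =>
    intro N M hN hM hN0 hM0
    exact base 0 N M hN hM hN0 hM0 (min_le_left _ _)
  | succ a ih =>
    intro N M hN hM hN0 hM0
    by_cases hd : Curv2.deg k X N 1 ≤ 0
    · exact base (a + 1) N M hN hM hN0 hM0 ((min_le_right _ _).trans hd)
    · push Not at hd
      obtain ⟨s, hs⟩ := exists_section_ne_zero_of_nontrivial_H0 k X N hN0
      obtain ⟨y, hys⟩ : ∃ y : X, y ∉ CohB1.genLocus N s := by
        by_contra hcon
        push Not at hcon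
        have htop : CohB1.genLocus N s = ⊤ := by
          rw [eq_top_iff]
          intro z _
          exact hcon z
        haveI : IsIso s := Groth.Agent.H5.Glue.isIso_of_genLocus_eq_top s htop
        have := Curve.deg_iso k X (asIso s) 1
        rw [Curve.deg_structureModule] at this
        change (0 : ℤ) = Curv2.deg k X N 1 at this
        omega
      have hne : y ≠ genericPoint X := fun h => hys (h ▸ genericPoint_mem_genLocus hN s hs)
      have hy : IsClosed ({y} : Set X) :=
        Curve.isClosed_singleton_of_ne_genericPoint hdim.le y hne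
      have hD := isEffCartierIdeal_vI_of_regular k X hdim.le hreg y hy hne
      obtain ⟨hN'inv, -, -, heuN, -, -, -⟩ := point_twist_facts k X N hN y hy hD
      obtain ⟨hM'inv, -, hleM, heuM, -, -, -⟩ := point_twist_facts k X M hM y hy hD
      have hN'nt := nontrivial_H0_twist_of_vanish k X N hN s hs y hy hys
      obtain ⟨N₁, hN₁, ⟨f', hf'⟩, ⟨g', hg'⟩, hmin⟩ :=
        ih _ _ hN'inv hM'inv hN'nt (by omega)
      obtain ⟨hI, L, hL, e, σ, -, -, hdegL⟩ := exists_point_bundle k X hdim hreg y hy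
      obtain ⟨f, hf⟩ := exists_twist_back hN₁ hN hI hL e f' hf'
      obtain ⟨g, hg⟩ := exists_twist_back hN₁ hM hI hL e g' hg'
      refine ⟨CohB1.tensorMod N₁ L, isInvertible_tensorMod hN₁ hL, ⟨f, hf⟩, ⟨g, hg⟩, ?_⟩
      rw [deg_tensor k X hdim.le hN₁ hL, hdegL]
      have hdN : Curv2.deg k X (CohB1.tensorMod (ClSub.idealMod (vI y)) N) 1 =
          Curv2.deg k X N 1 - 1 := by
        unfold Curv2.deg
        linarith
      rw [hdN] at hmin
      push_cast
      have : min ((a : ℤ) + 1) (Curv2.deg k X N 1) =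
          min (a : ℤ) (Curv2.deg k X N 1 - 1) + 1 := by
        rw [← min_add_add_right]
        ring_nf
      rw [this]
      linarith

/-- **Clifford's inequality without duality**: `h⁰(M) + h¹(M) ≤ g + 1` for an invertible module
with `h⁰, h¹ ≥ 1` on a regular integral proper curve over an algebraically closed field. -/
theorem h0_add_h1_le [IsAlgClosed k] (hdim : topologicalKrullDim X = 1)
    (hreg : ∀ x : X, IsRegularLocalRing (X.presheaf.stalk x)) (M : X.Modules)
    (hM : PicF.IsInvertible M) (h0 : 1 ≤ Module.finrank k (Coh.HH X M 0))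
    (h1 : 1 ≤ Module.finrank k (Coh.HH X M 1)) :
    Module.finrank k (Coh.HH X M 0) + Module.finrank k (Coh.HH X M 1) ≤ Curv2.genus k X + 1 := by
  haveI := Curve.isLocallyNoetherian k X
  obtain ⟨⟨L₁, hL₁, h10, h11⟩, -⟩ := exists_invertible_prescribed k X hdim
  haveI : L₁.IsQuasicoherent := qc_of_isInvertible L₁ hL₁
  have hdL := deg_eq_h0_sub_h1 k X hdim L₁
  have h11' : Module.finrank k (Coh.HH X L₁ 1) = 0 := Module.finrank_zero_of_subsingleton
  rw [h10, h11'] at hdL
  have hL₁c := Curve2.isCoh_of_isInvertible hL₁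
  haveI : Module.Finite k (Coh.HH X L₁ 0) := Curve.finite_HH k X _ hL₁c 0
  have hnt : Nontrivial (Coh.HH X L₁ 0) :=
    Module.nontrivial_of_finrank_pos (R := k) (by rw [h10]; exact Nat.one_pos)
  obtain ⟨N', hN', ⟨f, hf⟩, ⟨g', hg⟩, hmin⟩ := exists_common_sub k X hdim hreg
    (Module.finrank k (Coh.HH X M 0) - 1) L₁ M hL₁ hM hnt (by omega)
  obtain ⟨-, hb, -⟩ := h_le_of_hom_ne_zero k X hdim.le hN' hM g' hg
  obtain ⟨-, -, hc⟩ := h_le_of_hom_ne_zero k X hdim.le hN' hL₁ f hf
  have hdL' : Curv2.deg k X L₁ 1 = (Curv2.genus k X : ℤ) := by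
    rw [hdL]; push_cast; ring
  rw [h11', hdL'] at hc
  rw [hdL'] at hmin
  push_cast at hc
  have ha : ((Module.finrank k (Coh.HH X M 0) - 1 : ℕ) : ℤ) =
      (Module.finrank k (Coh.HH X M 0) : ℤ) - 1 := by
    rw [Nat.cast_sub h0]; rfl
  rw [ha] at hmin
  zify at hb h1 ⊢
  rcases min_cases ((Module.finrank k (Coh.HH X M 0) : ℤ) - 1)
    (Curv2.genus k X : ℤ) with ⟨h, -⟩ | ⟨h, -⟩
  · rw [h] at hmin
    linarith
  · rw [h] at hmin
    linarith

/-- **Clifford's inequality**: `2 h⁰(M) ≤ deg M + 2` for a special invertible module with a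
section. -/
theorem two_mul_h0_le_deg_add_two [IsAlgClosed k] (hdim : topologicalKrullDim X = 1)
    (hreg : ∀ x : X, IsRegularLocalRing (X.presheaf.stalk x)) (M : X.Modules)
    (hM : PicF.IsInvertible M) (h0 : 1 ≤ Module.finrank k (Coh.HH X M 0))
    (h1 : 1 ≤ Module.finrank k (Coh.HH X M 1)) :
    2 * (Module.finrank k (Coh.HH X M 0) : ℤ) ≤ Curv2.deg k X M 1 + 2 := by
  haveI : M.IsQuasicoherent := qc_of_isInvertible M hM
  have h := h0_add_h1_le k X hdim hreg M hM h0 h1
  have hd := deg_eq_h0_sub_h1 k X hdim M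
  zify at h
  linarith

end Groth.Agent.H5.Curve6
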