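import Mathlib
import Groth.Agent.Lib.Helper5.Curve6.Cliff

set_option autoImplicit false
universe u
open CategoryTheory CategoryTheory.Limits AlgebraicGeometry TopologicalSpace Opposite

namespace Groth.Agent.H5.Curve6

open Groth.Agent.LD Groth.Agent.LD.QC Groth.Agent.H5.Curve2 Groth.Agent.H5.Curve4
open Groth.Agent.H5.DegC Groth.Agent.H5.Snap Groth.Agent.H5.IntN Groth.Agent.H5.Glue

/-- a nonzero section gives a nontrivial `H⁰`. -/
theorem nontrivial_H0_of_section_ne_zero {X : Scheme.{u}} (G : X.Modules) (σ : unitMod X ⟶ G)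
    (hσ : σ ≠ 0) : Nontrivial (Coh.HH X G 0) := by
  have ht : sectionOfHom σ ≠ 0 := by
    intro h0
    apply hσ
    rw [← homOfSection_sectionOfHom σ, h0, homOfSection_zero]
  refine ⟨⟨(CL.HH0Equiv G).symm (sectionOfHom σ), 0, fun h => ht ?_⟩⟩
  have := congrArg (CL.HH0Equiv G) h
  rwa [AddEquiv.apply_symm_apply, map_zero] at this

/-- **splitting**: a short exact sequence `0 → A → E → B → 0` with `B` invertible splits as soon
as `H¹(A ⊗ B⁻¹) = 0`. -/
theorem exists_section_of_subsingleton_H1 {X : Scheme.{u}} {S : ShortComplex X.Modules}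
    (hS : S.ShortExact) [S.X₁.IsQuasicoherent] [S.X₂.IsQuasicoherent]
    (hB : PicF.IsInvertible S.X₃) (B' : X.Modules)
    (hB' : PicF.IsInvertible B') (e : CohB1.tensorMod S.X₃ B' ≅ unitMod X)
    (h1 : Subsingleton (Coh.HH X (CohB1.tensorMod S.X₁ B') 1)) :
    ∃ s : S.X₃ ⟶ S.X₂, s ≫ S.g = 𝟙 S.X₃ := by
  haveI : S.X₃.IsQuasicoherent := qc_of_isInvertible _ hB
  haveI : B'.IsQuasicoherent := qc_of_isInvertible _ hB'
  have hS' := shortExact_tensorMap_of_isInvertible hS B' hB'
  have hsurj := CL.surjective_app_top_of_injective hS' (Function.injective_of_subsingleton _)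
  obtain ⟨τ, hτ⟩ := hsurj (sectionOfHom e.inv)
  have h2 : homOfSection _ τ ≫ KoszTw.tensorMap S.g (𝟙 B') = e.inv := by
    rw [homOfSection_comp]
    have : (KoszTw.tensorMap S.g (𝟙 B')).app ⊤ τ = sectionOfHom e.inv := hτ
    rw [this, homOfSection_sectionOfHom]
  have e' : CohB1.tensorMod B' S.X₃ ≅ unitMod X := tensorComm _ _ ≪≫ e
  refine exists_section_of_twist B' S.X₃ e' hB' hB S.g (e.hom ≫ homOfSection _ τ) ?_
  rw [Category.assoc, h2, Iso.hom_inv_id]

/-- a split short exact sequence gives a biproduct decomposition. -/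
theorem nonempty_iso_biprod_of_section {X : Scheme.{u}} {S : ShortComplex X.Modules}
    (hS : S.ShortExact) (s : S.X₃ ⟶ S.X₂) (hs : s ≫ S.g = 𝟙 S.X₃) :
    Nonempty (S.X₂ ≅ S.X₁ ⊞ S.X₃) := by
  haveI := hS.mono_f
  exact ⟨(ShortComplex.Splitting.ofExactOfSection S hS.exact s hs inferInstance).isoBinaryBiproduct⟩

variable (k : Type u) [Field k] (X : Scheme.{u}) [X.Over (Spec (CommRingCat.of k))]
  [IsProper (X ↘ Spec (CommRingCat.of k))] [Smooth (X ↘ Spec (CommRingCat.of k))] [IsIntegral X]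

include k in
/-- a nonzero morphism from an invertible module to a vector bundle is a monomorphism. -/
theorem mono_of_ne_zero_of_isInvertible (hdim : topologicalKrullDim X ≤ 1) {N E : X.Modules}
    (hN : PicF.IsInvertible N) (r : ℕ) (hE : FlatMod.IsFinLocFreeOfRank r E) (φ : N ⟶ E)
    (hφ : φ ≠ 0) : Mono φ := by
  have hN1 : FlatMod.IsFinLocFreeOfRank 1 N := (isInvertible_iff _).mp hN
  obtain ⟨a, b, hab, ha, hb, -⟩ := kernel_image_facts k X hdim 1 r hN1 hE φ
  have hbpos := rank_coimage_pos X hφ b hb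
  have ha0 : a = 0 := by omega
  subst ha0
  exact mono_of_rank_kernel_zero X φ ha

/-- the saturation of the image of a nonzero morphism from an invertible module to a rank two
bundle. -/
theorem exists_sat_line (hdim : topologicalKrullDim X ≤ 1) {N E : X.Modules}
    (hN : PicF.IsInvertible N) (hE : FlatMod.IsFinLocFreeOfRank 2 E) (φ : N ⟶ E) (hφ : φ ≠ 0) :
    ∃ (M : X.Modules) (i : M ⟶ E), Mono i ∧ PicF.IsInvertible M ∧
      PicF.IsInvertible (cokernel i) ∧ Curv2.deg k X N 1 ≤ Curv2.deg k X M 1 ∧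
      Curv2.deg k X E 2 = Curv2.deg k X M 1 + Curv2.deg k X (cokernel i) 1 ∧
      ∃ j : N ⟶ M, j ≫ i = φ := by
  have hN1 : FlatMod.IsFinLocFreeOfRank 1 N := (isInvertible_iff _).mp hN
  haveI := mono_of_ne_zero_of_isInvertible k X hdim hN 2 hE φ hφ
  obtain ⟨M, i', j, s', hi', hji, hM, hQ, hrs, hdle, -, hdeg⟩ :=
    exists_saturation k X hdim φ 1 2 hN1 hE
  have hs' : s' = 1 := by omega
  subst hs'
  exact ⟨M, i', hi', (isInvertible_iff _).mpr hM, (isInvertible_iff _).mpr hQ, hdle, hdeg, j, hji⟩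

/-- **non-split extensions**: if `E` is not the direct sum of the invertible submodule `M` and
the invertible quotient `E/M`, then `deg M - deg (E/M) ≤ 2g - 2`. -/
theorem deg_sub_le_of_nonsplit [IsAlgClosed k] (hdim : topologicalKrullDim X = 1)
    {M E : X.Modules} (i : M ⟶ E) [Mono i] [E.IsQuasicoherent] (hM : PicF.IsInvertible M)
    (hQ : PicF.IsInvertible (cokernel i)) (hns : IsEmpty (E ≅ M ⊞ cokernel i)) :
    Curv2.deg k X M 1 - Curv2.deg k X (cokernel i) 1 ≤ 2 * (Curv2.genus k X : ℤ) - 2 := by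
  by_contra hcon
  push Not at hcon
  haveI : M.IsQuasicoherent := qc_of_isInvertible _ hM
  obtain ⟨Q', hQ', ⟨e⟩⟩ := Groth.Agent.H5.Glue.exists_inverse _ hQ
  have hd1 := deg_tensor k X hdim.le hQ hQ'
  have hd2 := Curve.deg_iso k X e 1
  rw [Curve.deg_structureModule] at hd2
  change Curv2.deg k X (CohB1.tensorMod (cokernel i) Q') 1 = 0 at hd2
  have hd3 := deg_tensor k X hdim.le hM hQ'
  have h1 : Subsingleton (Coh.HH X (CohB1.tensorMod M Q') 1) :=
    subsingleton_H1_of_deg_ge k X hdim _ (isInvertible_tensorMod hM hQ') (by linarith)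
  let S : ShortComplex X.Modules := ShortComplex.mk i (cokernel.π i) (cokernel.condition i)
  have hS : S.ShortExact :=
    { exact := ShortComplex.exact_cokernel i
      mono_f := inferInstanceAs (Mono i)
      epi_g := inferInstanceAs (Epi (cokernel.π i)) }
  haveI : S.X₁.IsQuasicoherent := inferInstanceAs M.IsQuasicoherent
  haveI : S.X₂.IsQuasicoherent := inferInstanceAs E.IsQuasicoherent
  obtain ⟨s, hs⟩ := exists_section_of_subsingleton_H1 hS hQ Q' hQ' e h1
  exact hns.false (nonempty_iso_biprod_of_section hS s hs).some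

end Groth.Agent.H5.Curve6
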