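import Mathlib
import Groth.Agent.Lib.Helper5.Curve6.Ext2
import Groth.Agent.Lib.Helper5.Eig.RegSm

set_option autoImplicit false
universe u
open CategoryTheory CategoryTheory.Limits AlgebraicGeometry

namespace Groth.Agent.H5.Curve6

open Groth.Agent.LD Groth.Agent.LD.QC Groth.Agent.H5.Curve2 Groth.Agent.H5.Curve4
open Groth.Agent.H5.DegC Groth.Agent.H5.Snap Groth.Agent.H5.IntN Groth.Agent.H5.Glue

/-- an invertible module on an integral scheme is not a zero object. -/
theorem not_isZero_of_isInvertible {X : Scheme.{u}} [IsIntegral X] {A : X.Modules}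
    (hA : PicF.IsInvertible A) : ¬ IsZero A := by
  intro hz
  haveI := subsingleton_stalk_of_isZero A hz (genericPoint X)
  have h2 : gdim A = 1 := gdim_of_rank ((isInvertible_iff A).mp hA)
  have h3 : gdim A = 0 := by
    unfold gdim
    exact Module.finrank_zero_of_subsingleton
  omega

variable (k : Type u) [Field k] (X : Scheme.{u}) [X.Over (Spec (CommRingCat.of k))]
  [IsProper (X ↘ Spec (CommRingCat.of k))] [IsIntegral X]

/-- invertible modules of every degree on a regular integral proper curve. -/
theorem exists_invertible_deg [IsAlgClosed k] (hdim : topologicalKrullDim X = 1)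
    (hreg : ∀ x : X, IsRegularLocalRing (X.presheaf.stalk x)) (n : ℤ) :
    ∃ N : X.Modules, PicF.IsInvertible N ∧ Curv2.deg k X N 1 = n := by
  haveI := Curve.isLocallyNoetherian k X
  haveI : Nonempty X := nonempty_of_dim_eq_one X hdim
  haveI := Curve.compactSpace k X
  obtain ⟨x, -, hx⟩ := (isClosed_univ (X := X)).exists_closed_singleton Set.univ_nonempty
  obtain ⟨hI, L, hL, e, σ, -, -, hdegL⟩ := exists_point_bundle k X hdim hreg x hx
  have hd1 := deg_tensor k X hdim.le hI hL
  have hd2 := Curve.deg_iso k X e 1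
  rw [Curve.deg_structureModule] at hd2
  change Curv2.deg k X (CohB1.tensorMod (ClSub.idealMod (vI x)) L) 1 = 0 at hd2
  have hdI : Curv2.deg k X (ClSub.idealMod (vI x)) 1 = -1 := by linarith
  rcases le_total 0 n with hn | hn
  · refine ⟨CohB1.tensorPow L n.toNat, isInvertible_tensorPow hL _, ?_⟩
    rw [deg_tensorPow k X hdim.le hL, hdegL, mul_one]
    exact Int.toNat_of_nonneg hn
  · refine ⟨CohB1.tensorPow (ClSub.idealMod (vI x)) (-n).toNat, isInvertible_tensorPow hI _, ?_⟩
    rw [deg_tensorPow k X hdim.le hI, hdI]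
    have : ((-n).toNat : ℤ) = -n := Int.toNat_of_nonneg (by linarith)
    rw [this]
    ring

end Groth.Agent.H5.Curve6
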