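import Mathlib
import Groth.Agent.Lib.Helper5.Curve6.Ext3
import Groth.Agent.Lib.Helper5.DegC.Tors

/-!
# Evaluation of sections at a closed point: tools for bundles on elliptic curves.
-/

set_option autoImplicit false
universe u
open CategoryTheory CategoryTheory.Limits AlgebraicGeometry TopologicalSpace Opposite

namespace Groth.Agent.H5.Curve6

open Groth.Agent.LD Groth.Agent.LD.QC Groth.Agent.H5.Curve2 Groth.Agent.H5.Curve4
open Groth.Agent.H5.DegC Groth.Agent.H5.Snap Groth.Agent.H5.IntN Groth.Agent.H5.Glue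

section gen
variable {X : Scheme.{u}}

/-- a morphism out of the structure sheaf is multiplication of its value. -/
lemma app_eq_smul_val {A : X.Modules} (σ : unitMod X ⟶ A) (U : X.Opens) (x : Γ(X, U)) :
    σ.app U x = x • SecTwist.val σ U := by
  have h2 := Scheme.Modules.Hom.app_smul σ x (1 : Γ(X, U))
  have h3 : x • (1 : Γ(X, U)) = x := mul_one x
  change σ.app U (x • (1 : Γ(X, U))) = x • σ.app U (1 : Γ(X, U)) at h2
  rw [h3] at h2
  exact h2

/-- multiplying a section by a section, in both orders. -/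
lemma section_twistBy_comm {A B : X.Modules} (σ : unitMod X ⟶ A) (τ : unitMod X ⟶ B) :
    σ ≫ twistBy A τ = (τ ≫ twistBy B σ) ≫ (tensorCommAll B A).hom := by
  apply Scheme.Modules.hom_ext
  intro U
  ext x
  change (twistBy A τ).app U (σ.app U x) =
    (tensorCommAll B A).hom.app U ((twistBy B σ).app U (τ.app U x))
  rw [twistBy_app, twistBy_app, tensorCommAll_hom_app_tmul, app_eq_smul_val σ, app_eq_smul_val τ]
  exact (tmul_smul_left A B U (show Γ(X, U) from x) (SecTwist.val σ U) (SecTwist.val τ U)).trans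
    (tmul_smul_right A B U (show Γ(X, U) from x) (SecTwist.val σ U) (SecTwist.val τ U)).symm

/-- the class in `H⁰` of the canonical section of the structure sheaf. -/
noncomputable def oneClass (X : Scheme.{u}) : Coh.HH X (unitMod X) 0 :=
  (CL.HH0Equiv (unitMod X)).symm (1 : Γ(X, ⊤))

/-- every class in `H⁰(G)` is the image of `oneClass` under a morphism `O ⟶ G`. -/
lemma exists_hom_of_class (k : Type u) [Field k] [X.Over (Spec (CommRingCat.of k))]
    (G : X.Modules) (y : Coh.HH X G 0) :
    ∃ t : unitMod X ⟶ G, CL.HHmap k t 0 (oneClass X) = y ∧ (t = 0 → y = 0) := by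
  refine ⟨homOfSection G (CL.HH0Equiv G y), ?_, ?_⟩
  · apply (CL.HH0Equiv G).injective
    have h1 := CL.HH0Equiv_map (homOfSection G (CL.HH0Equiv G y)) (oneClass X)
    have h2 : CL.HHmap k (homOfSection G (CL.HH0Equiv G y)) 0 (oneClass X) =
        CL.HHmapZ (homOfSection G (CL.HH0Equiv G y)) 0 (oneClass X) := rfl
    rw [h2, h1]
    unfold oneClass
    rw [AddEquiv.apply_symm_apply]
    exact sectionOfHom_homOfSection G _
  · intro h0
    have h1 := sectionOfHom_homOfSection G (CL.HH0Equiv G y)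
    rw [h0, sectionOfHom_zero] at h1
    apply (CL.HH0Equiv G).injective
    rw [← h1, map_zero]

end gen

section evalB
variable (k : Type u) [Field k] {X : Scheme.{u}} [X.Over (Spec (CommRingCat.of k))]

/-- a nonzero class of `H⁰(E)` killed by restriction to a closed subscheme comes from
`H⁰(E ⊗ I)`. -/
theorem nontrivial_H0_tensor_ideal_of_eval_eq_zero (E : X.Modules) (hE : FlatMod.IsFinLocFree E)
    (D : X.IdealSheafData) (x : Coh.HH X E 0) (hx : x ≠ 0)
    (h : CL.HHmap k (twistBy E (ClSub.toSubscheme D)) 0 x = 0) :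
    Nontrivial (Coh.HH X (CohB1.tensorMod E (ClSub.idealMod D)) 0) := by
  haveI : PreservesFiniteLimits (LT E) := preservesFiniteLimits_LT E hE
  have hS := shortExact_idealMod D
  have hS' := hS.map_of_exact (LT E)
  have h1 : CL.HHmap k (KoszTw.tensorMap (𝟙 E) (ClSub.toSubscheme D)) 0
      (CL.HHmap k (SecTwist.unitorR E).inv 0 x) = 0 := by
    have : twistBy E (ClSub.toSubscheme D) =
        (SecTwist.unitorR E).inv ≫ KoszTw.tensorMap (𝟙 E) (ClSub.toSubscheme D) := rfl
    rw [this, CL.HHmap_comp] at h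
    exact h
  have hg : (LT E).map (ClSub.toSubscheme D) = KoszTw.tensorMap (𝟙 E) (ClSub.toSubscheme D) :=
    KoszTw.tensorBi_obj_map E (ClSub.toSubscheme D)
  have h1' : CL.HHmap k ((LT E).map (ClSub.toSubscheme D)) 0
      (CL.HHmap k (SecTwist.unitorR E).inv 0 x) = 0 := by rw [hg]; exact h1
  obtain ⟨x₁, hx₁⟩ := CL.exact₂ hS' k 0 (CL.HHmap k (SecTwist.unitorR E).inv 0 x) h1'
  refine ⟨⟨x₁, 0, fun h0 => hx ?_⟩⟩
  have hx₁' : CL.HHmap k (SecTwist.unitorR E).inv 0 x = 0 := by
    rw [← hx₁, h0]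
    exact map_zero _
  have h2 : CL.HHmap k ((SecTwist.unitorR E).inv ≫ (SecTwist.unitorR E).hom) 0 x = x := by
    rw [Iso.inv_hom_id, CL.HHmap_id]; rfl
  rw [CL.HHmap_comp] at h2
  rw [← h2]
  change CL.HHmap k (SecTwist.unitorR E).hom 0 (CL.HHmap k (SecTwist.unitorR E).inv 0 x) = 0
  rw [hx₁', map_zero]

end evalB

section evalC
variable (k : Type u) [Field k] (X : Scheme.{u}) [X.Over (Spec (CommRingCat.of k))]
  [IsProper (X ↘ Spec (CommRingCat.of k))] [IsIntegral X]

/-- for an epimorphism `π : E ⟶ Q` from a rank two bundle to an invertible module and a closed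
point `x`, the kernel of `H⁰(E ⊗ O_x) → H⁰(Q ⊗ O_x)` has dimension at most one. -/
theorem finrank_ker_eval_le_one [IsAlgClosed k] (hdim : topologicalKrullDim X ≤ 1)
    {E Q : X.Modules} (hE : FlatMod.IsFinLocFreeOfRank 2 E) (hQ : PicF.IsInvertible Q)
    (π : E ⟶ Q) [Epi π] (x : X) (hx : IsClosed ({x} : Set X)) :
    Module.finrank k (LinearMap.ker
      (CL.HHmap k (KoszTw.tensorMap π (𝟙 (ClSub.quotMod (vI x)))) 0)) ≤ 1 := by
  haveI := Curve.isLocallyNoetherian k X
  haveI : IsNoetherian X := Groth.Agent.H5.Curve2.isNoetherian_of_proper k X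
  obtain ⟨T, hTdef⟩ : ∃ T : X.Modules, T = ClSub.quotMod (vI x) := ⟨_, rfl⟩
  rw [← hTdef]
  have hTc : Coh.IsCoh T := hTdef ▸ isCoh_quotMod (vI x)
  haveI := hTc.1
  have hEc := Curve.isCoh_of_rank hE
  haveI := hEc.1
  have hQc := Curve2.isCoh_of_isInvertible hQ
  haveI := hQc.1
  have hsuppT : ∀ y : X, ¬ Subsingleton (T.presheaf.stalk y) → y = x := by
    intro y hy
    have h1 : y ∈ CohB1.support T := hy
    rw [hTdef, support_quotMod, coe_support_vI, hx.closure_eq] at h1
    exact h1
  have hptT : ∀ y : X, ¬ Subsingleton (T.presheaf.stalk y) → IsClosed ({y} : Set X) :=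
    fun y hy => (hsuppT y hy) ▸ hx
  have hT1 : Module.finrank k (Coh.HH X T 0) = 1 := hTdef ▸ finrank_H0_quotMod_vI k X x
  -- `E ⊗ T`
  have hETc : Coh.IsCoh (CohB1.tensorMod E T) := isCoh_tensorMod' hEc hTc
  have hQTc : Coh.IsCoh (CohB1.tensorMod Q T) := isCoh_tensorMod' hQc hTc
  have hptET : ∀ y : X, ¬ Subsingleton ((CohB1.tensorMod E T).presheaf.stalk y) →
      IsClosed ({y} : Set X) := fun y hy =>
    hptT y (Groth.Agent.H5.GG.support_tensorMod_subset_right E T y hy)
  have hptQT : ∀ y : X, ¬ Subsingleton ((CohB1.tensorMod Q T).presheaf.stalk y) →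
      IsClosed ({y} : Set X) := fun y hy =>
    hptT y (Groth.Agent.H5.GG.support_tensorMod_subset_right Q T y hy)
  have hsuppdim : topologicalKrullDim (CohB1.support T) ≤ 0 := by
    have hTcl : IsClosed (CohB1.support T) := isClosed_support_of_isCoh hTc
    haveI : QuasiSober (CohB1.support T) := hTcl.isClosedEmbedding_subtypeVal.quasiSober
    apply dim_le_zero_of_forall_isClosed_singleton
    intro y
    have h1 : IsClosed ({y.1} : Set X) := hptT y.1 y.2
    have h2 : ({y} : Set (CohB1.support T)) = Subtype.val ⁻¹' {y.1} := by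
      ext z
      simp only [Set.mem_singleton_iff, Set.mem_preimage]
      exact Subtype.ext_iff
    rw [h2]
    exact h1.preimage continuous_subtype_val
  obtain ⟨d⟩ := nonempty_finDecomp_tensor T hTc hsuppdim 2 E hE
  have hET0 : Module.finrank k (Coh.HH X (CohB1.tensorMod E T) 0) = 2 := by
    rw [finrank_HH_iso k X (tensorCommAll E T) 0, d.finrank_HH k 0, hT1]
  obtain ⟨-, -, hQT0'⟩ := finrank_tensor_of_support_closed_points k X T hTc hptT Q hQ
  have hQT0 : Module.finrank k (Coh.HH X (CohB1.tensorMod Q T) 0) = 1 := by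
    rw [finrank_HH_iso k X (tensorCommAll Q T) 0, hQT0', hT1]
  -- the epimorphism
  haveI hepi : Epi (KoszTw.tensorMap π (𝟙 T)) := by
    have h1 := tensorMap_id_left_eq π T
    haveI : (LT T).PreservesEpimorphisms :=
      preservesEpimorphisms_of_preservesColimitsOfShape _
    haveI : Epi (KoszTw.tensorMap (𝟙 T) π) := by
      rw [← KoszTw.tensorBi_obj_map]
      exact (LT T).map_epi π
    have h2 : KoszTw.tensorMap π (𝟙 T) =
        (tensorCommAll T E).inv ≫ KoszTw.tensorMap (𝟙 T) π ≫ (tensorCommAll Q T).inv := by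
      rw [h1]
      simp
    rw [h2]
    infer_instance
  set φ := KoszTw.tensorMap π (𝟙 T) with hφ
  have hKc : Coh.IsCoh (kernel φ) := isCoh_kernel φ hETc hQTc
  have hptK : ∀ y : X, ¬ Subsingleton ((kernel φ).presheaf.stalk y) → IsClosed ({y} : Set X) :=
    fun y hy => hptET y (support_subset_of_mono (kernel.ι φ) hy)
  let S : ShortComplex X.Modules := ShortComplex.mk (kernel.ι φ) φ (kernel.condition φ)
  have hS : S.ShortExact :=
    { exact := ShortComplex.exact_kernel φ
      mono_f := inferInstanceAs (Mono (kernel.ι φ))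
      epi_g := hepi }
  have e1 := Curve.euler_add k X _ hS hKc hETc hQTc
  change Curv2.euler k X (CohB1.tensorMod E T) =
    Curv2.euler k X (kernel φ) + Curv2.euler k X (CohB1.tensorMod Q T) at e1
  rw [Curve.euler_of_support_closed_points k X _ hKc hptK,
    Curve.euler_of_support_closed_points k X _ hETc hptET,
    Curve.euler_of_support_closed_points k X _ hQTc hptQT, hET0, hQT0] at e1
  have hK0 : Module.finrank k (Coh.HH X (kernel φ) 0) = 1 := by
    push_cast at e1
    omega
  -- the kernel on `H⁰`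
  have hle : LinearMap.ker (CL.HHmap k φ 0) ≤ LinearMap.range (CL.HHmap k (kernel.ι φ) 0) := by
    intro z hz
    obtain ⟨z₁, hz₁⟩ := CL.exact₂ hS k 0 z hz
    exact ⟨z₁, hz₁⟩
  haveI : Module.Finite k (Coh.HH X (CohB1.tensorMod E T) 0) := Curve.finite_HH k X _ hETc 0
  haveI : Module.Finite k (Coh.HH X (kernel φ) 0) := Curve.finite_HH k X _ hKc 0
  calc Module.finrank k (LinearMap.ker (CL.HHmap k φ 0))
      ≤ Module.finrank k (LinearMap.range (CL.HHmap k (kernel.ι φ) 0)) :=
        Submodule.finrank_mono hle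
    _ ≤ Module.finrank k (Coh.HH X (kernel φ) 0) := LinearMap.finrank_range_le _
    _ = 1 := hK0

end evalC

end Groth.Agent.H5.Curve6
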