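import Mathlib
import Groth.Agent.Lib.Helper5.Curve6.Ell1
import Groth.Agent.Lib.Helper5.Curve6.SSH1
import Groth.Agent.Lib.Helper5.IntN.Pow

/-!
# Twisting a rank two bundle by the inverse of a maximal invertible submodule.
-/

set_option autoImplicit false
universe u
open CategoryTheory CategoryTheory.Limits AlgebraicGeometry TopologicalSpace Opposite

namespace Groth.Agent.H5.Curve6

open Groth.Agent.LD Groth.Agent.LD.QC Groth.Agent.H5.Curve2 Groth.Agent.H5.Curve4
open Groth.Agent.H5.DegC Groth.Agent.H5.Snap Groth.Agent.H5.IntN Groth.Agent.H5.Glue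

section twist
variable {X : Scheme.{u}}

/-- an indecomposable module stays "not a sum of two invertible modules" after twisting. -/
theorem isEmpty_twist_iso_biprod [IsIntegral X] {E L₀ L₀' : X.Modules} [E.IsQuasicoherent]
    (hL₀ : PicF.IsInvertible L₀) (hL₀' : PicF.IsInvertible L₀')
    (e' : CohB1.tensorMod L₀' L₀ ≅ unitMod X)
    (hind : ∀ E₁ E₂ : X.Modules, Nonempty (E ≅ E₁ ⊞ E₂) → IsZero E₁ ∨ IsZero E₂)
    (L₁ L₂ : X.Modules) (hL₁ : PicF.IsInvertible L₁) (hL₂ : PicF.IsInvertible L₂) :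
    IsEmpty (CohB1.tensorMod E L₀' ≅ L₁ ⊞ L₂) := by
  haveI : L₀.IsQuasicoherent := qc_of_isInvertible _ hL₀
  haveI : L₀'.IsQuasicoherent := qc_of_isInvertible _ hL₀'
  refine ⟨fun ε => ?_⟩
  haveI : PreservesBinaryBiproducts (LT L₀) := preservesBinaryBiproducts_of_preservesBiproducts _
  have e1 : E ≅ (LT L₀).obj L₁ ⊞ (LT L₀).obj L₂ :=
    (backIso L₀' L₀ e' E).symm ≪≫ tensorIso' ε (Iso.refl L₀) ≪≫ tensorCommAll _ _ ≪≫
      (LT L₀).mapBiprod L₁ L₂
  rcases hind _ _ ⟨e1⟩ with h | h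
  · exact Curve6.not_isZero_of_isInvertible (isInvertible_tensorMod hL₀ hL₁) h
  · exact Curve6.not_isZero_of_isInvertible (isInvertible_tensorMod hL₀ hL₂) h

end twist

section norm

variable (k : Type u) [Field k] (X : Scheme.{u}) [X.Over (Spec (CommRingCat.of k))]
  [IsProper (X ↘ Spec (CommRingCat.of k))] [Smooth (X ↘ Spec (CommRingCat.of k))] [IsIntegral X]

/-- twisting a rank two bundle by the inverse of an invertible submodule of maximal degree gives
a normalized bundle. -/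
theorem normalized_twist (hdim : topologicalKrullDim X ≤ 1) {E L₀ L₀' : X.Modules}
    (hE : FlatMod.IsFinLocFreeOfRank 2 E) (hL₀ : PicF.IsInvertible L₀)
    (hL₀' : PicF.IsInvertible L₀') (e : CohB1.tensorMod L₀ L₀' ≅ unitMod X)
    (i : L₀ ⟶ E) [Mono i]
    (hmax : ∀ (L : X.Modules) (ι : L ⟶ E), PicF.IsInvertible L → Mono ι →
      Curv2.deg k X L 1 ≤ Curv2.deg k X L₀ 1) :
    Nontrivial (Coh.HH X (CohB1.tensorMod E L₀') 0) ∧
    (∀ N : X.Modules, PicF.IsInvertible N → Curv2.deg k X N 1 < 0 →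
      Subsingleton (Coh.HH X (CohB1.tensorMod (CohB1.tensorMod E L₀') N) 0)) ∧
    Curv2.deg k X (CohB1.tensorMod E L₀') 2 = Curv2.deg k X E 2 - 2 * Curv2.deg k X L₀ 1 := by
  haveI := Curve.isLocallyNoetherian k X
  have hEc : Coh.IsCoh E := Curve.isCoh_of_rank hE
  haveI := hEc.1
  haveI : L₀.IsQuasicoherent := qc_of_isInvertible _ hL₀
  haveI : L₀'.IsQuasicoherent := qc_of_isInvertible _ hL₀'
  have hd1 := deg_tensor k X hdim hL₀ hL₀'
  have hd2 := Curve.deg_iso k X e 1
  rw [Curve.deg_structureModule] at hd2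
  change Curv2.deg k X (CohB1.tensorMod L₀ L₀') 1 = 0 at hd2
  have hdL' : Curv2.deg k X L₀' 1 = - Curv2.deg k X L₀ 1 := by linarith
  refine ⟨?_, ?_, ?_⟩
  · haveI := mono_tensorMap_of_isInvertible i L₀' hL₀'
    haveI : Mono (e.inv ≫ KoszTw.tensorMap i (𝟙 L₀')) := mono_comp _ _
    have hne' := ne_zero_of_mono_of_isInvertible (isInvertible_unit X)
      (e.inv ≫ KoszTw.tensorMap i (𝟙 L₀'))
    exact nontrivial_H0_of_section_ne_zero _ _ hne'
  · intro N hN hNd
    by_contra hcon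
    rw [not_subsingleton_iff_nontrivial] at hcon
    haveI : N.IsQuasicoherent := qc_of_isInvertible _ hN
    obtain ⟨s, hs⟩ := exists_section_ne_zero_of_nontrivial_H0 k X _ hcon
    have hB' : PicF.IsInvertible (CohB1.tensorMod L₀' N) := isInvertible_tensorMod hL₀' hN
    obtain ⟨B, hB, ⟨eB⟩⟩ := Groth.Agent.H5.Glue.exists_inverse _ hB'
    haveI : B.IsQuasicoherent := qc_of_isInvertible _ hB
    have hs' : s ≫ (tensorAssoc E L₀' N).hom ≠ 0 := by
      intro h0
      apply hs
      have := congrArg (fun f => f ≫ (tensorAssoc E L₀' N).inv) h0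
      simpa using this
    obtain ⟨φ, hφ⟩ := exists_hom_ne_zero_of_section (X := X) hB hB'
      (tensorCommAll _ _ ≪≫ eB) (s ≫ (tensorAssoc E L₀' N).hom) hs'
    have hmono := mono_of_ne_zero_of_isInvertible k X hdim hB 2 hE φ hφ
    have h1 := hmax B φ hB hmono
    have hd3 := deg_tensor k X hdim hB' hB
    have hd4 := Curve.deg_iso k X eB 1
    rw [Curve.deg_structureModule] at hd4
    change Curv2.deg k X (CohB1.tensorMod (CohB1.tensorMod L₀' N) B) 1 = 0 at hd4
    have hd5 := deg_tensor k X hdim hL₀' hN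
    linarith
  · have hL'1 : FlatMod.IsFinLocFreeOfRank 1 L₀' := (isInvertible_iff _).mp hL₀'
    have hdT := deg_tensorMod k hdim 2 1 E L₀' hE hL'1
    rw [mul_one] at hdT
    rw [hdT, hdL']
    push_cast
    ring

end norm

end Groth.Agent.H5.Curve6
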