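import Mathlib
import Groth.Agent.Lib.Helper5.Curve6.Ell2
import Groth.Agent.Lib.Helper5.Curve6.Cliff
import Groth.Agent.Lib.Lead.FF.DeltaNat
import Groth.Agent.Lib.Helper5.Eig.RegSm
import Groth.Agent.Lib.Helper5.Curve6.Ext2

/-!
# Pushing out extensions; uniqueness of the nonsplit self-extension of `O` in genus one.
-/

set_option autoImplicit false
universe u
open CategoryTheory CategoryTheory.Limits AlgebraicGeometry TopologicalSpace Opposite

namespace Groth.Agent.H5.Curve6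

open Groth.Agent.LD Groth.Agent.LD.QC Groth.Agent.H5.Curve2 Groth.Agent.H5.Curve4
open Groth.Agent.H5.DegC Groth.Agent.H5.Snap Groth.Agent.H5.IntN Groth.Agent.H5.Glue

section abelian

universe v w
variable {C : Type w} [Category.{v} C] [Abelian C]

/-- **pushout of a short exact sequence** along a morphism out of its kernel. -/
theorem exists_pushout_shortExact {S : ShortComplex C} (hS : S.ShortExact) {A : C}
    (g : S.X₁ ⟶ A) :
    ∃ (Q : C) (f' : A ⟶ Q) (g' : Q ⟶ S.X₃) (a : S.X₂ ⟶ Q) (w : f' ≫ g' = 0),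
      (ShortComplex.mk f' g' w).ShortExact ∧ S.f ≫ a = g ≫ f' ∧ a ≫ g' = S.g := by
  haveI := hS.mono_f
  haveI := hS.epi_g
  have hw : S.f ≫ S.g = g ≫ (0 : A ⟶ S.X₃) := by rw [S.zero, comp_zero]
  let g' : pushout S.f g ⟶ S.X₃ := pushout.desc S.g 0 hw
  have h1 : pushout.inl S.f g ≫ g' = S.g := pushout.inl_desc _ _ _
  have h2 : pushout.inr S.f g ≫ g' = 0 := pushout.inr_desc _ _ _
  refine ⟨pushout S.f g, pushout.inr S.f g, g', pushout.inl S.f g, h2, ?_, pushout.condition, h1⟩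
  haveI : Epi g' := by
    have : Epi (pushout.inl S.f g ≫ g') := by rw [h1]; infer_instance
    exact epi_of_epi (pushout.inl S.f g) g'
  refine { exact := ?_, mono_f := inferInstanceAs (Mono (pushout.inr S.f g)), epi_g := ‹Epi g'› }
  apply ShortComplex.exact_of_g_is_cokernel
  refine CokernelCofork.IsColimit.ofπ _ _ (fun {Z} h hh => ?_) (fun {Z} h hh => ?_)
    (fun {Z} h hh m hm => ?_)
  · -- the descent
    have h3 : S.f ≫ pushout.inl S.f g ≫ h = 0 := by
      rw [← Category.assoc, pushout.condition, Category.assoc, hh, comp_zero]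
    exact hS.exact.desc (pushout.inl S.f g ≫ h) h3
  · have h3 : S.f ≫ pushout.inl S.f g ≫ h = 0 := by
      rw [← Category.assoc, pushout.condition, Category.assoc, hh, comp_zero]
    apply pushout.hom_ext
    · rw [← Category.assoc, h1]
      exact hS.exact.g_desc _ h3
    · rw [← Category.assoc, h2, zero_comp, hh]
  · rw [← cancel_epi g']
    have h3 : S.f ≫ pushout.inl S.f g ≫ h = 0 := by
      rw [← Category.assoc, pushout.condition, Category.assoc, hh, comp_zero]
    rw [hm]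
    apply pushout.hom_ext
    · rw [← Category.assoc, h1]
      exact (hS.exact.g_desc _ h3).symm
    · rw [← Category.assoc, h2, zero_comp, hh]

end abelian

section split

variable (k : Type u) [Field k] {X : Scheme.{u}} [X.Over (Spec (CommRingCat.of k))]

/-- morphisms out of the structure sheaf are determined by their classes in `H⁰`. -/
lemma hom_eq_of_class_eq {G : X.Modules} (a b : unitMod X ⟶ G)
    (h : CL.HHmap k a 0 (oneClass X) = CL.HHmap k b 0 (oneClass X)) : a = b := by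
  have key : ∀ c : unitMod X ⟶ G,
      CL.HH0Equiv G (CL.HHmap k c 0 (oneClass X)) = sectionOfHom c := by
    intro c
    have h1 := CL.HH0Equiv_map c (oneClass X)
    have h2 : CL.HHmap k c 0 (oneClass X) = CL.HHmapZ c 0 (oneClass X) := rfl
    rw [h2, h1]
    unfold oneClass
    rw [AddEquiv.apply_symm_apply]
    rfl
  have h3 : sectionOfHom a = sectionOfHom b := by rw [← key a, ← key b, h]
  rw [← homOfSection_sectionOfHom a, ← homOfSection_sectionOfHom b, h3]

/-- **splitting criterion**: a complex whose cokernel term is trivial splits as soon as the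
generator of `H⁰` of the cokernel term lifts. -/
theorem exists_section_of_lift {T : ShortComplex X.Modules} (e : T.X₃ ≅ unitMod X)
    (x₂ : Coh.HH X T.X₂ 0) (h : CL.HHmap k T.g 0 x₂ = CL.HHmap k e.inv 0 (oneClass X)) :
    ∃ s : T.X₃ ⟶ T.X₂, s ≫ T.g = 𝟙 T.X₃ := by
  obtain ⟨t, ht, -⟩ := exists_hom_of_class k T.X₂ x₂
  have h1 : t ≫ T.g = e.inv := by
    apply hom_eq_of_class_eq k
    rw [CL.HHmap_comp_apply, ht, h]
  refine ⟨e.hom ≫ t, ?_⟩
  rw [Category.assoc, h1, Iso.hom_inv_id]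

end split

section uniq

variable (k : Type u) [Field k] (X : Scheme.{u}) [X.Over (Spec (CommRingCat.of k))]
  [IsProper (X ↘ Spec (CommRingCat.of k))] [IsIntegral X]

/-- **uniqueness of the nonsplit self-extension of `O`** on a curve of genus one. -/
theorem nonempty_iso_of_nonsplit_ext (hdim : topologicalKrullDim X ≤ 1)
    (hg : Curv2.genus k X = 1)
    {S S' : ShortComplex X.Modules} (hS : S.ShortExact) (hS' : S'.ShortExact)
    (e₁ : S.X₁ ≅ unitMod X) (e₃ : S.X₃ ≅ unitMod X)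
    (e₁' : S'.X₁ ≅ unitMod X) (e₃' : S'.X₃ ≅ unitMod X)
    (hns : ∀ s : S.X₃ ⟶ S.X₂, s ≫ S.g ≠ 𝟙 _) (hns' : ∀ s : S'.X₃ ⟶ S'.X₂, s ≫ S'.g ≠ 𝟙 _) :
    Nonempty (S.X₂ ≅ S'.X₂) := by
  haveI := hS.mono_f
  haveI := hS.epi_g
  haveI := hS'.mono_f
  haveI := hS'.epi_g
  -- the class of `S'` generates `H¹`
  set y' := CL.HHmap k e₃'.inv 0 (oneClass X) with hy'
  have hδ' : CL.HHδ hS' k 0 y' ≠ 0 := by
    intro h0
    obtain ⟨x₂, hx₂⟩ := CL.exact₃ hS' k 0 y' h0
    obtain ⟨s, hs⟩ := exists_section_of_lift k e₃' x₂ hx₂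
    exact hns' s hs
  have hfr : Module.finrank k (Coh.HH X S'.X₁ 1) = 1 := by
    rw [finrank_HH_iso k X e₁' 1]
    exact hg
  have hzero : ∀ z : Coh.HH X S'.X₁ 1, CL.HHmap k S'.f 1 z = 0 := by
    intro z
    obtain ⟨c, hc⟩ := (finrank_eq_one_iff_of_nonzero' _ hδ').mp hfr z
    rw [← hc, ← map_smul]
    exact CL.HHmap_f_δ k hS' 0 (c • y')
  -- the pushout
  let g : S.X₁ ⟶ S'.X₂ := e₁.hom ≫ e₁'.inv ≫ S'.f
  obtain ⟨Q, f', g', a, w, hT, hfa, hag⟩ := exists_pushout_shortExact hS g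
  let T : ShortComplex X.Modules := ShortComplex.mk f' g' w
  let φ : S ⟶ T :=
    { τ₁ := g
      τ₂ := a
      τ₃ := 𝟙 _
      comm₁₂ := hfa.symm
      comm₂₃ := by
        change a ≫ g' = S.g ≫ 𝟙 _
        rw [hag, Category.comp_id] }
  set y := CL.HHmap k e₃.inv 0 (oneClass X) with hy
  have hδT : CL.HHδ hT k 0 y = 0 := by
    have h1 := CL.HHδ_naturality k hS hT φ 0 y
    have h2 : CL.HHmap k φ.τ₃ 0 y = y := by
      change CL.HHmap k (𝟙 S.X₃) 0 y = y
      rw [CL.HHmap_id]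
      rfl
    rw [h2] at h1
    rw [h1]
    change CL.HHmap k (e₁.hom ≫ e₁'.inv ≫ S'.f) 1 _ = 0
    rw [← Category.assoc, CL.HHmap_comp_apply]
    exact hzero _
  obtain ⟨x₂, hx₂⟩ := CL.exact₃ hT k 0 y hδT
  obtain ⟨s, hs⟩ := exists_section_of_lift k (T := T) e₃ x₂ hx₂
  haveI : Mono T.f := hT.mono_f
  let sp := ShortComplex.Splitting.ofExactOfSection T hT.exact s hs inferInstance
  let ψ : S.X₂ ⟶ S'.X₂ := a ≫ sp.r
  have hfψ : S.f ≫ ψ = g := by
    change S.f ≫ a ≫ sp.r = g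
    rw [← Category.assoc, hfa, Category.assoc]
    have := sp.f_r
    change f' ≫ sp.r = 𝟙 _ at this
    rw [this, Category.comp_id]
  have hz : S.f ≫ ψ ≫ S'.g = 0 := by
    rw [← Category.assoc, hfψ]
    change (e₁.hom ≫ e₁'.inv ≫ S'.f) ≫ S'.g = 0
    simp
  let γ : S.X₃ ⟶ S'.X₃ := hS.exact.desc (ψ ≫ S'.g) hz
  have hγ : S.g ≫ γ = ψ ≫ S'.g := hS.exact.g_desc _ hz
  have hγ0 : γ ≠ 0 := by
    intro h0
    have h1 : ψ ≫ S'.g = 0 := by rw [← hγ, h0, comp_zero]
    let ρ : S.X₂ ⟶ S'.X₁ := hS'.exact.lift ψ h1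
    have hρ : ρ ≫ S'.f = ψ := hS'.exact.lift_f _ h1
    have h2 : S.f ≫ ρ = e₁.hom ≫ e₁'.inv := by
      rw [← cancel_mono S'.f, Category.assoc, hρ, hfψ]
      simp [g]
    have h3 : S.f ≫ (ρ ≫ e₁'.hom ≫ e₁.inv) = 𝟙 _ := by
      rw [← Category.assoc, h2]
      simp
    let sp' := ShortComplex.Splitting.ofExactOfRetraction S hS.exact _ h3 inferInstance
    exact hns sp'.s sp'.s_g
  have hI : PicF.IsInvertible S.X₃ := isInvertible_of_iso e₃.symm (isInvertible_unit X)
  have hI' : PicF.IsInvertible S'.X₃ := isInvertible_of_iso e₃'.symm (isInvertible_unit X)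
  have hd : Curv2.deg k X S.X₃ 1 = Curv2.deg k X S'.X₃ 1 := by
    rw [Curve.deg_iso k X e₃ 1, Curve.deg_iso k X e₃' 1]
  haveI : IsIso γ := (Curve.deg_le_of_ne_zero k X hdim hI hI' γ hγ0).2 hd
  let φ' : S ⟶ S' :=
    { τ₁ := e₁.hom ≫ e₁'.inv
      τ₂ := ψ
      τ₃ := γ
      comm₁₂ := by
        rw [hfψ]
        simp [g]
      comm₂₃ := hγ.symm }
  haveI : IsIso φ'.τ₁ := inferInstanceAs (IsIso (e₁.hom ≫ e₁'.inv))
  haveI : IsIso φ'.τ₃ := inferInstanceAs (IsIso γ)
  haveI : IsIso ψ := ShortComplex.isIso₂_of_shortExact_of_isIso₁₃ φ' hS hS'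
  exact ⟨asIso ψ⟩

end uniq

section normalizedZero

variable (k : Type u) [Field k] (X : Scheme.{u}) [X.Over (Spec (CommRingCat.of k))]
  [IsProper (X ↘ Spec (CommRingCat.of k))] [IsIntegral X]

/-- a normalized indecomposable rank two bundle of degree zero on a curve of genus one is a
nonsplit self-extension of the structure sheaf. -/
theorem exists_nonsplit_self_ext_of_normalized [IsAlgClosed k]
    (hdim : topologicalKrullDim X = 1)
    (hreg : ∀ x : X, IsRegularLocalRing (X.presheaf.stalk x)) (hg : Curv2.genus k X = 1)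
    (E : X.Modules) (hE : FlatMod.IsFinLocFreeOfRank 2 E)
    (hn0 : Nontrivial (Coh.HH X E 0))
    (hneg : ∀ M : X.Modules, PicF.IsInvertible M → Curv2.deg k X M 1 < 0 →
      Subsingleton (Coh.HH X (CohB1.tensorMod E M) 0))
    (hind : ∀ L₁ L₂ : X.Modules, PicF.IsInvertible L₁ → PicF.IsInvertible L₂ →
      IsEmpty (E ≅ L₁ ⊞ L₂))
    (hdeg0 : Curv2.deg k X E 2 = 0) :
    ∃ S : ShortComplex X.Modules, S.ShortExact ∧ Nonempty (S.X₁ ≅ unitMod X) ∧
      Nonempty (S.X₃ ≅ unitMod X) ∧ Nonempty (S.X₂ ≅ E) ∧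
      ∀ s : S.X₃ ⟶ S.X₂, s ≫ S.g ≠ 𝟙 _ := by
  haveI := Curve.isLocallyNoetherian k X
  haveI : Smooth (X ↘ Spec (CommRingCat.of k)) :=
    Groth.Agent.H5.Eig.smooth_of_regular k X _ hreg
  have hEc : Coh.IsCoh E := Curve.isCoh_of_rank hE
  haveI := hEc.1
  obtain ⟨s, hs⟩ := exists_section_ne_zero_of_nontrivial_H0 k X E hn0
  obtain ⟨M, i, hi, hM, hQ, hdle, hdeg, j, hj⟩ :=
    exists_sat_line k X hdim.le (isInvertible_unit X) hE s hs
  haveI := hi
  have h0 : Curv2.deg k X (unitMod X) 1 = 0 := Curve.deg_structureModule k X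
  rw [h0] at hdle
  haveI : M.IsQuasicoherent := qc_of_isInvertible _ hM
  have hM0 : Curv2.deg k X M 1 = 0 := by
    by_contra hne
    have hpos : 0 < Curv2.deg k X M 1 := lt_of_le_of_ne hdle (Ne.symm hne)
    obtain ⟨M', hM', ⟨e⟩⟩ := Groth.Agent.H5.Glue.exists_inverse _ hM
    haveI : M'.IsQuasicoherent := qc_of_isInvertible _ hM'
    have hd1 := deg_tensor k X hdim.le hM hM'
    have hd2 := Curve.deg_iso k X e 1
    rw [Curve.deg_structureModule] at hd2
    change Curv2.deg k X (CohB1.tensorMod M M') 1 = 0 at hd2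
    have hsub := hneg M' hM' (by linarith)
    haveI := mono_tensorMap_of_isInvertible i M' hM'
    haveI : Mono (e.inv ≫ KoszTw.tensorMap i (𝟙 M')) := mono_comp _ _
    have hne' := ne_zero_of_mono_of_isInvertible (isInvertible_unit X)
      (e.inv ≫ KoszTw.tensorMap i (𝟙 M'))
    haveI := nontrivial_H0_of_section_ne_zero _ _ hne'
    exact false_of_nontrivial_of_subsingleton (Coh.HH X (CohB1.tensorMod E M') 0)
  have hQ0 : Curv2.deg k X (cokernel i) 1 = 0 := by linarith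
  have hjne : j ≠ 0 := fun h => hs (by rw [← hj, h, zero_comp])
  haveI : IsIso j := (Curve.deg_le_of_ne_zero k X hdim.le (isInvertible_unit X) hM j hjne).2
    (by rw [hM0]; exact h0)
  have eM : M ≅ unitMod X := (asIso j).symm
  haveI : (cokernel i).IsQuasicoherent := qc_of_isInvertible _ hQ
  let S : ShortComplex X.Modules := ShortComplex.mk i (cokernel.π i) (cokernel.condition i)
  have hS : S.ShortExact :=
    { exact := ShortComplex.exact_cokernel i
      mono_f := hi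
      epi_g := inferInstanceAs (Epi (cokernel.π i)) }
  have hns : ∀ s : S.X₃ ⟶ S.X₂, s ≫ S.g ≠ 𝟙 _ := by
    intro s hs
    obtain ⟨ε⟩ := nonempty_iso_biprod_of_section hS s hs
    exact (hind M (cokernel i) hM hQ).false ε
  obtain ⟨Q', hQ', ⟨eQ⟩⟩ := Groth.Agent.H5.Glue.exists_inverse _ hQ
  haveI : Q'.IsQuasicoherent := qc_of_isInvertible _ hQ'
  have hD : PicF.IsInvertible (CohB1.tensorMod M Q') := isInvertible_tensorMod hM hQ'
  haveI : (CohB1.tensorMod M Q').IsQuasicoherent := qc_of_isInvertible _ hD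
  have hH1 : ¬ Subsingleton (Coh.HH X (CohB1.tensorMod M Q') 1) := by
    intro hsub
    obtain ⟨s, hs⟩ := exists_section_of_subsingleton_H1 hS hQ Q' hQ' eQ hsub
    exact hns s hs
  rw [not_subsingleton_iff_nontrivial] at hH1
  have hDc := Curve2.isCoh_of_isInvertible hD
  haveI : Module.Finite k (Coh.HH X (CohB1.tensorMod M Q') 1) := Curve.finite_HH k X _ hDc 1
  have h1pos : 0 < Module.finrank k (Coh.HH X (CohB1.tensorMod M Q') 1) := Module.finrank_pos
  have hd3 := deg_tensor k X hdim.le hQ hQ'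
  have hd4 := Curve.deg_iso k X eQ 1
  rw [Curve.deg_structureModule] at hd4
  change Curv2.deg k X (CohB1.tensorMod (cokernel i) Q') 1 = 0 at hd4
  have hdD : Curv2.deg k X (CohB1.tensorMod M Q') 1 = 0 := by
    rw [deg_tensor k X hdim.le hM hQ']; omega
  have hde := deg_eq_h0_sub_h1 k X hdim (CohB1.tensorMod M Q')
  rw [hdD, hg] at hde
  push_cast at hde
  have hnt : Nontrivial (Coh.HH X (CohB1.tensorMod M Q') 0) :=
    Module.nontrivial_of_finrank_pos (R := k) (by omega)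
  obtain ⟨τ, hτ⟩ := exists_section_ne_zero_of_nontrivial_H0 k X _ hnt
  obtain ⟨-, hiso⟩ := Curve.deg_le_of_ne_zero k X hdim.le (isInvertible_unit X) hD τ hτ
  haveI : IsIso τ := hiso (by rw [hdD]; exact Curve.deg_structureModule k X)
  have ε₁ : CohB1.tensorMod M Q' ≅ unitMod X := (asIso τ).symm
  have eMQ : cokernel i ≅ M :=
    (cancelIso M Q' (cokernel i) ε₁).symm ≪≫
      tensorIso' (Iso.refl Q') (tensorCommAll M (cokernel i)) ≪≫ cancelIso (cokernel i) Q' M eQ
  exact ⟨S, hS, ⟨eM⟩, ⟨eMQ ≪≫ eM⟩, ⟨Iso.refl _⟩, hns⟩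

end normalizedZero

end Groth.Agent.H5.Curve6
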