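import Mathlib
import Groth.Agent.Lib.Helper5.Curve6.ExtU
import Groth.Agent.Lib.Helper5.Curve4.HN2
import Groth.Agent.Lib.Helper5.DegC.TensorDeg
import Groth.Agent.Lib.Helper5.IntN.Nak10
import Groth.Agent.Lib.Helper5.Curve4.DegMonoCoh

/-!
# Twisted pairs `(E, φ : E ⟶ E ⊗ L)` on a smooth proper curve: invariant subbundles.
-/

set_option autoImplicit false
universe u
open CategoryTheory CategoryTheory.Limits AlgebraicGeometry TopologicalSpace Opposite ZeroObject

namespace Groth.Agent.H5.Curve6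

open Groth.Agent.LD Groth.Agent.LD.QC Groth.Agent.H5.Curve4 Groth.Agent.H5.DegC

section maxslope

variable (k : Type u) [Field k] (X : Scheme.{u}) [X.Over (Spec (CommRingCat.of k))]
  [IsProper (X ↘ Spec (CommRingCat.of k))]

/-- **existence of a subbundle of maximal slope and, among those, of maximal rank, among the
subbundles satisfying a given predicate.** -/
theorem exists_maxSlope_pred [IsIntegral X] (hdim : topologicalKrullDim X ≤ 1) (r : ℕ)
    (E : X.Modules) (hE : FlatMod.IsFinLocFreeOfRank r E)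
    (Q : ∀ (G : X.Modules) (_ : ℕ), (G ⟶ E) → Prop)
    (h0 : ∃ (G : X.Modules) (n : ℕ) (j : G ⟶ E), Mono j ∧ 0 < n ∧
      FlatMod.IsFinLocFreeOfRank n G ∧ Q G n j) :
    ∃ (E₁ : X.Modules) (r₁ : ℕ) (i₁ : E₁ ⟶ E), Mono i₁ ∧ 0 < r₁ ∧
      FlatMod.IsFinLocFreeOfRank r₁ E₁ ∧ Q E₁ r₁ i₁ ∧
      (∀ (G : X.Modules) (r' : ℕ) (j : G ⟶ E), Mono j → 0 < r' → FlatMod.IsFinLocFreeOfRank r' G →
        Q G r' j → Curv2.deg k X G r' * (r₁ : ℤ) ≤ Curv2.deg k X E₁ r₁ * (r' : ℤ)) ∧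
      (∀ (G : X.Modules) (r' : ℕ) (j : G ⟶ E), Mono j → 0 < r' → FlatMod.IsFinLocFreeOfRank r' G →
        Q G r' j → Curv2.deg k X G r' * (r₁ : ℤ) = Curv2.deg k X E₁ r₁ * (r' : ℤ) → r' ≤ r₁) := by
  classical
  haveI : Nonempty X := ⟨genericPoint X⟩
  set R : ℕ := r.factorial with hR
  have hRpos : (0 : ℤ) < (R : ℤ) := by exact_mod_cast Nat.factorial_pos r
  let IsSubQ : X.Modules → ℕ → Prop := fun G r' =>
    ∃ j : G ⟶ E, Mono j ∧ 0 < r' ∧ FlatMod.IsFinLocFreeOfRank r' G ∧ Q G r' j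
  let P : ℤ → Prop := fun z => ∃ (G : X.Modules) (r' : ℕ), IsSubQ G r' ∧
    z = Curv2.deg k X G r' * ((R / r' : ℕ) : ℤ)
  have hmulR : ∀ r' : ℕ, 0 < r' → r' ≤ r → ((R / r' : ℕ) : ℤ) * (r' : ℤ) = (R : ℤ) := by
    intro r' h1 h2
    have := Nat.div_mul_cancel (Nat.dvd_factorial h1 h2)
    exact_mod_cast this
  have hrle : ∀ (G : X.Modules) (r' : ℕ), IsSubQ G r' → r' ≤ r := by
    rintro G r' ⟨j, hj, -, hG, -⟩
    haveI := hj
    exact rank_le_of_mono X j r' r hG hE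
  have hdivpos : ∀ r' : ℕ, 0 < r' → r' ≤ r → (0 : ℤ) < ((R / r' : ℕ) : ℤ) := by
    intro r' h1 h2
    have h3 := hmulR r' h1 h2
    have h4 : (0 : ℤ) < (r' : ℤ) := by exact_mod_cast h1
    by_contra hcon
    have h5 : ((R / r' : ℕ) : ℤ) ≤ 0 := not_lt.mp hcon
    have : ((R / r' : ℕ) : ℤ) * (r' : ℤ) ≤ 0 := mul_nonpos_of_nonpos_of_nonneg h5 h4.le
    linarith
  have hbdd : ∃ b : ℤ, ∀ z : ℤ, P z → z ≤ b := by
    refine ⟨((Module.finrank k (Coh.HH X E 0) : ℤ) + (r : ℤ) * (Curv2.genus k X : ℤ)) * (R : ℤ), ?_⟩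
    rintro z ⟨G, r', hsub, rfl⟩
    have hle := hrle G r' hsub
    obtain ⟨j, hj, hr', hG, -⟩ := hsub
    haveI := hj
    have hb := deg_le_h0_add k X hdim j (Curve.isCoh_of_rank hG) (Curve.isCoh_of_rank hE) r'
    have h1 : (r' : ℤ) ≤ r := by exact_mod_cast hle
    have h0 : (0 : ℤ) ≤ r' := Int.natCast_nonneg _
    have hg : (0 : ℤ) ≤ Curv2.genus k X := Int.natCast_nonneg _
    have h2 : Curv2.deg k X G r' ≤
        (Module.finrank k (Coh.HH X E 0) : ℤ) + (r : ℤ) * (Curv2.genus k X : ℤ) := by nlinarith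
    have h3 : (0 : ℤ) ≤ (Module.finrank k (Coh.HH X E 0) : ℤ) + (r : ℤ) * (Curv2.genus k X : ℤ) :=
      by positivity
    have h4 := hdivpos r' hr' hle
    have h5 : ((R / r' : ℕ) : ℤ) ≤ (R : ℤ) := by
      exact_mod_cast Nat.div_le_self R r'
    calc Curv2.deg k X G r' * ((R / r' : ℕ) : ℤ)
        ≤ ((Module.finrank k (Coh.HH X E 0) : ℤ) + (r : ℤ) * (Curv2.genus k X : ℤ)) *
          ((R / r' : ℕ) : ℤ) := mul_le_mul_of_nonneg_right h2 h4.le
      _ ≤ ((Module.finrank k (Coh.HH X E 0) : ℤ) + (r : ℤ) * (Curv2.genus k X : ℤ)) * (R : ℤ) :=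
          mul_le_mul_of_nonneg_left h5 h3
  have hinh : ∃ z : ℤ, P z := by
    obtain ⟨G, n, j, hj, hn, hG, hQ⟩ := h0
    exact ⟨_, G, n, ⟨j, hj, hn, hG, hQ⟩, rfl⟩
  obtain ⟨z₀, hz₀, hmax⟩ := Int.exists_greatest_of_bdd hbdd hinh
  -- among those attaining z₀, maximal rank
  let S : Set ℕ := {r' | ∃ G : X.Modules, IsSubQ G r' ∧
    z₀ = Curv2.deg k X G r' * ((R / r' : ℕ) : ℤ)}
  have hSne : S.Nonempty := by
    obtain ⟨G, r', hsub, hz⟩ := hz₀
    exact ⟨r', G, hsub, hz⟩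
  have hSbdd : BddAbove S := ⟨r, fun r' ⟨G, hsub, _⟩ => hrle G r' hsub⟩
  obtain ⟨E₁, hsub₁, hz₁⟩ := Nat.sSup_mem hSne hSbdd
  set r₁ := sSup S with hr₁def
  have hr₁le := hrle E₁ r₁ hsub₁
  obtain ⟨i₁, hi₁, hr₁, hE₁, hQ₁⟩ := hsub₁
  have key : ∀ (G : X.Modules) (r' : ℕ) (j : G ⟶ E), Mono j → 0 < r' →
      FlatMod.IsFinLocFreeOfRank r' G →
      (Curv2.deg k X G r' * (r₁ : ℤ)) * (R : ℤ) =
        (Curv2.deg k X G r' * ((R / r' : ℕ) : ℤ)) * ((r' : ℤ) * (r₁ : ℤ)) ∧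
      (Curv2.deg k X E₁ r₁ * (r' : ℤ)) * (R : ℤ) = z₀ * ((r' : ℤ) * (r₁ : ℤ)) := by
    intro G r' j hj hr' hG
    haveI := hj
    have hle := rank_le_of_mono X j r' r hG hE
    have h1 := hmulR r' hr' hle
    have h2 := hmulR r₁ hr₁ hr₁le
    constructor
    · rw [← h1]; ring
    · rw [hz₁, ← h2]; ring
  refine ⟨E₁, r₁, i₁, hi₁, hr₁, hE₁, hQ₁, ?_, ?_⟩
  · intro G r' j hj hr' hG hQ
    obtain ⟨k1, k2⟩ := key G r' j hj hr' hG
    have hz := hmax _ ⟨G, r', ⟨j, hj, hr', hG, hQ⟩, rfl⟩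
    have hpos : (0 : ℤ) ≤ (r' : ℤ) * (r₁ : ℤ) := by positivity
    have h3 : (Curv2.deg k X G r' * (r₁ : ℤ)) * (R : ℤ) ≤
        (Curv2.deg k X E₁ r₁ * (r' : ℤ)) * (R : ℤ) := by
      rw [k1, k2]
      exact mul_le_mul_of_nonneg_right hz hpos
    exact le_of_mul_le_mul_right h3 hRpos
  · intro G r' j hj hr' hG hQ heq
    obtain ⟨k1, k2⟩ := key G r' j hj hr' hG
    have hpos : (0 : ℤ) < (r' : ℤ) * (r₁ : ℤ) := by
      have h1 : (0 : ℤ) < r' := by exact_mod_cast hr'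
      have h2 : (0 : ℤ) < r₁ := by exact_mod_cast hr₁
      positivity
    have h3 : (Curv2.deg k X G r' * ((R / r' : ℕ) : ℤ)) * ((r' : ℤ) * (r₁ : ℤ)) =
        z₀ * ((r' : ℤ) * (r₁ : ℤ)) := by
      rw [← k1, ← k2, heq]
    have h4 := mul_right_cancel₀ hpos.ne' h3
    exact le_csSup hSbdd ⟨G, ⟨j, hj, hr', hG, hQ⟩, h4.symm⟩

end maxslope

section inv

variable {X : Scheme.{u}}

/-- `j : G ⟶ E` is invariant under `φ : E ⟶ E ⊗ L`. -/
def IsInv (L : X.Modules) {E G : X.Modules} (φ : E ⟶ CohB1.tensorMod E L) (j : G ⟶ E) : Prop :=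
  ∃ χ : G ⟶ CohB1.tensorMod G L, χ ≫ KoszTw.tensorMap j (𝟙 L) = j ≫ φ

/-- the kernel of a morphism of pairs is invariant. -/
theorem isInv_kernel {L : X.Modules} (hL : PicF.IsInvertible L) {A B : X.Modules}
    (α : A ⟶ CohB1.tensorMod A L) (β : B ⟶ CohB1.tensorMod B L) (f : A ⟶ B)
    (hf : f ≫ β = α ≫ KoszTw.tensorMap f (𝟙 L)) : IsInv L α (kernel.ι f) := by
  let S : ShortComplex X.Modules :=
    ShortComplex.mk (kernel.ι f) (Abelian.coimage.π f) (cokernel.condition _)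
  have hS : S.Exact := ShortComplex.exact_cokernel (kernel.ι f)
  have hS' := exact_tensorMap_of_isInvertible hS L hL
  haveI : Mono (KoszTw.tensorMap (Abelian.factorThruCoimage f) (𝟙 L)) :=
    mono_tensorMap_of_isInvertible _ L hL
  haveI : Mono (KoszTw.tensorMap (kernel.ι f) (𝟙 L)) :=
    mono_tensorMap_of_isInvertible _ L hL
  have h0 : (kernel.ι f ≫ α) ≫ KoszTw.tensorMap (Abelian.coimage.π f) (𝟙 L) = 0 := by
    rw [← cancel_mono (KoszTw.tensorMap (Abelian.factorThruCoimage f) (𝟙 L)), Category.assoc,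
      Category.assoc, ← tensorMap_comp_id, Abelian.coimage.fac, ← hf, kernel.condition_assoc,
      zero_comp, zero_comp]
  exact ⟨hS'.lift _ h0, hS'.lift_f _ h0⟩

/-- an invariant submodule induces a twisted endomorphism of the quotient. -/
theorem exists_desc_of_isInv {L : X.Modules} (hL : PicF.IsInvertible L) {E G : X.Modules}
    (φ : E ⟶ CohB1.tensorMod E L) (j : G ⟶ E) (h : IsInv L φ j) :
    ∃ φb : cokernel j ⟶ CohB1.tensorMod (cokernel j) L,
      cokernel.π j ≫ φb = φ ≫ KoszTw.tensorMap (cokernel.π j) (𝟙 L) := by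
  obtain ⟨χ, hχ⟩ := h
  have h0 : j ≫ φ ≫ KoszTw.tensorMap (cokernel.π j) (𝟙 L) = 0 := by
    rw [← Category.assoc, ← hχ, Category.assoc, ← tensorMap_comp_id, cokernel.condition,
      tensorMap_zero_id hL, comp_zero]
  exact ⟨cokernel.desc j _ h0, cokernel.π_desc _ _ _⟩

end inv

section main

variable (k : Type u) [Field k] (X : Scheme.{u}) [X.Over (Spec (CommRingCat.of k))]
  [IsProper (X ↘ Spec (CommRingCat.of k))] [Smooth (X ↘ Spec (CommRingCat.of k))] [IsIntegral X]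

/-- **the invariant subbundle of maximal slope and maximal rank is preserved by every endomorphism
commuting with `φ`.** -/
theorem exists_restrict_of_commute (hdim : topologicalKrullDim X ≤ 1) {L : X.Modules}
    (hL : PicF.IsInvertible L) {r : ℕ} {E : X.Modules} (hE : FlatMod.IsFinLocFreeOfRank r E)
    (φ : E ⟶ CohB1.tensorMod E L) (ψ : E ⟶ E)
    (hcomm : ψ ≫ φ = φ ≫ KoszTw.tensorMap ψ (𝟙 L))
    {F : X.Modules} {r₁ : ℕ} (i : F ⟶ E) [Mono i] (hr₁ : 0 < r₁)
    (hF : FlatMod.IsFinLocFreeOfRank r₁ F) (hinv : IsInv L φ i)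
    (hmax : ∀ (G : X.Modules) (r' : ℕ) (j : G ⟶ E), Mono j → 0 < r' →
      FlatMod.IsFinLocFreeOfRank r' G → IsInv L φ j →
      Curv2.deg k X G r' * (r₁ : ℤ) ≤ Curv2.deg k X F r₁ * (r' : ℤ))
    (hmaxr : ∀ (G : X.Modules) (r' : ℕ) (j : G ⟶ E), Mono j → 0 < r' →
      FlatMod.IsFinLocFreeOfRank r' G → IsInv L φ j →
      Curv2.deg k X G r' * (r₁ : ℤ) = Curv2.deg k X F r₁ * (r' : ℤ) → r' ≤ r₁) :
    ∃ ψ' : F ⟶ F, ψ' ≫ i = i ≫ ψ := by
  haveI := Curve.isLocallyNoetherian k X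
  haveI : IsNoetherian X := Groth.Agent.H5.Curve2.isNoetherian_of_proper k X
  obtain ⟨χ, hχ⟩ := hinv
  let g : F ⟶ cokernel i := (i ≫ ψ) ≫ cokernel.π i
  suffices hg : g = 0 from ⟨Abelian.monoLift i (i ≫ ψ) hg, Abelian.monoLift_comp _ _ _⟩
  by_contra hg
  obtain ⟨φb, hφb⟩ := exists_desc_of_isInv hL φ i ⟨χ, hχ⟩
  have hgpair : g ≫ φb = χ ≫ KoszTw.tensorMap g (𝟙 L) := by
    calc g ≫ φb = i ≫ ψ ≫ cokernel.π i ≫ φb := by simp only [g, Category.assoc]
      _ = i ≫ ψ ≫ φ ≫ KoszTw.tensorMap (cokernel.π i) (𝟙 L) := by rw [hφb]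
      _ = i ≫ φ ≫ KoszTw.tensorMap ψ (𝟙 L) ≫ KoszTw.tensorMap (cokernel.π i) (𝟙 L) := by
          rw [← Category.assoc ψ, hcomm, Category.assoc]
      _ = χ ≫ KoszTw.tensorMap i (𝟙 L) ≫ KoszTw.tensorMap ψ (𝟙 L) ≫
            KoszTw.tensorMap (cokernel.π i) (𝟙 L) := by
          rw [← Category.assoc i, ← hχ, Category.assoc]
      _ = χ ≫ KoszTw.tensorMap g (𝟙 L) := by
          simp only [g, tensorMap_comp_id, Category.assoc]
  -- the kernel of `g`
  obtain ⟨χ₁, hχ₁⟩ := isInv_kernel hL χ φb g hgpair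
  have hF₁inv : IsInv L φ (kernel.ι g ≫ i) :=
    ⟨χ₁, by rw [tensorMap_comp_id, ← Category.assoc, hχ₁, Category.assoc, hχ, Category.assoc]⟩
  -- the cokernel of `g`
  have h0 : g ≫ φb ≫ KoszTw.tensorMap (cokernel.π g) (𝟙 L) = 0 := by
    rw [← Category.assoc, hgpair, Category.assoc, ← tensorMap_comp_id, cokernel.condition,
      tensorMap_zero_id hL, comp_zero]
  let φc := cokernel.desc g (φb ≫ KoszTw.tensorMap (cokernel.π g) (𝟙 L)) h0
  have hφc : cokernel.π g ≫ φc = φb ≫ KoszTw.tensorMap (cokernel.π g) (𝟙 L) :=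
    cokernel.π_desc _ _ _
  let p : E ⟶ cokernel g := cokernel.π i ≫ cokernel.π g
  have hp : p ≫ φc = φ ≫ KoszTw.tensorMap p (𝟙 L) := by
    simp only [p, Category.assoc, hφc, tensorMap_comp_id]
    rw [← Category.assoc, hφb, Category.assoc]
  have hPinv : IsInv L φ (kernel.ι p) := isInv_kernel hL φ φc p hp
  -- coherence
  have hEc := Curve.isCoh_of_rank hE
  have hFc := Curve.isCoh_of_rank hF
  have hQc : Coh.IsCoh (cokernel i) := isCoh_cokernel i hFc hEc
  have hCc : Coh.IsCoh (cokernel g) := isCoh_cokernel g hFc hQc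
  have hPc : Coh.IsCoh (kernel p) := isCoh_kernel p hEc hCc
  have hF₁c : Coh.IsCoh (kernel g) := isCoh_kernel g hFc hQc
  have hIc : Coh.IsCoh (kernel (cokernel.π g)) := isCoh_kernel _ hQc hCc
  have hcoIc : Coh.IsCoh (cokernel (kernel.ι g)) := isCoh_cokernel _ hF₁c hFc
  obtain ⟨a, ha⟩ := exists_rank_of_mono k X hdim (kernel.ι g) hF₁c (Curve.isFinLocFree_of_rank hF)
  obtain ⟨c, hc⟩ := exists_rank_of_mono k X hdim (kernel.ι p) hPc (Curve.isFinLocFree_of_rank hE)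
  -- the four short exact sequences
  let S1 : ShortComplex X.Modules :=
    ShortComplex.mk (kernel.ι g) (cokernel.π (kernel.ι g)) (cokernel.condition _)
  have hS1 : S1.ShortExact :=
    { exact := ShortComplex.exact_cokernel _
      mono_f := inferInstanceAs (Mono (kernel.ι g))
      epi_g := inferInstanceAs (Epi (cokernel.π (kernel.ι g))) }
  let S2 : ShortComplex X.Modules :=
    ShortComplex.mk (kernel.ι (cokernel.π g)) (cokernel.π g) (kernel.condition _)
  have hS2 : S2.ShortExact :=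
    { exact := ShortComplex.exact_kernel _
      mono_f := inferInstanceAs (Mono (kernel.ι (cokernel.π g)))
      epi_g := inferInstanceAs (Epi (cokernel.π g)) }
  let S3 : ShortComplex X.Modules :=
    ShortComplex.mk i (cokernel.π i) (cokernel.condition _)
  have hS3 : S3.ShortExact :=
    { exact := ShortComplex.exact_cokernel _
      mono_f := inferInstanceAs (Mono i)
      epi_g := inferInstanceAs (Epi (cokernel.π i)) }
  haveI : Epi p := epi_comp _ _
  let S4 : ShortComplex X.Modules :=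
    ShortComplex.mk (kernel.ι p) p (kernel.condition _)
  have hS4 : S4.ShortExact :=
    { exact := ShortComplex.exact_kernel _
      mono_f := inferInstanceAs (Mono (kernel.ι p))
      epi_g := inferInstanceAs (Epi p) }
  let eI : cokernel (kernel.ι g) ≅ kernel (cokernel.π g) := Abelian.coimageIsoImage g
  -- generic ranks
  have g1 : gdim F = gdim (kernel g) + gdim (cokernel (kernel.ι g)) := gdim_add S1 hS1 hF₁c hcoIc
  have g2 : gdim (cokernel i) = gdim (kernel (cokernel.π g)) + gdim (cokernel g) :=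
    gdim_add S2 hS2 hIc hCc
  have g3 : gdim E = gdim F + gdim (cokernel i) := gdim_add S3 hS3 hFc hQc
  have g4 : gdim E = gdim (kernel p) + gdim (cokernel g) := gdim_add S4 hS4 hPc hCc
  have g5 : gdim (cokernel (kernel.ι g)) = gdim (kernel (cokernel.π g)) := gdim_iso eI
  rw [gdim_of_rank hF, gdim_of_rank ha] at g1
  rw [gdim_of_rank hE, gdim_of_rank hF] at g3
  rw [gdim_of_rank hE, gdim_of_rank hc] at g4
  have hca : c + a = 2 * r₁ := by omega
  have hale : a ≤ r₁ := by omega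
  -- Euler characteristics
  have e1 := Curve.euler_add k X S1 hS1 hF₁c hFc hcoIc
  have e2 := Curve.euler_add k X S2 hS2 hIc hQc hCc
  have e3 := Curve.euler_add k X S3 hS3 hFc hEc hQc
  have e4 := Curve.euler_add k X S4 hS4 hPc hEc hCc
  have e5 := Curve.euler_iso k X eI
  change Curv2.euler k X F = Curv2.euler k X (kernel g) + Curv2.euler k X (cokernel (kernel.ι g))
    at e1
  change Curv2.euler k X (cokernel i) =
    Curv2.euler k X (kernel (cokernel.π g)) + Curv2.euler k X (cokernel g) at e2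
  change Curv2.euler k X E = Curv2.euler k X F + Curv2.euler k X (cokernel i) at e3
  change Curv2.euler k X E = Curv2.euler k X (kernel p) + Curv2.euler k X (cokernel g) at e4
  have hdeg : Curv2.deg k X (kernel p) c + Curv2.deg k X (kernel g) a =
      2 * Curv2.deg k X F r₁ := by
    have hcaz : (c : ℤ) + (a : ℤ) = 2 * (r₁ : ℤ) := by exact_mod_cast hca
    unfold Curv2.deg
    have h6 : ((c : ℤ) + (a : ℤ)) * Curv2.euler k X (Coh.structureModule X) =
        2 * (r₁ : ℤ) * Curv2.euler k X (Coh.structureModule X) := by rw [hcaz]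
    linarith only [h6, e1, e2, e3, e4, e5]
  have hr₁z : (0 : ℤ) < r₁ := by exact_mod_cast hr₁
  have hcaz : (c : ℤ) + (a : ℤ) = 2 * (r₁ : ℤ) := by exact_mod_cast hca
  rcases Nat.lt_or_ge a r₁ with hlt | hge
  · -- the rank jumps
    have hK : Curv2.deg k X (kernel g) a * (r₁ : ℤ) ≤ Curv2.deg k X F r₁ * (a : ℤ) := by
      rcases Nat.eq_zero_or_pos a with h0 | hapos
      · subst h0
        rw [deg_rank_zero k X ha]
        simp
      · exact hmax (kernel g) a (kernel.ι g ≫ i) inferInstance hapos ha hF₁inv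
    have hcpos : 0 < c := by omega
    have hP1 := hmax (kernel p) c (kernel.ι p) inferInstance hcpos hc hPinv
    have hP2 : Curv2.deg k X (kernel p) c * (r₁ : ℤ) = Curv2.deg k X F r₁ * (c : ℤ) := by
      apply le_antisymm hP1
      have h1 : Curv2.deg k X (kernel p) c =
          2 * Curv2.deg k X F r₁ - Curv2.deg k X (kernel g) a := by
        linarith only [hdeg]
      have hc' : (c : ℤ) = 2 * (r₁ : ℤ) - (a : ℤ) := by linarith only [hcaz]
      rw [h1, hc']
      have h2 : (2 * Curv2.deg k X F r₁ - Curv2.deg k X (kernel g) a) * (r₁ : ℤ) =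
          2 * Curv2.deg k X F r₁ * (r₁ : ℤ) - Curv2.deg k X (kernel g) a * (r₁ : ℤ) := by ring
      have h3 : Curv2.deg k X F r₁ * (2 * (r₁ : ℤ) - (a : ℤ)) =
          2 * Curv2.deg k X F r₁ * (r₁ : ℤ) - Curv2.deg k X F r₁ * (a : ℤ) := by ring
      rw [h2, h3]
      linarith only [hK]
    have := hmaxr (kernel p) c (kernel.ι p) inferInstance hcpos hc hPinv hP2
    omega
  · -- the rank stays, the degree jumps
    have har : a = r₁ := le_antisymm hale hge
    subst har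
    have hc' : c = a := by omega
    subst hc'
    have h0 : gdim (cokernel (kernel.ι g)) = 0 := by omega
    have htors : IsTors (cokernel (kernel.ι g)) :=
      Groth.Agent.H5.IntN.isTors_of_gdim_eq_zero hcoIc h0
    obtain ⟨hle, hiff⟩ := deg_le_of_mono_generic_iso k X hdim c hF₁c hFc (kernel.ι g) htors
    have hne : Curv2.deg k X (kernel g) c ≠ Curv2.deg k X F c := by
      intro heq
      haveI := hiff.mp heq
      apply hg
      rw [← cancel_epi (kernel.ι g), kernel.condition, comp_zero]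
    have hlt := lt_of_le_of_ne hle hne
    have hP1 := hmax (kernel p) c (kernel.ι p) inferInstance hr₁ hc hPinv
    have hP2 : Curv2.deg k X (kernel p) c ≤ Curv2.deg k X F c := le_of_mul_le_mul_right hP1 hr₁z
    linarith only [hP2, hlt, hdeg]

end main

end Groth.Agent.H5.Curve6
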