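import Mathlib
import Groth.Agent.Lib.Helper5.Curve6.Pairs3
import Groth.Agent.Lib.Lead.QC.TwistBack

/-!
# Twisting by an invertible module as an adjoint equivalence on quasi-coherent modules.
-/

set_option autoImplicit false
universe u
open CategoryTheory CategoryTheory.Limits AlgebraicGeometry TopologicalSpace Opposite ZeroObject

namespace Groth.Agent.H5.Curve6

open Groth.Agent.LD Groth.Agent.LD.QC Groth.Agent.H5.Curve4 Groth.Agent.H5.DegC

variable {X : Scheme.{u}}

/-- quasi-coherence as an object property. -/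
def qcProp (X : Scheme.{u}) : ObjectProperty X.Modules := fun M => M.IsQuasicoherent

/-- the twisting functor on quasi-coherent modules. -/
noncomputable def twistF (L : X.Modules) [L.IsQuasicoherent] :
    (qcProp X).FullSubcategory ⥤ (qcProp X).FullSubcategory where
  obj M := ⟨CohB1.tensorMod M.obj L, by
    haveI : M.obj.IsQuasicoherent := M.property
    exact tensorMod_isQuasicoherent _ _⟩
  map f := ObjectProperty.homMk (KoszTw.tensorMap f.hom (𝟙 L))
  map_id M := by
    apply ObjectProperty.hom_ext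
    exact tensorMap_id_id _ _
  map_comp f g := by
    apply ObjectProperty.hom_ext
    exact tensorMap_comp_id _ _ _

section

variable (L L' : X.Modules) [L.IsQuasicoherent] [L'.IsQuasicoherent]
  (hL : PicF.IsInvertible L) (hL' : PicF.IsInvertible L')
  (e : CohB1.tensorMod L L' ≅ unitMod X)

/-- the natural isomorphism `twistF L ⋙ twistF L' ≅ 𝟭`. -/
noncomputable def twistBackIso : twistF L ⋙ twistF L' ≅ 𝟭 (qcProp X).FullSubcategory :=
  NatIso.ofComponents (fun M =>
    haveI : M.obj.IsQuasicoherent := M.property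
    ObjectProperty.isoMk _ (backIso L L' e M.obj)) (by
    intro M N f
    haveI : M.obj.IsQuasicoherent := M.property
    haveI : N.obj.IsQuasicoherent := N.property
    apply ObjectProperty.hom_ext
    exact backIso_naturality L L' e hL hL' f.hom)

end

theorem qc_tensorMod_of_isInvertible {E L : X.Modules} (hE : E.IsQuasicoherent)
    (hL : PicF.IsInvertible L) : (CohB1.tensorMod E L).IsQuasicoherent := by
  haveI := hE
  haveI := qc_of_isInvertible _ hL
  exact tensorMod_isQuasicoherent _ _

/-- **twisting by an invertible module is an adjoint equivalence**: unit, counit, naturality and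
the triangle identity, unpackaged. -/
theorem exists_twist_unit_counit (L : X.Modules) (hL : PicF.IsInvertible L)
    (L' : X.Modules) (hL' : PicF.IsInvertible L')
    (e : Nonempty (CohB1.tensorMod L L' ≅ unitMod X)) :
    ∃ (η : ∀ (E : X.Modules), E.IsQuasicoherent →
        (E ≅ CohB1.tensorMod (CohB1.tensorMod E L) L'))
      (ε : ∀ (A : X.Modules), A.IsQuasicoherent →
        (CohB1.tensorMod (CohB1.tensorMod A L') L ≅ A)),
      (∀ (E E' : X.Modules) (hE : E.IsQuasicoherent) (hE' : E'.IsQuasicoherent) (f : E ⟶ E'),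
        f ≫ (η E' hE').hom =
          (η E hE).hom ≫ KoszTw.tensorMap (KoszTw.tensorMap f (𝟙 L)) (𝟙 L')) ∧
      (∀ (A A' : X.Modules) (hA : A.IsQuasicoherent) (hA' : A'.IsQuasicoherent) (f : A ⟶ A'),
        KoszTw.tensorMap (KoszTw.tensorMap f (𝟙 L')) (𝟙 L) ≫ (ε A' hA').hom =
          (ε A hA).hom ≫ f) ∧
      (∀ (E : X.Modules) (hE : E.IsQuasicoherent),
        KoszTw.tensorMap (η E hE).hom (𝟙 L) ≫
          (ε (CohB1.tensorMod E L) (qc_tensorMod_of_isInvertible hE hL)).hom = 𝟙 _) := by
  obtain ⟨e⟩ := e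
  haveI : L.IsQuasicoherent := qc_of_isInvertible _ hL
  haveI : L'.IsQuasicoherent := qc_of_isInvertible _ hL'
  let e' : CohB1.tensorMod L' L ≅ unitMod X := tensorCommAll L' L ≪≫ e
  let η₀ : 𝟭 (qcProp X).FullSubcategory ≅ twistF L ⋙ twistF L' := (twistBackIso L L' hL hL' e).symm
  let ε₀ : twistF L' ⋙ twistF L ≅ 𝟭 (qcProp X).FullSubcategory := twistBackIso L' L hL' hL e'
  let η₁ := Equivalence.adjointifyη η₀ ε₀
  refine ⟨fun E hE => (qcProp X).ι.mapIso (η₁.app ⟨E, hE⟩),
    fun A hA => (qcProp X).ι.mapIso (ε₀.app ⟨A, hA⟩), ?_, ?_, ?_⟩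
  · intro E E' hE hE' f
    have := η₁.hom.naturality (X := ⟨E, hE⟩) (Y := ⟨E', hE'⟩) (ObjectProperty.homMk f)
    exact congrArg (fun g => g.hom) this
  · intro A A' hA hA' f
    have := ε₀.hom.naturality (X := ⟨A, hA⟩) (Y := ⟨A', hA'⟩) (ObjectProperty.homMk f)
    exact congrArg (fun g => g.hom) this
  · intro E hE
    have := Equivalence.adjointify_η_ε η₀ ε₀ ⟨E, hE⟩
    exact congrArg (fun g => g.hom) this

end Groth.Agent.H5.Curve6
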