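import Mathlib
import Groth.Agent.Lib.Helper5.Curve6.P1Deg
import Groth.Agent.Lib.Helper3.PP8
import Groth.Agent.Lib.Lead.PS.FormalClosed
import Groth.Agent.Lib.Lead.QC.PullInv

/-!
# Cohomology is invariant under isomorphisms of schemes; the projective line carries an
invertible module of degree one with two sections.
-/

set_option autoImplicit false
universe u
open CategoryTheory CategoryTheory.Limits AlgebraicGeometry TopologicalSpace Opposite

namespace Groth.Agent.H5.Curve6

open Groth.Agent.LD Groth.Agent.LD.QC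

variable (k : Type u) [Field k] {X Y : Scheme.{u}} [X.Over (Spec (CommRingCat.of k))]
  [Y.Over (Spec (CommRingCat.of k))]

theorem finrank_HH_pullback_of_isIso (f : X ⟶ Y) [IsIso f]
    (hf : f ≫ (Y ↘ Spec (CommRingCat.of k)) = X ↘ Spec (CommRingCat.of k)) (M : Y.Modules)
    (p : ℕ) :
    Module.finrank k (Coh.HH X ((Scheme.Modules.pullback f).obj M) p) =
      Module.finrank k (Coh.HH Y M p) := by
  haveI : f.IsOver (Spec (CommRingCat.of k)) := ⟨hf⟩
  exact (Groth.Agent.LD.PS.cohE k f p M).finrank_eq.symm

theorem euler_pullback_of_isIso (f : X ⟶ Y) [IsIso f]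
    (hf : f ≫ (Y ↘ Spec (CommRingCat.of k)) = X ↘ Spec (CommRingCat.of k)) (M : Y.Modules) :
    Curv2.euler k X ((Scheme.Modules.pullback f).obj M) = Curv2.euler k Y M := by
  unfold Curv2.euler
  refine finsum_congr (fun p => ?_)
  rw [finrank_HH_pullback_of_isIso k f hf M p]

theorem deg_pullback_of_isIso (f : X ⟶ Y) [IsIso f]
    (hf : f ≫ (Y ↘ Spec (CommRingCat.of k)) = X ↘ Spec (CommRingCat.of k)) (M : Y.Modules)
    (n : ℕ) :
    Curv2.deg k X ((Scheme.Modules.pullback f).obj M) n = Curv2.deg k Y M n := by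
  unfold Curv2.deg
  rw [euler_pullback_of_isIso k f hf M]
  have h := euler_pullback_of_isIso k f hf (unitMod Y)
  rw [Curve.euler_iso k X (pbUnitIso f)] at h
  rw [show Coh.structureModule X = unitMod X from rfl,
    show Coh.structureModule Y = unitMod Y from rfl, h]

/-- a scheme isomorphic to the projective line over `k` carries an invertible module of degree
one with a two dimensional space of sections. -/
theorem exists_invertible_of_iso_P1 (e : X ≅ CohB1.ProjSpace 1 k)
    (he : e.hom ≫ CohB1.ProjSpace.toSpec 1 k = X ↘ Spec (CommRingCat.of k)) :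
    ∃ L : X.Modules, PicF.IsInvertible L ∧ Curv2.deg k X L 1 = 1 ∧
      Module.finrank k (Coh.HH X L 0) = 2 := by
  refine ⟨(Scheme.Modules.pullback e.hom).obj (Twist.twistProjSpace 1 k 1),
    isInvertible_pullback e.hom (isInvertible_twistProjSpace k 1 1), ?_, ?_⟩
  · rw [deg_pullback_of_isIso k e.hom he, deg_twist_P1]
  · rw [finrank_HH_pullback_of_isIso k e.hom he, finrank_H0_twist_one_P1]

end Groth.Agent.H5.Curve6
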