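import Mathlib

/-!
# Residue degree one at the generic point means birational.
-/

set_option autoImplicit false
universe u
open CategoryTheory CategoryTheory.Limits AlgebraicGeometry TopologicalSpace Opposite

namespace Groth.Agent.H5.Curve6

lemma bijective_residue_of_isField {X : Scheme.{u}} (x : X)
    (h : IsField (X.presheaf.stalk x)) : Function.Bijective (X.residue x).hom := by
  refine ⟨?_, IsLocalRing.residue_surjective⟩
  letI := h.toField
  exact RingHom.injective _

/-- a dominant morphism of integral schemes with residue degree one at the generic point is
birational. -/
theorem isIso_stalkMap_genericPoint_of_residueDegree_eq_one {X Y : Scheme.{u}} [IsIntegral X]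
    [IsIntegral Y] (f : X ⟶ Y) (hξ : f (genericPoint X) = genericPoint Y)
    (h : f.residueDegree (genericPoint X) = 1) : IsIso (f.stalkMap (genericPoint X)) := by
  have hY : ∀ y : Y, y = genericPoint Y → IsField (Y.presheaf.stalk y) := by
    rintro _ rfl
    exact Field.toIsField Y.functionField
  have hX : IsField (X.presheaf.stalk (genericPoint X)) := Field.toIsField X.functionField
  have h1 := bijective_residue_of_isField _ (hY _ hξ)
  have h2 := bijective_residue_of_isField _ hX
  have h3 : Function.Bijective (f.residueFieldMap (genericPoint X)).hom := by
    letI := (f.residueFieldMap (genericPoint X)).hom.toAlgebra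
    refine ⟨RingHom.injective _, ?_⟩
    have h4 : Module.finrank (Y.residueField (f (genericPoint X)))
        (X.residueField (genericPoint X)) = 1 := h
    have h5 := Subalgebra.bot_eq_top_of_finrank_eq_one h4
    exact Algebra.surjective_algebraMap_iff.mpr h5.symm
  have hsq := Scheme.residue_residueFieldMap f (genericPoint X)
  rw [ConcreteCategory.isIso_iff_bijective]
  have h6 : (X.residue (genericPoint X)).hom ∘ (f.stalkMap (genericPoint X)).hom =
      (f.residueFieldMap (genericPoint X)).hom ∘ (Y.residue (f (genericPoint X))).hom := by
    funext a
    exact (congrArg (fun g => g.hom a) hsq).symm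
  have h7 : Function.Bijective ((X.residue (genericPoint X)).hom ∘
      (f.stalkMap (genericPoint X)).hom) := by
    rw [h6]; exact h3.comp h1
  exact (Function.Bijective.of_comp_iff' h2 _).mp h7

end Groth.Agent.H5.Curve6
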