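import Mathlib
import Groth.Agent.Lib.Helper2.ProjUPK

/-!
# Preimages of the standard charts under a morphism to projective space given by sections.
-/

set_option autoImplicit false
universe u
open CategoryTheory CategoryTheory.Limits AlgebraicGeometry TopologicalSpace Opposite

namespace Groth.Agent.H5.Curve6

open Groth.Agent.LD Groth.Agent.H2.PUP Twist

theorem preimage_basicOpen_eq_genLocus' {R : Type u} [CommRing R] (n : ℕ) {X : Scheme.{u}}
    (r : X ⟶ Proj (CohB1.polyGrading n R)) (L : X.Modules)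
    (τ : (Scheme.Modules.pullback r).obj (twist (CohB1.polyGrading n R) 1) ≅ L)
    (s : Fin (n + 1) → ProjUP.Γm L)
    (hτ : ∀ i, τ.hom.app ⊤ (ProjUP.pullSec r (twist (CohB1.polyGrading n R) 1)
      (ProjUP.coord n R i)) = s i) (i : Fin (n + 1)) :
    r ⁻¹ᵁ Proj.basicOpen (CohB1.polyGrading n R) (MvPolynomial.X i) =
      CohB1.genLocus L (QC.homOfSection L (s i)) := by
  have hf : (MvPolynomial.X i : MvPolynomial (Fin (n + 1)) R) ∈ CohB1.polyGrading n R 1 :=
    MvPolynomial.isHomogeneous_X R i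
  have h1 := QC.genLocus_pbHom r (isInvertible_twist (CohB1.polyGrading n R) (ιPn n R)
    (ιPn_mem n R) (isSymmetricAlgebra_ιPn n R) 1)
    (QC.homOfSection _ (sec1 (CohB1.polyGrading n R) hf))
  rw [genLocus_sec1 (CohB1.polyGrading n R) (ιPn n R) (ιPn_mem n R)
    (isSymmetricAlgebra_ιPn n R) hf] at h1
  have h2 : sec1 (CohB1.polyGrading n R) hf = ProjUP.coord n R i := rfl
  rw [← h1, ← hτ i, ← QC.homOfSection_comp, QC.genLocus_comp_iso, ← h2]
  congr 1
  rw [← QC.homOfSection_sectionOfHom (QC.pbHom r _)]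
  congr 1
  rw [QC.pbHom, QC.sectionOfHom_homOfSection, QC.sectionOfHom_homOfSection, ← pullSec_eq_pbSec]

/-- the preimage of `D₊(T_i)` under a morphism `r` to projective space with `r^*O(1) ≅ L`
carrying `r^*T_i` to `s i` is the locus where `s i` generates `L`. -/
theorem preimage_basicOpen_eq_genLocus {R : Type u} [CommRing R] (n : ℕ) {X : Scheme.{u}}
    (r : X ⟶ CohB1.ProjSpace n R) (L : X.Modules)
    (τ : (Scheme.Modules.pullback r).obj (Twist.twistProjSpace n R 1) ≅ L)
    (s : Fin (n + 1) → ProjUP.Γm L)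
    (hτ : ∀ i, τ.hom.app ⊤ (ProjUP.pullSec r (Twist.twistProjSpace n R 1) (ProjUP.coord n R i)) =
      s i) (i : Fin (n + 1)) :
    r ⁻¹ᵁ (show (CohB1.ProjSpace n R).Opens from
        Proj.basicOpen (CohB1.polyGrading n R) (MvPolynomial.X i)) =
      CohB1.genLocus L (QC.homOfSection L (s i)) :=
  preimage_basicOpen_eq_genLocus' n r L τ s hτ i

end Groth.Agent.H5.Curve6
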