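import Mathlib
import Groth.Agent.Lib.Helper5.Curve6.P1Facts
import Groth.Agent.Lib.Helper5.Curve6.P1Pre
import Groth.Agent.Lib.Helper5.Curve6.P1Bir
import Groth.Agent.Lib.Helper5.DegC.PullDeg
import Groth.Agent.Lib.Helper9.Misc.FinBir
import Groth.Agent.H4.Cok4
import Groth.Agent.Lib.Helper5.IntN.SecPos
import Groth.Agent.Lib.Helper2.ProjUPF

/-!
# A proper integral curve with an invertible module of degree one generated by two sections
is the projective line.
-/

set_option autoImplicit false
universe u
open CategoryTheory CategoryTheory.Limits AlgebraicGeometry TopologicalSpace Opposite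

namespace Groth.Agent.H5.Curve6

open Groth.Agent.LD Groth.Agent.LD.QC Groth.Agent.H2.PUP Twist

variable (k : Type u) [Field k] (X : Scheme.{u}) [X.Over (Spec (CommRingCat.of k))]
  [IsProper (X ↘ Spec (CommRingCat.of k))] [IsIntegral X]

/-- **a proper integral curve carrying an invertible module of degree one generated by two
global sections is isomorphic to the projective line.** -/
theorem exists_iso_P1_of_two_sections (hdim : topologicalKrullDim X = 1) (L : X.Modules)
    (hL : PicF.IsInvertible L) (hdeg : Curv2.deg k X L 1 = 1) (s : Fin 2 → ProjUP.Γm L)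
    (hs : ProjUP.GeneratedBy L s) :
    ∃ e : X ≅ CohB1.ProjSpace 1 k,
      e.hom ≫ CohB1.ProjSpace.toSpec 1 k = X ↘ Spec (CommRingCat.of k) := by
  obtain ⟨r, hr, τ, hτ⟩ := exists_hom_iso_Pn 1 (X ↘ Spec (CommRingCat.of k)) L s hL hs
  haveI : IsIntegral (CohB1.ProjSpace 1 k) := isIntegral_projSpace k 1
  haveI : IsProper (CohB1.ProjSpace 1 k ↘ Spec (CommRingCat.of k)) :=
    Groth.Agent.H5.AG.isProper_toSpec 1 k
  have hdimP : topologicalKrullDim (CohB1.ProjSpace 1 k) = 1 := by
    rw [Groth.Agent.H5.IntN.dim_projSpace]; rfl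
  -- a section generating at the generic point
  obtain ⟨i, hi⟩ := exists_mem_genLocus L hL s hs (genericPoint X)
  -- it vanishes somewhere
  have hx : ∃ x : X, x ∉ CohB1.genLocus L (QC.homOfSection L (s i)) := by
    by_contra hcon
    push Not at hcon
    haveI := Groth.Agent.H5.IntN.isIso_of_genLocus_eq_top (QC.homOfSection L (s i)) hcon
    have h1 := Curve.deg_iso k X (asIso (QC.homOfSection L (s i))) 1
    rw [hdeg] at h1
    have h2 : Curv2.deg k X (unitMod X) 1 = 0 := Curve.deg_structureModule k X
    omega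
  obtain ⟨x, hx⟩ := hx
  have hpre := preimage_basicOpen_eq_genLocus 1 r L τ s hτ i
  -- dominance
  have hξ : r (genericPoint X) = genericPoint (CohB1.ProjSpace 1 k) := by
    by_contra hne
    have hcl : IsClosed ({r (genericPoint X)} : Set (CohB1.ProjSpace 1 k)) := by
      by_contra hncl
      exact hne (Groth.Agent.H4.Cok.eq_genericPoint_of_not_isClosed _ hdimP _ hncl)
    have hsp : genericPoint X ⤳ x := genericPoint_specializes x
    have h1 : r (genericPoint X) ⤳ r x := hsp.map r.continuous
    have h2 : r x = r (genericPoint X) := by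
      have := h1.mem_closed hcl (Set.mem_singleton _)
      exact this
    have h3 : genericPoint X ∈ r ⁻¹ᵁ (show (CohB1.ProjSpace 1 k).Opens from
        Proj.basicOpen (CohB1.polyGrading 1 k) (MvPolynomial.X i)) := by rw [hpre]; exact hi
    have h4 : x ∈ r ⁻¹ᵁ (show (CohB1.ProjSpace 1 k).Opens from
        Proj.basicOpen (CohB1.polyGrading 1 k) (MvPolynomial.X i)) := by
      change r x ∈ (show (CohB1.ProjSpace 1 k).Opens from
        Proj.basicOpen (CohB1.polyGrading 1 k) (MvPolynomial.X i))
      rw [h2]
      exact h3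
    rw [hpre] at h4
    exact hx h4
  -- the degree
  have hO1 : FlatMod.IsFinLocFreeOfRank 1 (Twist.twistProjSpace 1 k 1) :=
    (isInvertible_iff _).mp (isInvertible_twist (CohB1.polyGrading 1 k) (ιPn 1 k)
      (ιPn_mem 1 k) (isSymmetricAlgebra_ιPn 1 k) 1)
  have hd := Groth.Agent.H5.DegC.deg_pullback_eq k hdim.le hdimP r hr hξ 1 _ hO1
  rw [Curve.deg_iso k X τ 1, hdeg] at hd
  have hres : r.residueDegree (genericPoint X) = 1 := by
    have := Int.eq_one_of_mul_eq_one_right (Int.natCast_nonneg _) hd.symm
    exact_mod_cast this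
  haveI : IsFinite r := Groth.Agent.H5.DegC.isFinite_of_nonconstant k hdim.le hdimP r hr hξ
  have hbir := isIso_stalkMap_genericPoint_of_residueDegree_eq_one r hξ hres
  haveI : IsIso r := Groth.Agent.H9.FinBir.main (isIntegrallyClosed_stalk_projSpace k 1) r hξ hbir
  exact ⟨asIso r, hr⟩

end Groth.Agent.H5.Curve6
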