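import Mathlib
import Groth.Agent.Lib.Helper5.Curve6.P1Core
import Groth.Agent.Lib.Helper5.Curve2.L
import Groth.Agent.Lib.Helper5.VAmple.I

/-!
# `H¹(O_X) = 0` and an invertible module of degree one: the projective line.
-/

set_option autoImplicit false
universe u
open CategoryTheory CategoryTheory.Limits AlgebraicGeometry TopologicalSpace Opposite

namespace Groth.Agent.H5.Curve6

open Groth.Agent.LD Groth.Agent.LD.QC Groth.Agent.H5.Curve2

variable (k : Type u) [Field k] (X : Scheme.{u}) [X.Over (Spec (CommRingCat.of k))]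
  [IsProper (X ↘ Spec (CommRingCat.of k))] [IsIntegral X]

/-- if `H¹(O_X) = 0`, an invertible module of positive degree is generated by two global
sections. -/
theorem exists_two_generating_sections_of_h1_zero (hdim : topologicalKrullDim X = 1)
    (h1 : Subsingleton (Coh.HH X (Coh.structureModule X) 1)) (L : X.Modules)
    (hL : PicF.IsInvertible L) (hdeg : 0 < Curv2.deg k X L 1) :
    ∃ s : Fin 2 → ProjUP.Γm L, ProjUP.GeneratedBy L s := by
  haveI := Curve.isLocallyNoetherian k X
  haveI : IsNoetherian X := isNoetherian_of_proper k X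
  haveI : L.IsQuasicoherent := qc_of_isInvertible L hL
  -- a nonzero section
  have hχ : 0 < Curv2.euler k X L := by
    have h2 : Curv2.deg k X L 1 =
        Curv2.euler k X L - Curv2.euler k X (Coh.structureModule X) := by
      unfold Curv2.deg; push_cast; ring
    have h3 := Curve.euler_eq_sub k X hdim.le (unitMod X)
    have h4 : Module.finrank k (Coh.HH X (unitMod X) 1) = 0 := by
      haveI : Subsingleton (Coh.HH X (unitMod X) 1) := h1
      exact Module.finrank_zero_of_subsingleton
    have h5 : Curv2.euler k X (Coh.structureModule X) =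
        (Module.finrank k (Coh.HH X (unitMod X) 0) : ℤ) := by
      rw [show Coh.structureModule X = unitMod X from rfl, h3, h4]; simp
    have h6 : (0 : ℤ) ≤ (Module.finrank k (Coh.HH X (unitMod X) 0) : ℤ) := Int.natCast_nonneg _
    linarith
  obtain ⟨s, hs⟩ := exists_section_ne_zero_of_euler_pos k X hdim.le L hχ
  obtain ⟨hS, hQc, hpt, hd⟩ := cokernel_section_facts k X hdim.le hL s hs
  have hsurjΓ : Function.Surjective ((cokernel.π s).app ⊤) := by
    intro q
    obtain ⟨x₂, hx₂⟩ := CL.exact₃ hS k 0 ((CL.HH0Equiv (cokernel s)).symm q)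
      (by haveI : Subsingleton (Coh.HH X (unitMod X) 1) := h1; exact Subsingleton.elim _ _)
    refine ⟨CL.HH0Equiv L x₂, ?_⟩
    rw [← CL.HH0Equiv_map (cokernel.π s) x₂]
    have h1' : CL.HHmapZ (cokernel.π s) 0 x₂ = CL.HHmap k (cokernel.π s) 0 x₂ := rfl
    rw [h1', hx₂, AddEquiv.apply_symm_apply]
  obtain ⟨t, ht⟩ := exists_section_generating_on_zeros hdim.le hL s hs hsurjΓ
  refine ⟨![sectionOfHom s, sectionOfHom t], ?_⟩
  apply Groth.Agent.H5.VAmple.generatedBy_of_forall_mem_genLocus
  intro x
  by_cases hx : x ∈ CohB1.genLocus L s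
  · exact ⟨0, by simpa [homOfSection_sectionOfHom] using hx⟩
  · exact ⟨1, by simpa [homOfSection_sectionOfHom] using ht x hx⟩

/-- **S6541**: a proper integral curve with `H¹(O_X) = 0` and an invertible module of degree
one is the projective line. -/
theorem exists_iso_P1_of_h1_zero_of_deg_one (hdim : topologicalKrullDim X = 1)
    (h1 : Subsingleton (Coh.HH X (Coh.structureModule X) 1)) (L : X.Modules)
    (hL : PicF.IsInvertible L) (hdeg : Curv2.deg k X L 1 = 1) :
    ∃ e : X ≅ CohB1.ProjSpace 1 k,
      e.hom ≫ CohB1.ProjSpace.toSpec 1 k = X ↘ Spec (CommRingCat.of k) := by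
  obtain ⟨s, hs⟩ := exists_two_generating_sections_of_h1_zero k X hdim h1 L hL (by omega)
  exact exists_iso_P1_of_two_sections k X hdim L hL hdeg s hs

end Groth.Agent.H5.Curve6
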