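import Mathlib
import Groth.Agent.Lib.Helper5.Curve6.P1H1
import Groth.Agent.Lib.Helper5.Curve6.P1Conv
import Groth.Agent.Lib.Helper5.DegC.H0Dvd
import Groth.Agent.Lib.Lead.FF.H0Const

/-!
# An invertible module of degree one with two independent sections: the projective line.
-/

set_option autoImplicit false
universe u
open CategoryTheory CategoryTheory.Limits AlgebraicGeometry TopologicalSpace Opposite

namespace Groth.Agent.H5.Curve6

open Groth.Agent.LD Groth.Agent.LD.QC Groth.Agent.H5.Curve2

variable (k : Type u) [Field k] (X : Scheme.{u}) [X.Over (Spec (CommRingCat.of k))]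
  [IsProper (X ↘ Spec (CommRingCat.of k))] [IsIntegral X]

/-- an invertible module of degree one forces `H⁰(X, O_X) = k`. -/
theorem finrank_HH0_eq_one_of_deg_one (L : X.Modules) (hL : PicF.IsInvertible L)
    (hdeg : Curv2.deg k X L 1 = 1) :
    Module.finrank k (Coh.HH X (Coh.structureModule X) 0) = 1 := by
  rw [FF.finrank_HH0_eq]
  obtain ⟨-, -, h3, -, -⟩ := Groth.Agent.H5.DegC.finrank_Γ_dvd_degrees k X
  have h4 := h3 1 L ((isInvertible_iff L).mp hL)
  rw [hdeg] at h4
  have h5 := Int.eq_one_of_dvd_one (Int.natCast_nonneg _) h4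
  exact_mod_cast h5

/-- generating sections from surjectivity of `H⁰(L) → H⁰(L/sO)`. -/
theorem exists_two_generating_sections_of_surjective (hdim : topologicalKrullDim X = 1)
    (L : X.Modules) (hL : PicF.IsInvertible L) (s : unitMod X ⟶ L) (hs : s ≠ 0)
    (hsurj : Function.Surjective (CL.HHmap k (cokernel.π s) 0)) :
    ∃ s : Fin 2 → ProjUP.Γm L, ProjUP.GeneratedBy L s := by
  haveI := Curve.isLocallyNoetherian k X
  haveI : IsNoetherian X := isNoetherian_of_proper k X
  haveI : L.IsQuasicoherent := qc_of_isInvertible L hL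
  have hsurjΓ : Function.Surjective ((cokernel.π s).app ⊤) := by
    intro q
    obtain ⟨x₂, hx₂⟩ := hsurj ((CL.HH0Equiv (cokernel s)).symm q)
    refine ⟨CL.HH0Equiv L x₂, ?_⟩
    rw [← CL.HH0Equiv_map (cokernel.π s) x₂]
    have h1' : CL.HHmapZ (cokernel.π s) 0 x₂ = CL.HHmap k (cokernel.π s) 0 x₂ := rfl
    rw [h1', hx₂, AddEquiv.apply_symm_apply]
  obtain ⟨t, ht⟩ := exists_section_generating_on_zeros hdim.le hL s hs hsurjΓ
  refine ⟨![sectionOfHom s, sectionOfHom t], ?_⟩
  apply Groth.Agent.H5.VAmple.generatedBy_of_forall_mem_genLocus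
  intro x
  by_cases hx : x ∈ CohB1.genLocus L s
  · exact ⟨0, by simpa [homOfSection_sectionOfHom] using hx⟩
  · exact ⟨1, by simpa [homOfSection_sectionOfHom] using ht x hx⟩

/-- **a proper integral curve with an invertible module of degree one having two independent
sections is the projective line.** -/
theorem exists_iso_P1_of_deg_one_of_two_le_h0 (hdim : topologicalKrullDim X = 1)
    (L : X.Modules) (hL : PicF.IsInvertible L) (hdeg : Curv2.deg k X L 1 = 1)
    (h2 : 2 ≤ Module.finrank k (Coh.HH X L 0)) :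
    ∃ e : X ≅ CohB1.ProjSpace 1 k,
      e.hom ≫ CohB1.ProjSpace.toSpec 1 k = X ↘ Spec (CommRingCat.of k) := by
  have h0 := finrank_HH0_eq_one_of_deg_one k X L hL hdeg
  have hnt : Nontrivial (Coh.HH X L 0) := Module.nontrivial_of_finrank_pos (R := k) (by omega)
  obtain ⟨s, hs⟩ := exists_section_ne_zero_of_nontrivial_H0 k X L hnt
  obtain ⟨hle, hsurj⟩ := finrank_H0_le_deg_add_one k X hdim.le h0 hL s hs
  rw [hdeg] at hle hsurj
  have heq : (Module.finrank k (Coh.HH X L 0) : ℤ) = 1 + 1 := by omega
  obtain ⟨σ, hσ⟩ := exists_two_generating_sections_of_surjective k X hdim L hL s hs (hsurj heq)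
  exact exists_iso_P1_of_two_sections k X hdim L hL hdeg σ hσ

end Groth.Agent.H5.Curve6
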