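import Mathlib
import Groth.Agent.Lib.Helper2.HiroA
import Groth.Agent.Lib.Helper5.Curve6.RP3
import Groth.Agent.Lib.Helper5.Curve6.PtSeq
import Groth.Agent.Lib.Helper5.Curve6.Gaps
import Groth.Agent.Lib.Helper5.DegC.Cartier
import Groth.Agent.Lib.Helper5.Curve6.P1Conv
import Groth.Agent.Lib.Lead.FF.H0Const

/-!
# Normal closed points of an integral proper curve: effective Cartier divisors of degree
`[κ(x) : k]`.
-/

set_option autoImplicit false
universe u
open CategoryTheory CategoryTheory.Limits AlgebraicGeometry TopologicalSpace Opposite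

namespace Groth.Agent.H5.Curve6

open Groth.Agent.LD Groth.Agent.LD.QC Groth.Agent.H5.Curve2 Groth.Agent.H5.Snap
  Groth.Agent.H5.DegC

/-- a Noetherian integrally closed local domain of dimension one is regular. -/
theorem isRegularLocalRing_of_isIntegrallyClosed (R : Type u) [CommRing R] [IsDomain R]
    [IsLocalRing R] [IsNoetherianRing R] [IsIntegrallyClosed R] (hdim : ringKrullDim R = 1) :
    IsRegularLocalRing R := by
  have hnf : ¬ IsField R := fun h => zero_ne_one ((ringKrullDim_eq_zero_of_isField h) ▸ hdim)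
  have h1 : Ring.KrullDimLE 1 R := Ring.krullDimLE_iff.mpr (by simp [hdim])
  have h2 : (IsLocalRing.maximalIdeal R).IsPrincipal := by
    have h3 : IsIntegrallyClosed R ∧ ∀ P : Ideal R, P ≠ ⊥ → P.IsPrime →
        P = IsLocalRing.maximalIdeal R :=
      ⟨inferInstance, fun P hP hP' => IsLocalRing.eq_maximalIdeal
        (Ring.krullDimLE_one_iff_of_noZeroDivisors.mp h1 P hP hP')⟩
    have h4 := (tfae_of_isNoetherianRing_of_isLocalRing_of_isDomain (R := R)).out 3 4
    exact h4.mp h3
  obtain ⟨π, hπ⟩ := h2
  have hπ' : IsLocalRing.maximalIdeal R = Ideal.span {π} := hπ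
  refine Groth.Agent.H2.Hiro.regular_of_principal π ?_ hπ'
  rw [mem_nonZeroDivisors_iff_ne_zero]
  rintro rfl
  apply hnf
  rw [IsLocalRing.isField_iff_maximalIdeal_eq, hπ']
  simp

section Ker

variable {X : Scheme.{u}}

/-- the kernel of `Spec κ(x) ⟶ X` is the ideal of the reduced closed subscheme `closure {x}`. -/
theorem ker_fromSpecResidueField (x : X) : (X.fromSpecResidueField x).ker = vI x := by
  rw [← Scheme.IdealSheafData.map_bot]
  have h1 : (⊥ : (Spec (X.residueField x)).IdealSheafData) =
      Scheme.IdealSheafData.vanishingIdeal ⊤ := by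
    rw [Scheme.IdealSheafData.vanishingIdeal_top, Scheme.nilradical_eq_bot]
  rw [h1, Scheme.IdealSheafData.map_vanishingIdeal]
  congr 1
  apply Closeds.ext
  simp only [Closeds.coe_closure, Closeds.coe_top, Set.image_univ,
    Scheme.range_fromSpecResidueField]
  rfl

lemma ΓSpecIso_fromSpecResidueField_appTop (x : X) :
    (X.fromSpecResidueField x).appTop ≫ (Scheme.ΓSpecIso (X.residueField x)).hom =
      X.Γevaluation x := by
  simp only [Scheme.fromSpecResidueField, Scheme.Hom.comp_appTop, Category.assoc,
    Scheme.ΓSpecIso_naturality, Scheme.fromSpecStalk_appTop]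
  simp
  rfl

end Ker

section Deg

attribute [local instance] Curv2.resAlgebra

variable (k : Type u) [Field k] (X : Scheme.{u}) [X.Over (Spec (CommRingCat.of k))]

/-- `h⁰(O_X / I_x) = [κ(x) : k]` for a closed point `x`. -/
theorem finrank_H0_quotMod_ker (x : X) (hx : IsClosed ({x} : Set X)) :
    Module.finrank k (Coh.HH X (ClSub.quotMod (X.fromSpecResidueField x).ker) 0) =
      Module.finrank k (X.residueField x) := by
  haveI : IsClosedImmersion (X.fromSpecResidueField x) :=
    isClosed_singleton_iff_isClosedImmersion.mp hx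
  letI oZ : (X.fromSpecResidueField x).ker.subscheme.Over (Spec (CommRingCat.of k)) :=
    overOf k (X.fromSpecResidueField x).ker.subschemeι
  haveI : (X.fromSpecResidueField x).ker.subschemeι.IsOver (Spec (CommRingCat.of k)) := ⟨rfl⟩
  obtain ⟨e⟩ := Groth.Agent.H5.Curve3.nonempty_HH_push_linearEquiv k
    (X.fromSpecResidueField x).ker.subschemeι
    (Coh.structureModule (X.fromSpecResidueField x).ker.subscheme) 0
  rw [e.finrank_eq]
  letI oK : (Spec (X.residueField x)).Over (Spec (CommRingCat.of k)) :=
    ⟨X.fromSpecResidueField x ≫ (X ↘ Spec (CommRingCat.of k))⟩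
  have ht : (X.fromSpecResidueField x).toImage ≫
      ((X.fromSpecResidueField x).ker.subscheme ↘ Spec (CommRingCat.of k)) =
      (Spec (X.residueField x) ↘ Spec (CommRingCat.of k)) := by
    change (X.fromSpecResidueField x).toImage ≫ (X.fromSpecResidueField x).imageι ≫ _ = _
    rw [Scheme.Hom.toImage_imageι_assoc]
    rfl
  rw [← finrank_HH_pullback_of_isIso k (X.fromSpecResidueField x).toImage ht _ 0,
    Curve2.finrank_HH_iso k _ (pbUnitIso (X.fromSpecResidueField x).toImage) 0]
  have h3 := FF.finrank_HH0_eq k (Spec (X.residueField x))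
  rw [show unitMod (Spec (X.residueField x)) = Coh.structureModule _ from rfl, h3]
  letI : Algebra k Γ(Spec (X.residueField x), ⊤) :=
    (Coh.toGlobal (Spec (X.residueField x) ↘ Spec (CommRingCat.of k))).toAlgebra
  let eR : Γ(Spec (X.residueField x), ⊤) ≃+* X.residueField x :=
    (Scheme.ΓSpecIso (X.residueField x)).commRingCatIsoToRingEquiv
  have hc : ∀ c : k, eR (algebraMap k Γ(Spec (X.residueField x), ⊤) c) =
      algebraMap k (X.residueField x) c := by
    intro c
    have h4 := congrArg (fun f => f.hom (Coh.toGlobal (X ↘ Spec (CommRingCat.of k)) c))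
      (ΓSpecIso_fromSpecResidueField_appTop x)
    exact h4
  let eL : Γ(Spec (X.residueField x), ⊤) ≃ₗ[k] X.residueField x :=
    { eR.toAddEquiv with
      map_smul' := fun c a => by
        change eR (c • a) = c • eR a
        rw [Algebra.smul_def, Algebra.smul_def, map_mul, hc] }
  exact eL.finrank_eq

end Deg

section Curve

variable (k : Type u) [Field k] (X : Scheme.{u}) [X.Over (Spec (CommRingCat.of k))]
  [IsProper (X ↘ Spec (CommRingCat.of k))] [IsIntegral X]

include k in
/-- a normal closed point of an integral proper curve is an effective Cartier divisor. -/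
theorem isEffCartierIdeal_vI_of_normal (hdim : topologicalKrullDim X = 1) (x : X)
    (hx : IsClosed ({x} : Set X)) (hn : IsIntegrallyClosed (X.presheaf.stalk x)) :
    BlowUp.IsEffCartierIdeal (vI x) := by
  haveI := Curve.isLocallyNoetherian k X
  have hne : x ≠ genericPoint X := by
    rintro rfl
    exact not_isClosed_singleton_genericPoint X hdim hx
  have h1 := Groth.Agent.H5.Curve1.ringKrullDim_stalk_eq_one hdim.le x hne
  have hreg := isRegularLocalRing_of_isIntegrallyClosed (X.presheaf.stalk x) h1
  have hD := isEffCartierIdeal_of_isRegularLocalRing hdim.le x hx hne hreg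
  have hvI : vI x = Scheme.IdealSheafData.vanishingIdeal ⟨{x}, hx⟩ :=
    congrArg Scheme.IdealSheafData.vanishingIdeal (Closeds.ext hx.closure_eq)
  rw [hvI]
  exact hD

attribute [local instance] Curv2.resAlgebra in
/-- a normal closed point `x` of an integral proper curve carries an invertible module
`O(x)` of degree `[κ(x) : k]`, with a section vanishing exactly at `x`. -/
theorem exists_invertible_of_normal_closed_point (hdim : topologicalKrullDim X = 1) (x : X)
    (hx : IsClosed ({x} : Set X)) (hn : IsIntegrallyClosed (X.presheaf.stalk x)) :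
    ∃ L : X.Modules, PicF.IsInvertible L ∧
      Curv2.deg k X L 1 = (Module.finrank k (X.residueField x) : ℤ) := by
  have hD := isEffCartierIdeal_vI_of_normal k X hdim x hx hn
  have hI : PicF.IsInvertible (ClSub.idealMod (vI x)) := (isInvertible_idealMod_iff (vI x)).mpr hD
  obtain ⟨L, hL, ⟨e⟩⟩ := Groth.Agent.H5.Glue.exists_inverse _ hI
  haveI : L.IsQuasicoherent := qc_of_isInvertible L hL
  refine ⟨L, hL, ?_⟩
  rw [deg_of_inverse_idealMod k hdim.le (vI x) hD L hL ⟨tensorComm _ _ ≪≫ e⟩]
  have h1 := finrank_H0_quotMod_ker k X x hx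
  rw [ker_fromSpecResidueField] at h1
  rw [h1]

/-- the degrees of invertible modules on an integral proper curve form a subgroup of `ℤ`. -/
noncomputable def degSubgroup (hdim : topologicalKrullDim X ≤ 1) : AddSubgroup ℤ where
  carrier := {d | ∃ L : X.Modules, PicF.IsInvertible L ∧ Curv2.deg k X L 1 = d}
  zero_mem' := ⟨unitMod X, isInvertible_unit X, Curve.deg_structureModule k X⟩
  add_mem' := by
    rintro a b ⟨L, hL, rfl⟩ ⟨M, hM, rfl⟩
    exact ⟨CohB1.tensorMod L M, isInvertible_tensorMod hL hM, deg_tensor k X hdim hL hM⟩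
  neg_mem' := by
    rintro a ⟨L, hL, rfl⟩
    obtain ⟨L', hL', ⟨e⟩⟩ := Groth.Agent.H5.Glue.exists_inverse _ hL
    refine ⟨L', hL', ?_⟩
    have h1 := deg_tensor k X hdim hL hL'
    rw [Curve.deg_iso k X e 1] at h1
    have h2 : Curv2.deg k X (unitMod X) 1 = 0 := Curve.deg_structureModule k X
    rw [h2] at h1
    linarith

attribute [local instance] Curv2.resAlgebra in
/-- **closed normal points whose degrees have gcd one give an invertible module of degree
one.** -/
theorem exists_invertible_deg_one_of_gcd (hdim : topologicalKrullDim X = 1) (s : Finset X)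
    (hcl : ∀ x ∈ s, IsClosed ({x} : Set X))
    (hn : ∀ x ∈ s, IsIntegrallyClosed (X.presheaf.stalk x))
    (hgcd : s.gcd (fun x => Module.finrank k (X.residueField x)) = 1) :
    ∃ L : X.Modules, PicF.IsInvertible L ∧ Curv2.deg k X L 1 = 1 := by
  obtain ⟨a, ha⟩ := Int.subgroup_cyclic (degSubgroup k X hdim.le)
  have hmem : ∀ x ∈ s, (Module.finrank k (X.residueField x) : ℤ) ∈ degSubgroup k X hdim.le :=
    fun x hxs => exists_invertible_of_normal_closed_point k X hdim x (hcl x hxs) (hn x hxs)
  have hdvd : a.natAbs ∣ s.gcd (fun x => Module.finrank k (X.residueField x)) := by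
    apply Finset.dvd_gcd
    intro x hxs
    have h1 := hmem x hxs
    rw [ha, AddSubgroup.mem_closure_singleton] at h1
    obtain ⟨c, hc⟩ := h1
    have h2 : a ∣ (Module.finrank k (X.residueField x) : ℤ) := ⟨c, by rw [← hc]; simp [mul_comm]⟩
    exact Int.natAbs_dvd_natAbs.mpr h2
  rw [hgcd, Nat.dvd_one] at hdvd
  have h1 : (1 : ℤ) ∈ degSubgroup k X hdim.le := by
    rw [ha, AddSubgroup.mem_closure_singleton]
    rcases Int.natAbs_eq a with h | h
    · exact ⟨1, by rw [h, hdvd]; simp⟩
    · exact ⟨-1, by rw [h, hdvd]; simp⟩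
  exact h1

end Curve

end Groth.Agent.H5.Curve6
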