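import Mathlib
import Groth.Agent.Lib.Helper5.Curve6.PtDeg
import Groth.Agent.Lib.Helper5.Curve6.P1Two
import Groth.Agent.Lib.Helper5.Glue.LS

/-!
# Two linearly equivalent rational points on a normal proper curve: the projective line.
-/

set_option autoImplicit false
universe u
open CategoryTheory CategoryTheory.Limits AlgebraicGeometry TopologicalSpace Opposite

namespace Groth.Agent.H5.Curve6

open Groth.Agent.LD Groth.Agent.LD.QC Groth.Agent.H5.Curve2 Groth.Agent.H5.Snap
  Groth.Agent.H5.DegC Groth.Agent.H5.Glue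

section General

variable {X : Scheme.{u}}

/-- the kernel of a morphism from a reduced scheme is the vanishing ideal of the closure of its
range. -/
theorem ker_eq_vanishingIdeal_of_isReduced {S : Scheme.{u}} [IsReduced S] (f : S ⟶ X) :
    f.ker = Scheme.IdealSheafData.vanishingIdeal (Closeds.closure (Set.range f)) := by
  rw [← Scheme.IdealSheafData.map_bot]
  have h1 : (⊥ : S.IdealSheafData) = Scheme.IdealSheafData.vanishingIdeal ⊤ := by
    rw [Scheme.IdealSheafData.vanishingIdeal_top, Scheme.nilradical_eq_bot]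
  rw [h1, Scheme.IdealSheafData.map_vanishingIdeal]
  congr 1
  apply Closeds.ext
  simp only [Closeds.coe_closure, Closeds.coe_top, Set.image_univ]

/-- a section of an invertible module generates where it is locally surjective. -/
theorem mem_genLocus_of_locSurjAt {L : X.Modules} (hL : PicF.IsInvertible L)
    (σ : unitMod X ⟶ L) (b : X) (h : LocSurjAt σ b) : b ∈ CohB1.genLocus L σ := by
  obtain ⟨U, e, hbU, he⟩ := (isInvertible_iff_exists_isBasisOver L).mp hL b
  obtain ⟨W, hW, hbW, g₀, hg₀⟩ := h U e hbU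
  have key : ∀ g : Γ(X, W), σ.app W g = L.presheaf.map (homOfLE hW).op e →
      b ∈ CohB1.genLocus L σ := by
    intro g hg
    have heW := he.mono hW
    obtain ⟨f, hf⟩ := heW.exists_coord (SecTwist.val σ W)
    have h1 : σ.app W g = g • SecTwist.val σ W := unitHom_app L σ W g
    have h2 : (g * f) • L.presheaf.map (homOfLE hW).op e =
        (1 : Γ(X, W)) • L.presheaf.map (homOfLE hW).op e := by
      rw [one_smul]
      exact (mul_smul g f (L.presheaf.map (homOfLE hW).op e)).trans
        ((congrArg (fun z => g • z) hf.symm).trans (h1.symm.trans hg))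
    have h3 := heW.coord_injective h2
    have hu : IsUnit f := IsUnit.of_mul_eq_one g (by rw [mul_comm]; exact h3)
    have h4 : IsBasisOver L W (SecTwist.val σ W) := by
      rw [hf]
      exact (heW.smul_iff f).mpr hu
    exact (le_genLocus_iff_isBasisOver L σ W).mpr h4 hbW
  exact key g₀ hg₀

/-- the inclusion of an ideal sheaf is locally surjective away from its support. -/
theorem locSurjAt_idealModι (D : X.IdealSheafData) (b : X) (hb : b ∉ D.support) :
    LocSurjAt (ClSub.idealModι D) b := by
  intro U₀ t hbU₀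
  obtain ⟨_, ⟨U, hU, rfl⟩, hbU, hUU₀⟩ :=
    X.isBasis_affineOpens.exists_subset_of_mem_open hbU₀ U₀.2
  have hUU₀' : U ≤ U₀ := hUU₀
  have h1 : b ∉ X.zeroLocus (U := U) (D.ideal ⟨U, hU⟩) := by
    rw [← Scheme.IdealSheafData.mem_support_iff_of_mem (U := ⟨U, hU⟩) hbU]
    exact hb
  rw [Scheme.mem_zeroLocus_iff] at h1
  push Not at h1
  obtain ⟨f, hfD, hbf⟩ := h1
  obtain ⟨tf, htf⟩ := (exists_idealModι_app_eq_iff D ⟨U, hU⟩ f).mpr hfD
  have hWU : X.basicOpen f ≤ U := X.basicOpen_le f
  have hu : IsUnit (X.presheaf.map (homOfLE hWU).op f) := by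
    have := X.toRingedSpace.isUnit_res_basicOpen f
    exact this
  obtain ⟨u, hu'⟩ := hu
  refine ⟨X.basicOpen f, hWU.trans hUU₀', hbf,
    (X.presheaf.map (homOfLE (hWU.trans hUU₀')).op t * (↑u⁻¹ : Γ(X, X.basicOpen f))) •
      (ClSub.idealMod D).presheaf.map (homOfLE hWU).op tf, ?_⟩
  rw [Scheme.Modules.Hom.app_smul, app_res, htf]
  change _ * (X.presheaf.map (homOfLE hWU).op f) = _
  rw [← hu', mul_assoc, Units.inv_mul, mul_one]
  rfl

end General

section Deg

variable (k : Type u) [Field k] (X : Scheme.{u}) [X.Over (Spec (CommRingCat.of k))]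

/-- `h⁰(O_X / I) = dim_k Γ(S, O_S)` for a closed immersion `j : S ⟶ X` with ideal `I`. -/
theorem finrank_H0_quotMod_ker_eq {S : Scheme.{u}} (j : S ⟶ X) [IsClosedImmersion j] :
    Module.finrank k (Coh.HH X (ClSub.quotMod j.ker) 0) =
      @Module.finrank k Γ(S, ⊤) _ _
        (Coh.toGlobal (j ≫ (X ↘ Spec (CommRingCat.of k)))).toAlgebra.toModule := by
  letI oZ : j.ker.subscheme.Over (Spec (CommRingCat.of k)) := overOf k j.ker.subschemeι
  haveI : j.ker.subschemeι.IsOver (Spec (CommRingCat.of k)) := ⟨rfl⟩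
  obtain ⟨e⟩ := Groth.Agent.H5.Curve3.nonempty_HH_push_linearEquiv k j.ker.subschemeι
    (Coh.structureModule j.ker.subscheme) 0
  rw [e.finrank_eq]
  letI oK : S.Over (Spec (CommRingCat.of k)) := ⟨j ≫ (X ↘ Spec (CommRingCat.of k))⟩
  have ht : j.toImage ≫ (j.ker.subscheme ↘ Spec (CommRingCat.of k)) =
      (S ↘ Spec (CommRingCat.of k)) := by
    change j.toImage ≫ j.imageι ≫ _ = _
    rw [Scheme.Hom.toImage_imageι_assoc]
    rfl
  rw [← finrank_HH_pullback_of_isIso k j.toImage ht _ 0,
    Curve2.finrank_HH_iso k _ (pbUnitIso j.toImage) 0]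
  exact FF.finrank_HH0_eq k S

/-- `h⁰(O_X / I_x) = 1` for a rational point `x`. -/
theorem finrank_H0_quotMod_ker_of_rational (x : Spec (CommRingCat.of k) ⟶ X)
    (hx : x ≫ (X ↘ Spec (CommRingCat.of k)) = 𝟙 _) :
    Module.finrank k (Coh.HH X (ClSub.quotMod x.ker) 0) = 1 := by
  haveI : IsClosedImmersion x := isClosedImmersion_of_comp_eq_id _ x hx
  rw [finrank_H0_quotMod_ker_eq k X x, hx]
  letI : Algebra k Γ(Spec (CommRingCat.of k), ⊤) :=
    (Coh.toGlobal (𝟙 (Spec (CommRingCat.of k)))).toAlgebra
  have hbij : Function.Bijective (algebraMap k Γ(Spec (CommRingCat.of k), ⊤)) := by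
    have h1 : ⇑(algebraMap k Γ(Spec (CommRingCat.of k), ⊤)) =
        ⇑(Scheme.ΓSpecIso (CommRingCat.of k)).inv.hom := by
      funext c
      change (Coh.toGlobal (𝟙 (Spec (CommRingCat.of k)))) c = _
      simp [Coh.toGlobal]
      rfl
    rw [h1]
    exact (ConcreteCategory.isIso_iff_bijective (Scheme.ΓSpecIso (CommRingCat.of k)).inv).mp
      inferInstance
  exact (LinearEquiv.ofBijective (Algebra.linearMap k Γ(Spec (CommRingCat.of k), ⊤))
    hbij).finrank_eq.symm.trans (Module.finrank_self k)

end Deg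

section Main

variable (k : Type u) [Field k] (X : Scheme.{u}) [X.Over (Spec (CommRingCat.of k))]
  [IsProper (X ↘ Spec (CommRingCat.of k))] [IsIntegral X]

omit [IsProper (X ↘ Spec (CommRingCat.of k))] [IsIntegral X] in
lemma ker_eq_vI_of_rational (x : Spec (CommRingCat.of k) ⟶ X) :
    x.ker = vI (x default) := by
  rw [ker_eq_vanishingIdeal_of_isReduced]
  congr 1
  apply Closeds.ext
  simp only [Closeds.coe_closure, Set.range_unique]
  rfl

/-- **two distinct linearly equivalent rational points, one of them normal, on a proper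
integral curve: the curve is the projective line.** -/
theorem exists_iso_P1_of_two_rational_points (hdim : topologicalKrullDim X = 1)
    (x y : Spec (CommRingCat.of k) ⟶ X)
    (hx : x ≫ (X ↘ Spec (CommRingCat.of k)) = 𝟙 _)
    (hy : y ≫ (X ↘ Spec (CommRingCat.of k)) = 𝟙 _) (hxy : x ≠ y)
    (hnx : IsIntegrallyClosed (X.presheaf.stalk (x default)))
    (hlin : Nonempty (ClSub.idealMod x.ker ≅ ClSub.idealMod y.ker)) :
    ∃ e : X ≅ CohB1.ProjSpace 1 k,
      e.hom ≫ CohB1.ProjSpace.toSpec 1 k = X ↘ Spec (CommRingCat.of k) := by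
  haveI : IsClosedImmersion x := isClosedImmersion_of_comp_eq_id _ x hx
  haveI : IsClosedImmersion y := isClosedImmersion_of_comp_eq_id _ y hy
  have hxa := ker_eq_vI_of_rational k X x
  have hyb := ker_eq_vI_of_rational k X y
  have hrx : Set.range x = {x default} := Set.range_unique
  have hry : Set.range y = {y default} := Set.range_unique
  have hclx : IsClosed ({x default} : Set X) := hrx ▸ x.isClosedEmbedding.isClosed_range
  have hcly : IsClosed ({y default} : Set X) := hry ▸ y.isClosedEmbedding.isClosed_range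
  have hD : BlowUp.IsEffCartierIdeal x.ker := by
    rw [hxa]; exact isEffCartierIdeal_vI_of_normal k X hdim _ hclx hnx
  have hI : PicF.IsInvertible (ClSub.idealMod x.ker) := (isInvertible_idealMod_iff _).mpr hD
  obtain ⟨L, hL, ⟨e⟩⟩ := Groth.Agent.H5.Glue.exists_inverse _ hI
  haveI : L.IsQuasicoherent := qc_of_isInvertible L hL
  have hdeg : Curv2.deg k X L 1 = 1 := by
    rw [deg_of_inverse_idealMod k hdim.le x.ker hD L hL ⟨tensorComm _ _ ≪≫ e⟩,
      finrank_H0_quotMod_ker_of_rational k X x hx]
    rfl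
  obtain ⟨φ⟩ := hlin
  -- the two points are distinct
  have hab : x default ≠ y default := by
    intro hab
    have hker : y.ker ≤ x.ker := by rw [hxa, hyb, hab]
    have hl := IsClosedImmersion.lift_fac y x hker
    have h1 : IsClosedImmersion.lift y x hker = 𝟙 _ := by
      have h2 := congrArg (fun f => f ≫ (X ↘ Spec (CommRingCat.of k))) hl
      simp only [Category.assoc, hy, hx, Category.comp_id] at h2
      exact h2
    rw [h1, Category.id_comp] at hl
    exact hxy hl.symm
  -- supports
  have hsx : ∀ b : X, b ≠ x default → b ∉ x.ker.support := by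
    intro b hb hmem
    have h1 : b ∈ (x.ker.support : Set X) := hmem
    rw [Scheme.Hom.support_ker, hrx, hclx.closure_eq] at h1
    exact hb h1
  have hsy : ∀ b : X, b ≠ y default → b ∉ y.ker.support := by
    intro b hb hmem
    have h1 : b ∈ (y.ker.support : Set X) := hmem
    rw [Scheme.Hom.support_ker, hry, hcly.closure_eq] at h1
    exact hb h1
  -- the two sections
  let σx : unitMod X ⟶ L :=
    e.inv ≫ KoszTw.tensorMap (ClSub.idealModι x.ker) (𝟙 L) ≫ (unitorL L).hom
  let σy : unitMod X ⟶ L :=
    e.inv ≫ KoszTw.tensorMap (φ.hom ≫ ClSub.idealModι y.ker) (𝟙 L) ≫ (unitorL L).hom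
  have hgx : ∀ b : X, b ≠ x default → b ∈ CohB1.genLocus L σx := by
    intro b hb
    apply mem_genLocus_of_locSurjAt hL
    exact (locSurjAt_of_epi e.inv b).comp
      (((locSurjAt_idealModι x.ker b (hsx b hb)).tensorMap L hL).comp
        (locSurjAt_of_epi (unitorL L).hom b))
  have hgy : ∀ b : X, b ≠ y default → b ∈ CohB1.genLocus L σy := by
    intro b hb
    apply mem_genLocus_of_locSurjAt hL
    exact (locSurjAt_of_epi e.inv b).comp
      ((((locSurjAt_of_epi φ.hom b).comp
        (locSurjAt_idealModι y.ker b (hsy b hb))).tensorMap L hL).comp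
        (locSurjAt_of_epi (unitorL L).hom b))
  have hgen : ProjUP.GeneratedBy L ![sectionOfHom σx, sectionOfHom σy] := by
    apply Groth.Agent.H5.VAmple.generatedBy_of_forall_mem_genLocus
    intro b
    by_cases hb : b = x default
    · refine ⟨1, ?_⟩
      have : b ≠ y default := fun h => hab (hb.symm.trans h)
      simpa [homOfSection_sectionOfHom] using hgy b this
    · exact ⟨0, by simpa [homOfSection_sectionOfHom] using hgx b hb⟩
  exact exists_iso_P1_of_two_sections k X hdim L hL hdeg _ hgen

end Main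

end Groth.Agent.H5.Curve6
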