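import Mathlib
import Groth.Agent.Lib.Helper5.Curve6.Ell1
import Groth.Agent.Lib.Helper5.Curve6.Cliff
import Groth.Agent.Lib.Helper5.Eig.Genus1
import Groth.Agent.Lib.Helper5.Eig.RegSm
import Groth.Agent.Lib.Lead.PF.ProjFinite
import Groth.Prelude.Def_LinSer

/-!
# Linear series and the base point free pencil trick for a `g¹₂`.
-/

set_option autoImplicit false
universe u
open CategoryTheory CategoryTheory.Limits AlgebraicGeometry TopologicalSpace Opposite

namespace Groth.Agent.H5.Curve6

open Groth.Agent.LD Groth.Agent.LD.QC Groth.Agent.H5.Curve2 Groth.Agent.H5.Curve4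
open Groth.Agent.H5.DegC Groth.Agent.H5.Snap Groth.Agent.H5.IntN Groth.Agent.H5.Glue

section linser

variable (k : Type u) [Field k] {X : Scheme.{u}} [X.Over (Spec (CommRingCat.of k))]

/-- linearly independent global sections bound `h⁰` from below. -/
theorem le_finrank_H0_of_linIndep (G : X.Modules) [Module.Finite k (Coh.HH X G 0)] {n : ℕ}
    (s : Fin n → LinSer.Sect X G) (hs : LinSer.LinIndep k X G s) :
    n ≤ Module.finrank k (Coh.HH X G 0) := by
  letI := PF.moduleΓ k G
  have h1 : LinearIndependent k s := by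
    rw [Fintype.linearIndependent_iff]
    intro c hc i
    exact congrFun (hs c hc) i
  have h2 := (h1.map' (PF.H0LinearEquivΓ k G).symm.toLinearMap
    (LinearMap.ker_eq_bot.mpr (PF.H0LinearEquivΓ k G).symm.injective)).fintype_card_le_finrank
  rw [Fintype.card_fin] at h2
  exact h2

/-- linear independence can be tested after applying a morphism of modules. -/
theorem linIndep_of_app_top {J M : X.Modules} (ι : J ⟶ M) {n : ℕ} (t : Fin n → LinSer.Sect X J)
    (h : LinSer.LinIndep k X M (fun i => ι.app ⊤ (t i))) : LinSer.LinIndep k X J t := by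
  intro c hc
  apply h c
  have h1 : ι.app ⊤ (∑ i, (Coh.toGlobal (X ↘ Spec (CommRingCat.of k)) (c i)) • t i) = 0 :=
    (congrArg (fun x => ι.app ⊤ x) hc).trans (map_zero (ι.app ⊤).hom)
  refine Eq.trans ?_ h1
  refine Eq.trans ?_ (map_sum (ι.app ⊤).hom _ _).symm
  refine Finset.sum_congr rfl (fun i _ => ?_)
  exact (Scheme.Modules.Hom.app_smul ι _ (t i)).symm

end linser

section pencil

variable (k : Type u) [Field k] (X : Scheme.{u}) [X.Over (Spec (CommRingCat.of k))]
  [IsProper (X ↘ Spec (CommRingCat.of k))] [IsIntegral X]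

/-- the free module of rank `n` has rank `n`. -/
theorem isFinLocFreeOfRank_freeMod (n : ℕ) : FlatMod.IsFinLocFreeOfRank n (FlatMod.freeMod X n) :=
  fun _ => ⟨⊤, trivial, ⟨restrictFreeModIso (⊤ : X.Opens).ι n⟩⟩

/-- **base point free pencil trick** for a pencil of degree two on a curve of positive genus:
the two sections generate `M`, and the kernel `K` of `O² → M` is invertible of degree `-2` with
`2 h⁰(N) ≤ h⁰(N ⊗ K) + h⁰(N ⊗ M)` for every invertible `N`. -/
theorem pencil_trick [IsAlgClosed k] (hdim : topologicalKrullDim X = 1)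
    (hreg : ∀ x : X, IsRegularLocalRing (X.presheaf.stalk x)) (hg : Curv2.genus k X ≠ 0)
    (M : X.Modules) (hM : PicF.IsInvertible M) (hdeg : Curv2.deg k X M 1 = 2)
    (s : Fin 2 → LinSer.Sect X M) (hs : LinSer.LinIndep k X M s) :
    ∃ K : X.Modules, PicF.IsInvertible K ∧ Curv2.deg k X K 1 = -2 ∧
      ∀ N : X.Modules, PicF.IsInvertible N →
        2 * Module.finrank k (Coh.HH X N 0) ≤
          Module.finrank k (Coh.HH X (CohB1.tensorMod N K) 0) +
            Module.finrank k (Coh.HH X (CohB1.tensorMod N M) 0) := by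
  haveI := Curve.isLocallyNoetherian k X
  haveI : Smooth (X ↘ Spec (CommRingCat.of k)) :=
    Groth.Agent.H5.Eig.smooth_of_regular k X _ hreg
  haveI : Nonempty X := nonempty_of_dim_eq_one X hdim
  have hM1 : FlatMod.IsFinLocFreeOfRank 1 M := (isInvertible_iff M).mp hM
  have hF2 := isFinLocFreeOfRank_freeMod X 2
  have hMc := Curve2.isCoh_of_isInvertible hM
  have h0 : Module.finrank k (Coh.HH X (Coh.structureModule X) 0) = 1 :=
    Groth.Agent.H5.Curve3.finrank_HH0_eq_one_of_isAlgClosed k X
  let φ : FlatMod.freeMod X 2 ⟶ M := homOfSections M s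
  obtain ⟨a, b, hab, hKa, hJb, hdegs⟩ := kernel_image_facts k X hdim.le 2 1 hF2 hM1 φ
  let p := Abelian.coimage.π φ
  let ι := Abelian.factorThruCoimage φ
  have hfac : p ≫ ι = φ := Abelian.coimage.fac φ
  have hJc := Curve.isCoh_of_rank hJb
  haveI : Module.Finite k (Coh.HH X (Abelian.coimage φ) 0) := Curve.finite_HH k X _ hJc 0
  -- `h⁰(J) ≥ 2`
  have hst : (fun i => ι.app ⊤ (sectionsOfHom p i)) = s := by
    rw [← sectionsOfHom_comp, hfac]
    exact sectionsOfHom_homOfSections M s
  have hJ2 : 2 ≤ Module.finrank k (Coh.HH X (Abelian.coimage φ) 0) :=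
    le_finrank_H0_of_linIndep k _ (sectionsOfHom p)
      (linIndep_of_app_top k ι _ (hst ▸ hs))
  -- ranks
  have hb1 : b ≤ 1 := rank_le_of_mono X ι b 1 hJb hM1
  have hb0 : b ≠ 0 := by
    rintro rfl
    have hz := isZero_of_rank_zero hJb
    haveI : Subsingleton (Coh.HH X (Abelian.coimage φ) 0) :=
      CL.subsingleton_HH_of_isZero hz 0
    have := Module.finrank_zero_of_subsingleton (R := k) (M := Coh.HH X (Abelian.coimage φ) 0)
    omega
  have hb : b = 1 := by omega
  have ha : a = 1 := by omega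
  subst hb ha
  have hJ : PicF.IsInvertible (Abelian.coimage φ) := (isInvertible_iff _).mpr hJb
  have hK : PicF.IsInvertible (kernel φ) := (isInvertible_iff _).mpr hKa
  -- degree of `J`
  have hnt : Nontrivial (Coh.HH X (Abelian.coimage φ) 0) :=
    Module.nontrivial_of_finrank_pos (R := k) (by omega)
  obtain ⟨τ, hτ⟩ := exists_section_ne_zero_of_nontrivial_H0 k X _ hnt
  have hle1 := (finrank_H0_le_deg_add_one k X hdim.le h0 hJ τ hτ).1
  have hle2 := Groth.Agent.H5.Eig.finrank_H0_le_deg_of_genus_pos k X hdim.le h0 hg hJ (by omega)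
  obtain ⟨hle3, hiso⟩ := Curve.deg_le_of_mono k X hdim.le 1 hJb hM1 ι
  haveI : IsIso ι := hiso (by omega)
  haveI : Epi φ := by
    rw [← hfac]
    infer_instance
  have hdF : Curv2.deg k X (FlatMod.freeMod X 2) 2 = 0 := by
    unfold Curv2.deg
    rw [(FinDecomp.ofFreeData (FreeData.free X 2)).euler_eq k]
    push_cast
    ring
  refine ⟨kernel φ, hK, by omega, ?_⟩
  intro N hN
  have hN1 : FlatMod.IsFinLocFreeOfRank 1 N := (isInvertible_iff N).mp hN
  haveI : PreservesFiniteLimits (LT N) :=
    preservesFiniteLimits_LT N (Curve.isFinLocFree_of_rank hN1)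
  let S : ShortComplex X.Modules := ShortComplex.mk (kernel.ι φ) φ (kernel.condition φ)
  have hS : S.ShortExact :=
    { exact := ShortComplex.exact_kernel φ
      mono_f := inferInstanceAs (Mono (kernel.ι φ))
      epi_g := inferInstanceAs (Epi φ) }
  have hS' := hS.map_of_exact (LT N)
  have hNc := Curve2.isCoh_of_isInvertible hN
  have hFc := Curve.isCoh_of_rank hF2
  have h2 : Coh.IsCoh (CohB1.tensorMod N (FlatMod.freeMod X 2)) := isCoh_tensorMod' hNc hFc
  have h3 : Coh.IsCoh (CohB1.tensorMod N M) := isCoh_tensorMod' hNc hMc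
  have hle := finrank_H0_le k X hS' h2 h3
  have hd := (FinDecomp.tensor (FreeData.free X 2) N).finrank_HH k 0
  change Module.finrank k (Coh.HH X (CohB1.tensorMod N (FlatMod.freeMod X 2)) 0) ≤
    Module.finrank k (Coh.HH X (CohB1.tensorMod N (kernel φ)) 0) +
      Module.finrank k (Coh.HH X (CohB1.tensorMod N M) 0) at hle
  omega

end pencil

end Groth.Agent.H5.Curve6
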