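import Mathlib
import Groth.Agent.H4.Dim2

/-!
# Dimension under integral (e.g. algebraic field extension) base change.
-/

set_option autoImplicit false
universe u
open CategoryTheory CategoryTheory.Limits AlgebraicGeometry TopologicalSpace Opposite

namespace Groth.Agent.H5.Curve6

/-- an integral morphism does not raise the dimension. -/
theorem topologicalKrullDim_le_of_isIntegralHom' {X' X : Scheme.{u}} (g : X' ⟶ X)
    [IsIntegralHom g] : topologicalKrullDim X' ≤ topologicalKrullDim X := by
  have h1 : topologicalKrullDim X' ≤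
      ⨆ U : X.affineOpens, topologicalKrullDim ↥(g ⁻¹ᵁ U.1) := by
    refine Groth.Agent.H4.Spec.topologicalKrullDim_le_iSup_of_generalizingMap
      (fun U : X.affineOpens => (Subtype.val : ↥(g ⁻¹ᵁ U.1) → X'))
      (fun U => continuous_subtype_val)
      (fun U => (g ⁻¹ᵁ U.1).isOpenEmbedding'.generalizingMap) ?_
    intro y
    obtain ⟨U, hU, hyU, -⟩ := exists_isAffineOpen_mem_and_subset (x := g y) (U := ⊤) trivial
    exact ⟨⟨U, hU⟩, ⟨y, hyU⟩, rfl⟩
  refine h1.trans (iSup_le fun U => ?_)
  haveI : IsAffine U.1.toScheme := U.2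
  haveI : IsAffine (g ⁻¹ᵁ U.1).toScheme := (U.2.preimage g)
  have h2 : topologicalKrullDim ↥(g ⁻¹ᵁ U.1) ≤ topologicalKrullDim ↥U.1 :=
    Groth.Agent.H4.SchDim.topologicalKrullDim_le_of_isIntegralHom (g ∣_ U.1)
  exact h2.trans (topologicalKrullDim_subspace_le X _)

/-- a flat surjective integral morphism preserves the dimension. -/
theorem topologicalKrullDim_eq_of_integral_flat_surjective {X' X : Scheme.{u}} (g : X' ⟶ X)
    [IsIntegralHom g] [Flat g] [Surjective g] :
    topologicalKrullDim X' = topologicalKrullDim X :=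
  le_antisymm (topologicalKrullDim_le_of_isIntegralHom' g)
    (Groth.Agent.H4.Spec.topologicalKrullDim_le_of_generalizingMap g.continuous g.surjective
      (Flat.generalizingMap g))

end Groth.Agent.H5.Curve6
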