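import Mathlib
import Groth.Agent.Lib.Helper5.Curve6.Rat
import Groth.Agent.Lib.Helper5.Curve6.P1H1
import Groth.Agent.Lib.Helper1.BCStalkRed
import Groth.Agent.Lib.Helper1.SmoothReg2
import Groth.Agent.Lib.Helper9.Misc.SCP2

/-!
# Genus zero geometrically integral curves over a separably closed field.
-/

set_option autoImplicit false
universe u
open CategoryTheory CategoryTheory.Limits AlgebraicGeometry TopologicalSpace Opposite

namespace Groth.Agent.H5.Curve6

open Groth.Agent.LD Groth.Agent.LD.QC Groth.Agent.H5.Curve2 Groth.Agent.H5.Snap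
  Groth.Agent.H5.DegC Groth.Agent.H5.Glue

section

variable (k : Type u) [Field k] (X : Scheme.{u}) [X.Over (Spec (CommRingCat.of k))]

attribute [local instance] Curv2.resAlgebra Curv2.stalkAlgebra

/-- the generic point of a geometrically reduced integral scheme locally of finite type over a
field is a smooth point. -/
theorem genericPoint_mem_smoothLocus [IsIntegral X]
    [LocallyOfFinitePresentation (X ↘ Spec (CommRingCat.of k))]
    [GeometricallyReduced (X ↘ Spec (CommRingCat.of k))] :
    genericPoint X ∈ (X ↘ Spec (CommRingCat.of k)).smoothLocus := by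
  set ξ := genericPoint X with hξ
  have hF : IsField (X.presheaf.stalk ξ) := Field.toIsField X.functionField
  have hreg : IsRegularLocalRing (X.presheaf.stalk ξ) := by
    letI : Field (X.presheaf.stalk ξ) := hF.toField
    infer_instance
  have hgrs : Algebra.IsGeometricallyReduced k (X.presheaf.stalk ξ) :=
    (Groth.Agent.H1.BCStalk.s1541 k X ξ).mp
      ((Groth.Agent.H1.BCStalk.geometricallyReduced_iff_forall k X).mp inferInstance ξ)
  have hbij := bijective_residue_of_isField ξ hF
  let e : X.presheaf.stalk ξ ≃+* X.residueField ξ := RingEquiv.ofBijective _ hbij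
  let φ : X.residueField ξ →ₐ[k] X.presheaf.stalk ξ :=
    { toRingHom := e.symm.toRingHom
      commutes' := fun c => by
        change e.symm (e (Curv2.stalkMap k X ξ c)) = Curv2.stalkMap k X ξ c
        exact e.symm_apply_apply _ }
  have hgr : Algebra.IsGeometricallyReduced k (X.residueField ξ) :=
    Algebra.IsGeometricallyReduced.of_injective φ e.symm.injective
  exact Groth.Agent.H1.SmoothReg.mem_smoothLocus_of_isRegularLocalRing_of_geomRed k _ ξ hreg hgr

end

section Main

variable (k : Type u) [Field k] (X : Scheme.{u}) [X.Over (Spec (CommRingCat.of k))]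
  [IsProper (X ↘ Spec (CommRingCat.of k))]

/-- a regular rational point of a proper integral curve carries an invertible module of degree
one. -/
theorem exists_invertible_deg_one_of_regular_rational_point [IsIntegral X]
    (hdim : topologicalKrullDim X = 1) (x : Spec (CommRingCat.of k) ⟶ X)
    (hx : x ≫ (X ↘ Spec (CommRingCat.of k)) = 𝟙 _)
    (hreg : IsRegularLocalRing (X.presheaf.stalk (x default))) :
    ∃ L : X.Modules, PicF.IsInvertible L ∧ Curv2.deg k X L 1 = 1 := by
  haveI := Curve.isLocallyNoetherian k X
  haveI : IsClosedImmersion x := isClosedImmersion_of_comp_eq_id _ x hx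
  have hxa := ker_eq_vI_of_rational k X x
  have hrx : Set.range x = {x default} := Set.range_unique
  have hclx : IsClosed ({x default} : Set X) := hrx ▸ x.isClosedEmbedding.isClosed_range
  have hne : x default ≠ genericPoint X := by
    intro h
    exact not_isClosed_singleton_genericPoint X hdim (h ▸ hclx)
  have hD : BlowUp.IsEffCartierIdeal x.ker := by
    rw [hxa]
    have hvI : vI (x default) = Scheme.IdealSheafData.vanishingIdeal ⟨{x default}, hclx⟩ :=
      congrArg Scheme.IdealSheafData.vanishingIdeal (Closeds.ext hclx.closure_eq)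
    rw [hvI]
    exact isEffCartierIdeal_of_isRegularLocalRing hdim.le _ hclx hne hreg
  have hI : PicF.IsInvertible (ClSub.idealMod x.ker) := (isInvertible_idealMod_iff _).mpr hD
  obtain ⟨L, hL, ⟨e⟩⟩ := Groth.Agent.H5.Glue.exists_inverse _ hI
  haveI : L.IsQuasicoherent := qc_of_isInvertible L hL
  refine ⟨L, hL, ?_⟩
  rw [deg_of_inverse_idealMod k hdim.le x.ker hD L hL ⟨tensorComm _ _ ≪≫ e⟩,
    finrank_H0_quotMod_ker_of_rational k X x hx]
  rfl

/-- **a geometrically integral proper curve of genus zero over a separably closed field is the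
projective line.** -/
theorem exists_iso_P1_of_geomIntegral_genus_zero [IsSepClosed k]
    [GeometricallyIntegral (X ↘ Spec (CommRingCat.of k))]
    (hdim : topologicalKrullDim X = 1) (hg : Curv2.genus k X = 0) :
    ∃ e : X ≅ CohB1.ProjSpace 1 k,
      e.hom ≫ CohB1.ProjSpace.toSpec 1 k = X ↘ Spec (CommRingCat.of k) := by
  haveI : Subsingleton ↥(Spec (CommRingCat.of k)) :=
    inferInstanceAs (Subsingleton (PrimeSpectrum k))
  haveI : IsIntegral X :=
    GeometricallyIntegral.isIntegral_of_subsingleton (X ↘ Spec (CommRingCat.of k))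
  haveI := Curve.isLocallyNoetherian k X
  haveI : LocallyOfFinitePresentation (X ↘ Spec (CommRingCat.of k)) :=
    LocallyOfFinitePresentation.iff_locallyOfFiniteType.mpr inferInstance
  let U : X.Opens := (X ↘ Spec (CommRingCat.of k)).smoothLocus
  have hξ : genericPoint X ∈ U := genericPoint_mem_smoothLocus k X
  haveI : Nonempty U := ⟨⟨_, hξ⟩⟩
  haveI : Smooth (U.ι ≫ (X ↘ Spec (CommRingCat.of k))) := by
    rw [← Scheme.Hom.smoothLocus_eq_top_iff, ← Scheme.Hom.preimage_smoothLocus_eq]
    ext z
    simp only [Scheme.Hom.mem_preimage, Opens.coe_top, Set.mem_univ, iff_true,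
      SetLike.mem_coe]
    exact z.2
  obtain ⟨s, hs⟩ := Groth.Agent.H9.SCP.exists_section_of_smooth k
    (U.ι ≫ (X ↘ Spec (CommRingCat.of k)))
  let x : Spec (CommRingCat.of k) ⟶ X := s ≫ U.ι
  have hx : x ≫ (X ↘ Spec (CommRingCat.of k)) = 𝟙 _ := by
    rw [Category.assoc]; exact hs
  have ha : x default ∈ (X ↘ Spec (CommRingCat.of k)).smoothLocus := by
    change U.ι (s default) ∈ U
    exact (s default).2
  have hreg := Groth.Agent.H1.SmoothReg.isRegularLocalRing_of_mem_smoothLocus k
    (X ↘ Spec (CommRingCat.of k)) (x default) ha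
  obtain ⟨L, hL, hdeg⟩ := exists_invertible_deg_one_of_regular_rational_point k X hdim x hx hreg
  have h1 : Subsingleton (Coh.HH X (Coh.structureModule X) 1) := by
    haveI : Module.Finite k (Coh.HH X (Coh.structureModule X) 1) :=
      Curve.finite_HH k X _ (PF.isCoh_unitMod X) 1
    exact Module.finrank_zero_iff.mp hg
  exact exists_iso_P1_of_h1_zero_of_deg_one k X hdim h1 L hL hdeg

end Main

end Groth.Agent.H5.Curve6
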