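import Mathlib
import Groth.Agent.Lib.Helper5.Curve6.SepCl
import Groth.Agent.Lib.Helper5.Curve6.DimBC
import Groth.Agent.Lib.Lead.FBC.FieldBC
import Groth.Agent.Lib.Lead.FF.H0Const
import Groth.Agent.H4.ProjSmooth
import Groth.Agent.Lib.Helper5.AG.ProjSection

/-!
# Geometrically integral curves of arithmetic genus `≤ 0` are smooth conics.
-/

set_option autoImplicit false
universe u
open CategoryTheory CategoryTheory.Limits AlgebraicGeometry TopologicalSpace Opposite

namespace Groth.Agent.H5.Curve6

open Groth.Agent.LD Groth.Agent.LD.QC Groth.Agent.H5.Curve2 Groth.Agent.H5.Snap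
  Groth.Agent.H5.DegC Groth.Agent.H5.Glue

variable (k : Type u) [Field k] (X : Scheme.{u}) [X.Over (Spec (CommRingCat.of k))]
  [IsProper (X ↘ Spec (CommRingCat.of k))]
  [GeometricallyIntegral (X ↘ Spec (CommRingCat.of k))]

/-- a geometrically integral proper curve with `H¹(O) = 0` is smooth. -/
theorem smooth_of_geomIntegral_genus_zero (hdim : topologicalKrullDim X = 1)
    (hg : Curv2.genus k X = 0) : Smooth (X ↘ Spec (CommRingCat.of k)) := by
  let Ω := SeparableClosure k
  let g : Spec (CommRingCat.of Ω) ⟶ Spec (CommRingCat.of k) :=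
    Spec.map (CommRingCat.ofHom (algebraMap k Ω))
  haveI : CompactSpace X := Curve.compactSpace k X
  haveI : QuasiSeparatedSpace X := Curve.quasiSeparatedSpace k X
  haveI : IsIntegralHom g := by
    rw [IsIntegralHom.SpecMap_iff]
    exact algebraMap_isIntegral_iff.mpr inferInstance
  haveI : Flat g := inferInstance
  haveI : Surjective g := inferInstance
  apply MorphismProperty.of_pullback_snd_of_descendsAlong
    (Q := @Surjective ⊓ @Flat ⊓ @QuasiCompact) (g := g)
  · exact ⟨⟨inferInstance, inferInstance⟩, inferInstance⟩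
  · let X' := pullback (X ↘ Spec (CommRingCat.of k)) g
    letI : X'.Over (Spec (CommRingCat.of Ω)) := ⟨pullback.snd _ _⟩
    haveI : IsProper (X' ↘ Spec (CommRingCat.of Ω)) :=
      inferInstanceAs (IsProper (pullback.snd (X ↘ Spec (CommRingCat.of k)) g))
    haveI : GeometricallyIntegral (X' ↘ Spec (CommRingCat.of Ω)) :=
      inferInstanceAs (GeometricallyIntegral (pullback.snd (X ↘ Spec (CommRingCat.of k)) g))
    have hdim' : topologicalKrullDim X' = 1 :=
      (topologicalKrullDim_eq_of_integral_flat_surjective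
        (pullback.fst (X ↘ Spec (CommRingCat.of k)) g)).trans hdim
    have hg' : Curv2.genus Ω X' = 0 := by
      unfold Curv2.genus
      rw [FBC.finrank_HH_unit_bc k Ω X X' (pullback.fst _ _) (IsPullback.of_hasPullback _ _) 1]
      exact hg
    obtain ⟨e, he⟩ := exists_iso_P1_of_geomIntegral_genus_zero Ω X' hdim' hg'
    haveI := Groth.Agent.H4.ProjSmooth.smooth_toSpec 1 Ω
    change Smooth (X' ↘ Spec (CommRingCat.of Ω))
    rw [← he]
    infer_instance

/-- **S11575**: a geometrically integral proper curve with `χ(O) ≥ 1` is smooth, and it is the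
projective line iff it has a rational point. -/
theorem smooth_and_iso_P1_iff_ratPoint (hdim : topologicalKrullDim X = 1)
    (hpa : 1 - Curv2.euler k X (Coh.structureModule X) ≤ 0) :
    Smooth (X ↘ Spec (CommRingCat.of k)) ∧
      ((∃ e : X ≅ CohB1.ProjSpace 1 k,
          e.hom ≫ CohB1.ProjSpace.toSpec 1 k = X ↘ Spec (CommRingCat.of k)) ↔
        ∃ s : Spec (CommRingCat.of k) ⟶ X, s ≫ (X ↘ Spec (CommRingCat.of k)) = 𝟙 _) := by
  haveI : Subsingleton ↥(Spec (CommRingCat.of k)) :=
    inferInstanceAs (Subsingleton (PrimeSpectrum k))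
  haveI : IsIntegral X :=
    GeometricallyIntegral.isIntegral_of_subsingleton (X ↘ Spec (CommRingCat.of k))
  haveI : GeometricallyConnected (X ↘ Spec (CommRingCat.of k)) :=
    ⟨fun K _ y Z fst snd h => by
      haveI : IrreducibleSpace Z :=
        GeometricallyIrreducible.geometrically_irreducibleSpace y fst snd h
      infer_instance⟩
  have h0 : Module.finrank k (Coh.HH X (unitMod X) 0) = 1 := FF.finrank_HH0_eq_one k X
  haveI : (unitMod X).IsQuasicoherent := (PF.isCoh_unitMod X).1
  have he := Curve.euler_eq_sub k X hdim.le (unitMod X)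
  have hg : Curv2.genus k X = 0 := by
    unfold Curv2.genus
    have hpa' : 1 - Curv2.euler k X (unitMod X) ≤ 0 := hpa
    rw [he, h0] at hpa'
    have : (Module.finrank k (Coh.HH X (unitMod X) 1) : ℤ) ≤ 0 := by
      push_cast at hpa'
      linarith
    have h2 : Module.finrank k (Coh.HH X (unitMod X) 1) = 0 := by omega
    exact h2
  have hsm := smooth_of_geomIntegral_genus_zero k X hdim hg
  refine ⟨hsm, ?_, ?_⟩
  · rintro ⟨e, hE⟩
    refine ⟨Groth.Agent.H5.AG.sectionSpec 1 k ≫ e.inv, ?_⟩
    rw [Category.assoc, ← hE, Iso.inv_hom_id_assoc]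
    exact Groth.Agent.H5.AG.sectionSpec_toSpec 1 k
  · rintro ⟨s, hs⟩
    haveI := Curve.isLocallyNoetherian k X
    haveI : LocallyOfFinitePresentation (X ↘ Spec (CommRingCat.of k)) :=
      LocallyOfFinitePresentation.iff_locallyOfFiniteType.mpr inferInstance
    have ha : s default ∈ (X ↘ Spec (CommRingCat.of k)).smoothLocus := by
      rw [(X ↘ Spec (CommRingCat.of k)).smoothLocus_eq_top]
      trivial
    have hreg := Groth.Agent.H1.SmoothReg.isRegularLocalRing_of_mem_smoothLocus k
      (X ↘ Spec (CommRingCat.of k)) (s default) ha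
    obtain ⟨L, hL, hdeg⟩ :=
      exists_invertible_deg_one_of_regular_rational_point k X hdim s hs hreg
    have h1 : Subsingleton (Coh.HH X (Coh.structureModule X) 1) := by
      haveI : Module.Finite k (Coh.HH X (Coh.structureModule X) 1) :=
        Curve.finite_HH k X _ (PF.isCoh_unitMod X) 1
      exact Module.finrank_zero_iff.mp hg
    exact exists_iso_P1_of_h1_zero_of_deg_one k X hdim h1 L hL hdeg

end Groth.Agent.H5.Curve6
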