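import Mathlib
import Groth.Agent.Lib.Helper5.Curve6.PtDeg
import Groth.Agent.Lib.Lead.CohLES.DimBound

/-!
# Twisting an invertible module by the ideal of a closed point: bounds for `h⁰`.
-/

set_option autoImplicit false
universe u
open CategoryTheory CategoryTheory.Limits AlgebraicGeometry TopologicalSpace Opposite

namespace Groth.Agent.H5.Curve6

open Groth.Agent.LD Groth.Agent.LD.QC Groth.Agent.H5.Curve2 Groth.Agent.H5.Snap
  Groth.Agent.H5.DegC Groth.Agent.H5.Glue Groth.Agent.H5.Curve4

section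

attribute [local instance] Curv2.resAlgebra

variable (k : Type u) [Field k] (X : Scheme.{u}) [X.Over (Spec (CommRingCat.of k))]
  [IsProper (X ↘ Spec (CommRingCat.of k))]

/-- `h⁰(L ⊗ I) ≤ h⁰(L) ≤ h⁰(L ⊗ I) + h⁰(O/I)` for an ideal with zero-dimensional support
and a finite locally free module `L` of rank one. -/
theorem h0_tensor_idealMod_bounds (D : X.IdealSheafData)
    (hsupp : topologicalKrullDim (D.support : Set X) ≤ 0)
    (L : X.Modules) (hL : PicF.IsInvertible L) :
    Module.finrank k (Coh.HH X (CohB1.tensorMod L (ClSub.idealMod D)) 0) ≤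
        Module.finrank k (Coh.HH X L 0) ∧
      Module.finrank k (Coh.HH X L 0) ≤
        Module.finrank k (Coh.HH X (CohB1.tensorMod L (ClSub.idealMod D)) 0) +
          Module.finrank k (Coh.HH X (ClSub.quotMod D) 0) := by
  haveI : IsNoetherian X := Curve2.isNoetherian_of_proper k X
  have hL1 : FlatMod.IsFinLocFreeOfRank 1 L := (isInvertible_iff L).mp hL
  have hLc := Curve.isCoh_of_rank hL1
  have hQc : Coh.IsCoh (ClSub.quotMod D) := isCoh_quotMod D
  have hOc := Groth.Agent.LD.PF.isCoh_unitMod X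
  have hIc : Coh.IsCoh (ClSub.idealMod D) := isCoh_of_mono (ClSub.idealModι D) inferInstance hOc
  haveI : PreservesFiniteLimits (LT L) := preservesFiniteLimits_LT L (Curve.isFinLocFree_of_rank hL1)
  have hS := shortExact_idealMod D
  have hS' := hS.map_of_exact (LT L)
  have hsupp' : topologicalKrullDim (CohB1.support (ClSub.quotMod D)) ≤ 0 := by
    rw [support_quotMod]
    exact hsupp
  obtain ⟨d⟩ := nonempty_finDecomp_tensor (ClSub.quotMod D) hQc hsupp' 1 L hL1
  have e2 := d.finrank_HH k 0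
  rw [one_mul] at e2
  have e3 : Module.finrank k (Coh.HH X (CohB1.tensorMod L (ClSub.quotMod D)) 0) =
      Module.finrank k (Coh.HH X (ClSub.quotMod D) 0) := by
    rw [Curve2.finrank_HH_iso k _ (tensorCommAll L (ClSub.quotMod D)) 0, e2]
  have e1 : Module.finrank k (Coh.HH X (CohB1.tensorMod L (unitMod X)) 0) =
      Module.finrank k (Coh.HH X L 0) :=
    Curve2.finrank_HH_iso k _ (SecTwist.unitorR L) 0
  let S' : ShortComplex X.Modules := (ShortComplex.mk (ClSub.idealModι D) (ClSub.toSubscheme D)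
      (kernel.condition (ClSub.toSubscheme D))).map (LT L)
  have hS'' : S'.ShortExact := hS'
  haveI f1 : Module.Finite k (Coh.HH X S'.X₁ 0) :=
    Curve.finite_HH k X _ (isCoh_tensorMod' hLc hIc) 0
  haveI f2 : Module.Finite k (Coh.HH X S'.X₂ 0) :=
    Curve.finite_HH k X _ (isCoh_tensorMod' hLc hOc) 0
  haveI f3 : Module.Finite k (Coh.HH X S'.X₃ 0) :=
    Curve.finite_HH k X _ (isCoh_tensorMod' hLc hQc) 0
  have r1 : Module.finrank k (Coh.HH X S'.X₁ 0) ≤ Module.finrank k (Coh.HH X S'.X₂ 0) :=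
    LinearMap.finrank_le_finrank_of_injective (CL.HHmap_f_injective k hS'')
  have r2 : Module.finrank k (Coh.HH X S'.X₂ 0) ≤
      Module.finrank k (Coh.HH X S'.X₁ 0) + Module.finrank k (Coh.HH X S'.X₃ 0) :=
    CL.finrank_le_add_of_exact (CL.HHmap k S'.f 0) (CL.HHmap k S'.g 0)
      (fun y hy => CL.exact₂ hS'' k 0 y hy)
  have e1' : Module.finrank k (Coh.HH X S'.X₂ 0) = Module.finrank k (Coh.HH X L 0) := e1
  have e3' : Module.finrank k (Coh.HH X S'.X₃ 0) =
      Module.finrank k (Coh.HH X (ClSub.quotMod D) 0) := e3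
  rw [e1'] at r1 r2
  rw [e3'] at r2
  exact ⟨r1, r2⟩

/-- `h⁰(L' ⊗ I_x) ≤ h⁰(L') ≤ h⁰(L' ⊗ I_x) + [κ(x) : k]` for a closed point `x`. -/
theorem h0_tensor_pointIdeal_bounds (x : X) (hx : IsClosed ({x} : Set X))
    (L : X.Modules) (hL : PicF.IsInvertible L) :
    Module.finrank k (Coh.HH X
        (CohB1.tensorMod L (ClSub.idealMod (X.fromSpecResidueField x).ker)) 0) ≤
        Module.finrank k (Coh.HH X L 0) ∧
      Module.finrank k (Coh.HH X L 0) ≤
        Module.finrank k (Coh.HH X
          (CohB1.tensorMod L (ClSub.idealMod (X.fromSpecResidueField x).ker)) 0) +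
          Module.finrank k (X.residueField x) := by
  rw [← finrank_H0_quotMod_ker k X x hx]
  apply h0_tensor_idealMod_bounds k X _ ?_ L hL
  have h1 : ((X.fromSpecResidueField x).ker.support : Set X) = {x} := by
    rw [Scheme.Hom.support_ker, Scheme.range_fromSpecResidueField, hx.closure_eq]
  rw [h1]
  exact topologicalKrullDim_zero_of_discreteTopology _
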