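import Mathlib
import Groth.Agent.Lib.Helper5.Curve6.TwistEquiv
import Groth.Agent.Lib.Helper3.OmSm3
import Groth.Agent.Lib.Helper3.OmU3
import Groth.Agent.Lib.Helper1.EquiDim
import Groth.Agent.Lib.Helper1.DimFormula4

/-!
# The sheaf of differentials of a smooth curve is invertible.
-/

set_option autoImplicit false
universe u
open CategoryTheory CategoryTheory.Limits AlgebraicGeometry TopologicalSpace Opposite ZeroObject

namespace Groth.Agent.H5.Curve6

open Groth.Agent.LD Groth.Agent.LD.QC Groth.Agent.H5.Curve4 Groth.Agent.H5.DegC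

variable (k : Type u) [Field k] (X : Scheme.{u}) [X.Over (Spec (CommRingCat.of k))]
  [IsProper (X ↘ Spec (CommRingCat.of k))] [Smooth (X ↘ Spec (CommRingCat.of k))] [IsIntegral X]

/-- the sheaf of differentials of a smooth integral scheme of dimension `n` over a field is finite
locally free of rank `n`. -/
theorem isFinLocFreeOfRank_omega (n : ℕ) (hdim : topologicalKrullDim X = (n : WithBot ℕ∞)) :
    FlatMod.IsFinLocFreeOfRank n (Omega.sheaf (X ↘ Spec (CommRingCat.of k))) := by
  intro x
  obtain ⟨U, m, hxU, e, hm⟩ := Groth.Agent.H3.Om.exists_free_of_smooth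
    (Groth.Agent.H3.Om.isUniversal_dOmega (X ↘ Spec (CommRingCat.of k))) x
  rw [Groth.Agent.H1.DimFormula.fibreDimAt_eq_localDim_of_field,
    Groth.Agent.H1.EquiDim.localDim_eq_dim (X ↘ Spec (CommRingCat.of k)), hdim] at hm
  have hmn : n = m := by exact_mod_cast hm
  subst hmn
  exact ⟨U, hxU, e⟩

/-- a module isomorphic to the sheaf of differentials of a smooth proper integral curve is
invertible. -/
theorem isInvertible_of_iso_omega (hdim : topologicalKrullDim X = 1) {K : X.Modules}
    (eK : K ≅ Omega.sheaf (X ↘ Spec (CommRingCat.of k))) : PicF.IsInvertible K := by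
  have h1 := isFinLocFreeOfRank_omega k X 1 (by exact_mod_cast hdim)
  exact (isInvertible_iff K).mpr (isFinLocFreeOfRank_of_iso eK.symm h1)

end Groth.Agent.H5.Curve6
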